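/-
Sums over orbits cut into blocks by a normal submonoid.
-/
import Mathlib
set_option autoImplicit false
set_option linter.unusedSectionVars false

namespace CfsgLib.ClassicalMax.TWU

variable {Γ X M : Type*} [Group Γ] [MulAction Γ X] [AddCommMonoid M]

/-- A set of elements normalised by `Q`, closed under products, with representatives whose sum at
`y` vanishes. -/
def Block (Q : Subgroup Γ) (Φ : X → M) (y : X) : Prop :=
  ∃ S : Set Γ, 1 ∈ S ∧ (∀ a ∈ S, ∀ b ∈ S, a * b ∈ S) ∧ S ⊆ (Q : Set Γ) ∧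
    (∀ r ∈ Q, ∀ a ∈ S, r * a * r⁻¹ ∈ S) ∧
    ∃ P : Finset Γ, (∀ b ∈ P, b ∈ S) ∧
      (∀ a ∈ S, ∃ b ∈ P, a • y = b • y) ∧ Set.InjOn (fun b : Γ => b • y) (P : Set Γ) ∧
      ∑ b ∈ P, Φ (b • y) = 0

/-- A block given by a family of representatives. -/
lemma Block.of_family {Q : Subgroup Γ} {Φ : X → M} {y : X} (S : Set Γ) (h1 : 1 ∈ S)
    (hmul : ∀ a ∈ S, ∀ b ∈ S, a * b ∈ S) (hSQ : S ⊆ (Q : Set Γ))
    (hnor : ∀ r ∈ Q, ∀ a ∈ S, r * a * r⁻¹ ∈ S) {π : Type*} (P : Finset π) (r : π → Γ)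
    (hrS : ∀ i ∈ P, r i ∈ S) (hsur : ∀ a ∈ S, ∃ i ∈ P, a • y = r i • y)
    (hinj : ∀ i ∈ P, ∀ j ∈ P, r i • y = r j • y → i = j) (hsum : ∑ i ∈ P, Φ (r i • y) = 0) :
    Block Q Φ y := by
  classical
  refine ⟨S, h1, hmul, hSQ, hnor, P.image r, fun b hb => ?_, fun a ha => ?_, ?_, ?_⟩
  · obtain ⟨i, hi, rfl⟩ := Finset.mem_image.1 hb
    exact hrS i hi
  · obtain ⟨i, hi, e⟩ := hsur a ha
    exact ⟨r i, Finset.mem_image_of_mem r hi, e⟩
  · intro b hb b' hb' e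
    obtain ⟨i, hi, rfl⟩ := Finset.mem_image.1 hb
    obtain ⟨j, hj, rfl⟩ := Finset.mem_image.1 hb'
    rw [hinj i hi j hj e]
  · rw [Finset.sum_image fun i hi j hj e => hinj i hi j hj (by rw [e])]
    exact hsum

/-- A sum over an invariant set vanishes as soon as every point has a vanishing block. -/
theorem sum_eq_zero_of_blocks [Finite Γ] (Q : Subgroup Γ) (Φ : X → M)
    (hψ : ∀ r ∈ Q, ∃ ψ : M →+ M, ∀ x, Φ (r • x) = ψ (Φ x)) (U : Finset X)
    (hU : ∀ r ∈ Q, ∀ x ∈ U, r • x ∈ U) (h : ∀ y ∈ U, Block Q Φ y) :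
    ∑ x ∈ U, Φ x = 0 := by
  classical
  induction U using Finset.strongInduction with
  | _ U IH =>
  rcases U.eq_empty_or_nonempty with rfl | ⟨y, hy⟩
  · simp
  set O := U.filter fun x => ∃ r ∈ Q, r • y = x with hO
  have hOU : O ⊆ U := Finset.filter_subset _ _
  have hyO : y ∈ O := Finset.mem_filter.2 ⟨hy, 1, Q.one_mem, one_smul _ _⟩
  rw [← Finset.sum_sdiff hOU, IH (U \ O) (Finset.sdiff_ssubset hOU ⟨y, hyO⟩)
    (fun r hr x hx => by
      rw [Finset.mem_sdiff] at hx ⊢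
      refine ⟨hU r hr x hx.1, fun hrx => hx.2 ?_⟩
      obtain ⟨-, r', hr', e⟩ := Finset.mem_filter.1 hrx
      exact Finset.mem_filter.2 ⟨hx.1, r⁻¹ * r', Q.mul_mem (Q.inv_mem hr) hr', by
        rw [mul_smul, e, inv_smul_smul]⟩)
    (fun x hx => h x (Finset.mem_sdiff.1 hx).1), zero_add]
  obtain ⟨S, h1, hmul, hSQ, hnor, P, hrS, hsur, hinj, hsum⟩ := h y hy
  have hinv : ∀ a ∈ S, a⁻¹ ∈ S := by
    intro a ha
    have hp : ∀ n : ℕ, a ^ n ∈ S := fun n => by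
      induction n with
      | zero => rwa [pow_zero]
      | succ n ih => rw [pow_succ]; exact hmul _ ih _ ha
    obtain ⟨k, hk⟩ : ∃ k, orderOf a = k + 1 :=
      ⟨orderOf a - 1, by have := orderOf_pos_iff.2 (isOfFinOrder_of_finite a); omega⟩
    rw [show a⁻¹ = a ^ k from inv_eq_of_mul_eq_one_right (by
      rw [← pow_succ', ← hk, pow_orderOf_eq_one])]
    exact hp k
  let B : X → Finset X := fun x => O.filter fun x' => ∃ a ∈ S, a • x = x'
  rw [← Finset.sum_fiberwise_of_maps_to (g := B) (fun x hx => Finset.mem_image_of_mem B hx) Φ]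
  refine Finset.sum_eq_zero fun b hb => ?_
  obtain ⟨x, hx, rfl⟩ := Finset.mem_image.1 hb
  obtain ⟨-, r₀, hr₀, rfl⟩ := Finset.mem_filter.1 hx
  have hmemO : ∀ a ∈ Q, a • y ∈ O := fun a ha => Finset.mem_filter.2 ⟨hU a ha y hy, a, ha, rfl⟩
  have hfib : (O.filter fun x' => B x' = B (r₀ • y)) = P.image (fun b => r₀ • b • y) := by
    ext x'
    simp only [Finset.mem_filter, Finset.mem_image]
    constructor
    · rintro ⟨hx', he⟩
      have hself : x' ∈ B x' := Finset.mem_filter.2 ⟨hx', 1, h1, one_smul _ _⟩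
      rw [he] at hself
      obtain ⟨-, a, ha, hax⟩ := Finset.mem_filter.1 hself
      have hc : r₀⁻¹ * a * r₀ ∈ S := by
        have := hnor r₀⁻¹ (Q.inv_mem hr₀) a ha
        rwa [inv_inv] at this
      obtain ⟨i, hi, hia⟩ := hsur _ hc
      exact ⟨i, hi, by rw [← hia, ← mul_smul, ← mul_assoc, mul_inv_cancel_left, mul_smul, hax]⟩
    · rintro ⟨i, hi, rfl⟩
      have ha : r₀ * i * r₀⁻¹ ∈ S := hnor r₀ hr₀ _ (hrS i hi)
      have hm : r₀ • i • y = (r₀ * i * r₀⁻¹) • r₀ • y := by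
        rw [← mul_smul, ← mul_smul]; congr 1; group
      refine ⟨by rw [← mul_smul]; exact hmemO _ (Q.mul_mem hr₀ (hSQ (hrS i hi))), ?_⟩
      rw [hm]
      refine Finset.filter_congr fun z _ => ⟨?_, ?_⟩
      · rintro ⟨a, ha', rfl⟩
        exact ⟨a * (r₀ * i * r₀⁻¹), hmul _ ha' _ ha, mul_smul _ _ _⟩
      · rintro ⟨a, ha', rfl⟩
        exact ⟨a * (r₀ * i * r₀⁻¹)⁻¹, hmul _ ha' _ (hinv _ ha), by
          rw [mul_smul, inv_smul_smul]⟩
  obtain ⟨ψ, hψ⟩ := hψ r₀ hr₀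
  rw [hfib, Finset.sum_image (fun i hi j hj e => hinj hi hj (MulAction.injective r₀ e))]
  simp only [hψ]
  rw [← map_sum, hsum, map_zero]

end CfsgLib.ClassicalMax.TWU
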