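/-
Tensor powers: pure vectors, splittings at a slot and membership in the wreath group.
-/
import Cfsg.Agent.Lib.ClassicalMax.TensorSL
import Cfsg.Agent.Lib.Aschbacher.Tensor
set_option autoImplicit false
set_option linter.unusedSectionVars false

namespace CfsgLib.ClassicalMax.TWU

open Matrix Kronecker Module Cfsg.Geo
open CfsgLib.ClassicalMax.Kron
open CfsgLib.Asch (pw permMat pwUnit permUnit pwUnit_mem permUnit_mem)

local notation:80 g:81 " •ᵥ " z:80 => Matrix.mulVec (Units.val g) z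

variable {F : Type*} [Field F] [DecidableEq F] {m t s : ℕ}

/-- The pure vector with the given factors. -/
def pv (u : Fin t → Fin m → F) : (Fin t → Fin m) → F := fun x => ∏ i, u i (x i)

lemma pv_single (x : Fin t → Fin m) :
    pv (fun i => Pi.single (x i) (1 : F)) = Pi.single x 1 := by
  funext y
  rcases eq_or_ne y x with rfl | h
  · simp [pv]
  · obtain ⟨i, hi⟩ := Function.ne_iff.1 h
    rw [Pi.single_eq_of_ne h]
    exact Finset.prod_eq_zero (Finset.mem_univ i) (Pi.single_eq_of_ne hi _)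

/-- Linear maps agreeing on pure vectors are equal. -/
lemma pv_ext {W : Type*} [AddCommGroup W] [Module F W]
    {f g : ((Fin t → Fin m) → F) →ₗ[F] W} (h : ∀ u, f (pv u) = g (pv u)) : f = g :=
  LinearMap.pi_ext fun x c => by
    rw [show (Pi.single x c : (Fin t → Fin m) → F) = c • Pi.single x 1 by
      rw [← Pi.single_smul, smul_eq_mul, mul_one], map_smul, map_smul, ← pv_single, h]

lemma gl_ext_pv {g h : GL (Fin t → Fin m) F} (e : ∀ u, g •ᵥ pv u = h •ᵥ pv u) : g = h := by
  have := pv_ext (f := Matrix.toLin' (g : Matrix (Fin t → Fin m) (Fin t → Fin m) F))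
    (g := Matrix.toLin' (h : Matrix (Fin t → Fin m) (Fin t → Fin m) F)) fun u => by
      simpa [Matrix.toLin'_apply] using e u
  exact Units.ext (Matrix.toLin'.injective this)

lemma pw_mulVec (A : Fin t → Matrix (Fin m) (Fin m) F) (u : Fin t → Fin m → F) :
    pw A *ᵥ pv u = pv fun i => A i *ᵥ u i := by
  funext x
  simp only [mulVec, dotProduct, pw, Matrix.of_apply, pv, ← Finset.prod_mul_distrib]
  exact (Fintype.prod_sum (fun i a => A i (x i) a * u i a)).symm

lemma permMat_mulVec (σ : Equiv.Perm (Fin t)) (u : Fin t → Fin m → F) :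
    (permMat σ : Matrix (Fin t → Fin m) (Fin t → Fin m) F) *ᵥ pv u = pv fun i => u (σ⁻¹ i) := by
  funext x
  simp only [mulVec, dotProduct, permMat, Matrix.of_apply, ite_mul, one_mul, zero_mul,
    Finset.sum_ite_eq', Finset.mem_univ, if_true, pv, Function.comp_apply]
  refine (Equiv.prod_comp σ⁻¹ (fun i => u i (x (σ i)))).symm.trans ?_
  simp

/-- `g` permutes the factors and acts on each of them. -/
def IsWr (g : GL (Fin t → Fin m) F) : Prop :=
  ∃ (σ : Equiv.Perm (Fin t)) (a : Fin t → GL (Fin m) F),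
    ∀ u, g •ᵥ pv u = pv fun i => a i •ᵥ u (σ i)

lemma isWr_pw (a : Fin t → GL (Fin m) F) : IsWr (pwUnit a) :=
  ⟨1, a, fun u => pw_mulVec _ u⟩

lemma isWr_perm (σ : Equiv.Perm (Fin t)) : IsWr (permUnit (F := F) (m := m) σ) :=
  ⟨σ⁻¹, fun _ => 1, fun u => by
    rw [show (Units.val (permUnit (F := F) (m := m) σ)) = permMat σ from rfl, permMat_mulVec]
    simp⟩

/-- The elements permuting the factors form a group. -/
def wr (m t : ℕ) (F : Type*) [Field F] [DecidableEq F] : Subgroup (GL (Fin t → Fin m) F) where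
  carrier := {g | IsWr g}
  one_mem' := ⟨1, fun _ => 1, fun u => by simp⟩
  mul_mem' {g h} := by
    rintro ⟨σ, a, hg⟩ ⟨τ, b, hh⟩
    refine ⟨τ * σ, fun i => a i * b (σ i), fun u => ?_⟩
    rw [gl_mulVec_mul, hh, hg]
    congr 1
    funext i
    rw [gl_mulVec_mul, Equiv.Perm.mul_apply]
  inv_mem' {g} := by
    rintro ⟨σ, a, hg⟩
    refine ⟨σ⁻¹, fun i => (a (σ⁻¹ i))⁻¹, fun u => gl_mulVec_injective g ?_⟩
    show g •ᵥ _ = g •ᵥ _
    rw [gl_mulVec_inv_mulVec, hg]
    congr 1
    funext i
    simp [gl_mulVec_inv_mulVec]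

lemma mem_wr {g : GL (Fin t → Fin m) F} : g ∈ wr m t F ↔ IsWr g := Iff.rfl

lemma wr_eq : tensorWreathStandard m t F = wr m t F := by
  refine le_antisymm ((Subgroup.closure_le _).2 ?_) fun g hg => ?_
  · rintro g (⟨a, ha⟩ | ⟨σ, hσ⟩)
    · rw [show g = pwUnit a from Units.ext (Matrix.ext fun x y => ha x y)]
      exact isWr_pw a
    · rw [show g = permUnit σ from Units.ext (Matrix.ext fun x y => hσ x y)]
      exact isWr_perm σ
  · obtain ⟨σ, a, h⟩ := hg
    rw [show g = pwUnit a * permUnit σ⁻¹ from gl_ext_pv fun u => by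
      rw [h, gl_mulVec_mul,
        show (Units.val (permUnit (F := F) (m := m) σ⁻¹)) = permMat σ⁻¹ from rfl, permMat_mulVec,
        show (Units.val (pwUnit a)) = pw (fun i => (a i : Matrix (Fin m) (Fin m) F)) from rfl,
        pw_mulVec, inv_inv]]
    exact mul_mem (pwUnit_mem a) (permUnit_mem σ⁻¹)

/-! ### Splitting off a slot -/

/-- The index of the other slots. -/
def enc (m t : ℕ) : (Fin t → Fin m) ≃ Fin (m ^ t) := finFunctionFinEquiv

/-- The pure vector of the other slots, on `Fin (m ^ t)`. -/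
def pvE (u : Fin t → Fin m → F) : Fin (m ^ t) → F := pv u ∘ (enc m t).symm

/-- The splitting of the indices at the slot `i`. -/
def split (i : Fin (s + 1)) : (Fin (s + 1) → Fin m) ≃ Fin (m ^ s) × Fin m :=
  (Fin.insertNthEquiv (fun _ => Fin m) i).symm.trans
    ((Equiv.prodComm _ _).trans (Equiv.prodCongr (enc m s) (Equiv.refl _)))

lemma split_symm_apply (i : Fin (s + 1)) (x : Fin (m ^ s)) (j : Fin m) :
    (split i).symm (x, j) = Fin.insertNth i j ((enc m s).symm x) := rfl

lemma pv_split (i : Fin (s + 1)) (u : Fin (s + 1) → Fin m → F) :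
    pv u ∘ (split i).symm = pt (pvE fun k => u (i.succAbove k)) (u i) := by
  funext ⟨x, j⟩
  simp only [Function.comp_apply, split_symm_apply, pv, pt, pvE]
  rw [Fin.prod_univ_succAbove _ i, Fin.insertNth_apply_same, mul_comm]
  simp [Fin.insertNth_apply_succAbove]

lemma pt_pvE (i : Fin (s + 1)) (u : Fin s → Fin m → F) (w : Fin m → F) :
    pt (pvE u) w = pv (i.insertNth w u) ∘ (split i).symm := by
  rw [pv_split, Fin.insertNth_apply_same]
  simp [Fin.insertNth_apply_succAbove]

lemma pvE_ext {W : Type*} [AddCommGroup W] [Module F W]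
    {f g : (Fin (m ^ t) → F) →ₗ[F] W} (h : ∀ u, f (pvE u) = g (pvE u)) : f = g := by
  have := pv_ext (f := f ∘ₗ LinearMap.funLeft F F (enc m t).symm)
    (g := g ∘ₗ LinearMap.funLeft F F (enc m t).symm) fun u => h u
  refine LinearMap.ext fun z => ?_
  have h1 := LinearMap.congr_fun this (z ∘ enc m t)
  have e : LinearMap.funLeft F F (enc m t).symm (z ∘ enc m t) = z := by
    funext x; simp [LinearMap.funLeft_apply]
  simpa [e] using h1

/-- An element read at the slot `i`. -/
def at' (i : Fin (s + 1)) :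
    GL (Fin (s + 1) → Fin m) F ≃* GL (Fin (m ^ s) × Fin m) F :=
  glReindex (split i)

lemma at'_mulVec (i : Fin (s + 1)) (g : GL (Fin (s + 1) → Fin m) F)
    (z : (Fin (s + 1) → Fin m) → F) :
    at' i g •ᵥ (z ∘ (split i).symm) = (g •ᵥ z) ∘ (split i).symm := by
  show ((g : Matrix (Fin (s + 1) → Fin m) (Fin (s + 1) → Fin m) F).submatrix (split i).symm
    (split i).symm) *ᵥ _ = _
  rw [Matrix.submatrix_mulVec_equiv]
  simp [Function.comp_assoc]

lemma at'_pv (i : Fin (s + 1)) (g : GL (Fin (s + 1) → Fin m) F)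
    (u : Fin (s + 1) → Fin m → F) :
    at' i g •ᵥ pt (pvE fun k => u (i.succAbove k)) (u i) = (g •ᵥ pv u) ∘ (split i).symm := by
  rw [← pv_split, at'_mulVec]

/-- An element of the other slots, on `Fin (m ^ t)`. -/
def onE : GL (Fin t → Fin m) F ≃* GL (Fin (m ^ t)) F := glReindex (enc m t)

lemma onE_mulVec (g : GL (Fin t → Fin m) F) (z : (Fin t → Fin m) → F) :
    onE g •ᵥ (z ∘ (enc m t).symm) = (g •ᵥ z) ∘ (enc m t).symm := by
  show ((g : Matrix (Fin t → Fin m) (Fin t → Fin m) F).submatrix (enc m t).symm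
    (enc m t).symm) *ᵥ _ = _
  rw [Matrix.submatrix_mulVec_equiv]
  simp [Function.comp_assoc]

/-- A tensor whose first factor permutes the other slots permutes all of them. -/
lemma isWr_of_split {i j : Fin (s + 1)} {g : GL (Fin (s + 1) → Fin m) F}
    {A : GL (Fin s → Fin m) F} (hA : IsWr A) {B : GL (Fin m) F}
    (h : ∀ u, (g •ᵥ pv u) ∘ (split j).symm =
      pt (onE A •ᵥ pvE fun k => u (i.succAbove k)) (B •ᵥ u i)) : IsWr g := by
  obtain ⟨σ, a, ha⟩ := hA
  let π : Equiv.Perm (Fin (s + 1)) :=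
    (finSuccEquiv' j).trans ((Equiv.optionCongr σ).trans (finSuccEquiv' i).symm)
  have hπj : π j = i := by simp [π]
  have hπ : ∀ k, π (j.succAbove k) = i.succAbove (σ k) := fun k => by simp [π]
  refine ⟨π, j.insertNth B a, fun u => ?_⟩
  refine (split j).symm.surjective.injective_comp_right ?_
  show (g •ᵥ pv u) ∘ (split j).symm = pv _ ∘ (split j).symm
  rw [h, pv_split]
  congr 1
  · show onE A •ᵥ (pv _ ∘ (enc m s).symm) = _
    rw [onE_mulVec, ha]
    show pvE _ = pvE _
    congr 1
    funext k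
    simp [hπ]
  · simp [hπj]

end CfsgLib.ClassicalMax.TWU
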