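/-
Tensor powers: elements of the wreath group with a small residual space.

An element with square zero translation part of rank at most `n / m` moves at most one slot, or, for
`m = 3` in characteristic two, is a transposition of two slots.
-/
import Cfsg.Agent.Lib.ClassicalMax.TWU.Slots
set_option autoImplicit false
set_option linter.unusedSectionVars false

namespace CfsgLib.ClassicalMax.TWU

open Matrix Kronecker Module Cfsg.Geo
open CfsgLib.ClassicalMax.Kron

local notation:80 g:81 " •ᵥ " z:80 => Matrix.mulVec (Units.val g) z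

variable {F : Type*} [Field F] [DecidableEq F] {a b m t s : ℕ}

/-- A map fixing every line is a scalar. -/
lemma scalar_of_eigen {V : Type*} [AddCommGroup V] [Module F V] {P : V →ₗ[F] V}
    (h : ∀ w, P w ∈ Submodule.span F {w}) : ∃ c : F, ∀ x, P x = c • x := by
  by_cases hV : ∀ x : V, x = 0
  · exact ⟨0, fun x => by simp [hV x]⟩
  push Not at hV
  obtain ⟨x₀, hx₀⟩ := hV
  obtain ⟨c, hc⟩ := Submodule.mem_span_singleton.1 (h x₀)
  refine ⟨c, fun x => ?_⟩
  by_cases hl : x ∈ Submodule.span F {x₀}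
  · obtain ⟨d, rfl⟩ := Submodule.mem_span_singleton.1 hl
    rw [map_smul, ← hc, smul_comm]
  obtain ⟨d, hd⟩ := Submodule.mem_span_singleton.1 (h x)
  obtain ⟨e, he⟩ := Submodule.mem_span_singleton.1 (h (x + x₀))
  rw [map_add, ← hd, ← hc, smul_add] at he
  have h1 : (e - d) • x = (c - e) • x₀ := by linear_combination (norm := module) he
  rcases eq_or_ne (e - d) 0 with h0 | h0
  · rw [h0, zero_smul] at h1
    rw [← hd, ← sub_eq_zero.1 h0, sub_eq_zero.1 ((smul_eq_zero.1 h1.symm).resolve_right hx₀)]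
  · exact absurd (Submodule.mem_span_singleton.2 ⟨(e - d)⁻¹ * (c - e), by
      rw [mul_smul, ← h1, inv_smul_smul₀ h0]⟩) hl

/-- Two independent non-scalar parts have a large image. -/
theorem lt_finrank_range (hb : 3 ≤ b) {D : (Fin a × Fin b → F) →ₗ[F] (Fin a × Fin b → F)}
    {Q R : (Fin a → F) →ₗ[F] (Fin a → F)} {P : (Fin b → F) →ₗ[F] (Fin b → F)}
    (hD : ∀ x w, D (pt x w) = pt (Q x) (P w) + pt (R x) w) (hQ : Function.Injective Q)
    (hP : ¬ ∃ c : F, ∀ w, P w = c • w) (hR : ¬ ∃ c : F, ∀ x, R x = c • Q x) :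
    a < finrank F (LinearMap.range D) := by
  by_contra hle
  push Not at hle
  haveI : Nonempty (Fin b) := ⟨⟨0, by omega⟩⟩
  obtain ⟨w₁, hw₁⟩ : ∃ w, P w ∉ Submodule.span F {w} := by
    by_contra hcon
    push Not at hcon
    exact hP (scalar_of_eigen hcon)
  have hinj : Function.Injective (D ∘ₗ ptR w₁) := by
    obtain ⟨η, h1, h2⟩ := exists_dot_eq hw₁
    refine (injective_iff_map_eq_zero _).2 fun x hx => hQ ?_
    have := congrArg (con η) hx
    simpa [hD, con_pt, h1, h2] using this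
  have heq : LinearMap.range (D ∘ₗ ptR w₁) = LinearMap.range D :=
    Submodule.eq_of_le_of_finrank_le (LinearMap.range_comp_le_range _ _) (by
      rw [LinearMap.finrank_range_of_inj hinj, finrank_fin_fun]; exact hle)
  let K : Submodule F (Fin b → F) := Submodule.span F {w₁, P w₁}
  have hK : K ≠ ⊤ := fun e => by
    have h1 : finrank F K ≤ 2 := by
      classical
      refine (finrank_span_le_card ({w₁, P w₁} : Set (Fin b → F))).trans ?_
      rw [Set.toFinset_insert, Set.toFinset_singleton]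
      exact Finset.card_le_two
    rw [e, finrank_top, finrank_fin_fun] at h1
    omega
  obtain ⟨w₂, hw₂K⟩ : ∃ w, w ∉ K := by
    by_contra hcon
    push Not at hcon
    exact hK (Submodule.eq_top_iff'.2 hcon)
  obtain ⟨f, hf, hfK⟩ := Submodule.exists_dual_map_eq_bot_of_notMem hw₂K inferInstance
  let χ : Fin b → F := fun j => (f w₂)⁻¹ * f (Pi.single j 1)
  have hχ : ∀ w, χ ⬝ᵥ w = (f w₂)⁻¹ * f w := fun w => by
    conv_rhs => rw [pi_eq_sum_univ' w, map_sum, Finset.mul_sum]
    refine Finset.sum_congr rfl fun j _ => ?_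
    rw [map_smul, smul_eq_mul]
    ring
  have hχ0 : ∀ w ∈ K, χ ⬝ᵥ w = 0 := fun w hw => by
    rw [hχ, (Submodule.mem_bot F).1 (hfK ▸ Submodule.mem_map_of_mem hw : f w ∈ (⊥ : Submodule F F)),
      mul_zero]
  refine hR ⟨-(χ ⬝ᵥ P w₂), fun x => ?_⟩
  obtain ⟨y, hy⟩ : D (pt x w₂) ∈ LinearMap.range (D ∘ₗ ptR w₁) := heq ▸ LinearMap.mem_range_self D _
  have h1 := congrArg (con χ) hy
  have e1 : χ ⬝ᵥ w₁ = 0 := hχ0 _ (Submodule.subset_span (by simp))
  have e2 : χ ⬝ᵥ P w₁ = 0 := hχ0 _ (Submodule.subset_span (by simp))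
  have e3 : χ ⬝ᵥ w₂ = 1 := by rw [hχ, inv_mul_cancel₀ hf]
  simp only [LinearMap.comp_apply, ptR_apply, hD, map_add, con_pt, e1, e2, e3, zero_smul, add_zero,
    one_smul] at h1
  rw [neg_smul, eq_neg_iff_add_eq_zero, add_comm]
  exact h1.symm

end CfsgLib.ClassicalMax.TWU
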