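/-
Tensor powers: quadratic elements of the wreath group of rank at most `n / m` act on one slot, or,
for `m = 3` in characteristic two, exchange two slots.
-/
import Cfsg.Agent.Lib.ClassicalMax.TWU.Rank
set_option autoImplicit false
set_option linter.unusedSectionVars false

namespace CfsgLib.ClassicalMax.TWU

open Matrix Kronecker Module Cfsg.Geo
open CfsgLib.ClassicalMax.Kron
open CfsgLib.Asch (pw permMat pwUnit permUnit pwUnit_mem permUnit_mem)

local notation:80 g:81 " •ᵥ " z:80 => Matrix.mulVec (Units.val g) z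

variable {F : Type*} [Field F] [DecidableEq F] {a b m t s : ℕ}

lemma pv_dot (η u : Fin t → Fin m → F) : pv η ⬝ᵥ pv u = ∏ i, η i ⬝ᵥ u i := by
  simp only [dotProduct, pv, ← Finset.prod_mul_distrib]
  exact (Fintype.prod_sum (fun i a => η i a * u i a)).symm

/-- A vector separated from two others. -/
lemma exists_dot_two (hm : 3 ≤ m) (x y : Fin m → F) :
    ∃ w η : Fin m → F, η ⬝ᵥ x = 0 ∧ η ⬝ᵥ y = 0 ∧ η ⬝ᵥ w = 1 := by
  classical
  let K : Submodule F (Fin m → F) := Submodule.span F {x, y}
  obtain ⟨w, hw⟩ : ∃ w, w ∉ K := by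
    by_contra hcon
    push Not at hcon
    have h1 : finrank F K ≤ 2 := by
      refine (finrank_span_le_card ({x, y} : Set (Fin m → F))).trans ?_
      rw [Set.toFinset_insert, Set.toFinset_singleton]
      exact Finset.card_le_two
    rw [Submodule.eq_top_iff'.2 hcon, finrank_top, finrank_fin_fun] at h1
    omega
  obtain ⟨f, hf, hfK⟩ := Submodule.exists_dual_map_eq_bot_of_notMem hw inferInstance
  refine ⟨w, fun j => (f w)⁻¹ * f (Pi.single j 1), ?_⟩
  have hχ : ∀ z, (fun j => (f w)⁻¹ * f (Pi.single j 1)) ⬝ᵥ z = (f w)⁻¹ * f z := fun z => by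
    conv_rhs => rw [pi_eq_sum_univ' z, map_sum, Finset.mul_sum]
    refine Finset.sum_congr rfl fun j _ => ?_
    rw [map_smul, smul_eq_mul]
    ring
  have h0 : ∀ z ∈ K, f z = 0 := fun z hz =>
    (Submodule.mem_bot F).1 (hfK ▸ Submodule.mem_map_of_mem hz)
  exact ⟨by rw [hχ, h0 x (Submodule.subset_span (by simp)), mul_zero],
    by rw [hχ, h0 y (Submodule.subset_span (by simp)), mul_zero], by rw [hχ, inv_mul_cancel₀ hf]⟩

/-- Functionals normalised on the factors of a pure vector with non-zero factors. -/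
lemma exists_duals {u : Fin t → Fin m → F} (hu : ∀ i, u i ≠ 0) :
    ∃ η : Fin t → Fin m → F, ∀ i, η i ⬝ᵥ u i = 1 :=
  ⟨fun i => (exists_sum_dot (hu i)).choose, fun i => (exists_sum_dot (hu i)).choose_spec⟩

lemma gl_mulVec_ne_zero {ι : Type} [Fintype ι] [DecidableEq ι] (g : GL ι F) {x : ι → F}
    (hx : x ≠ 0) : g •ᵥ x ≠ 0 := fun e => hx (gl_mulVec_injective g (e.trans (mulVec_zero _).symm))

/-- The element acts only on the slot `i`. -/
def IsSlot (i : Fin (s + 1)) (g : GL (Fin (s + 1) → Fin m) F) : Prop :=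
  ∃ B : GL (Fin m) F, at' i g = kronGL 1 B

/-- A pure tensor at a slot. -/
lemma at'_pw (i : Fin (s + 1)) (a : Fin (s + 1) → GL (Fin m) F) :
    at' i (pwUnit a) = kronGL (onE (pwUnit fun k => a (i.succAbove k))) (a i) := by
  refine gl_ext_pt fun x w => ?_
  have := pvE_ext
    (f := (Matrix.toLin' (at' i (pwUnit a) : Matrix (Fin (m ^ s) × Fin m) (Fin (m ^ s) × Fin m) F)) ∘ₗ
      ptR w)
    (g := (Matrix.toLin' (kronGL (onE (pwUnit fun k => a (i.succAbove k))) (a i) :
      Matrix (Fin (m ^ s) × Fin m) (Fin (m ^ s) × Fin m) F)) ∘ₗ ptR w) fun u => by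
      simp only [LinearMap.comp_apply, Matrix.toLin'_apply, ptR_apply]
      rw [pt_pvE i, at'_mulVec, ← pt_pvE i, kronGL_pt]
      rw [show (Units.val (pwUnit a)) = pw (fun i => (a i : Matrix (Fin m) (Fin m) F)) from rfl,
        pw_mulVec, pv_split]
      congr 1
      · show pvE _ = onE _ •ᵥ (pv u ∘ (enc m s).symm)
        rw [onE_mulVec, show (Units.val (pwUnit fun k => a (i.succAbove k))) =
          pw (fun k => (a (i.succAbove k) : Matrix (Fin m) (Fin m) F)) from rfl, pw_mulVec]
        simp [pvE]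
      · simp
  simpa [Matrix.toLin'_apply] using LinearMap.congr_fun this x

lemma kronGL_eq_one {A : GL (Fin a) F} {B : GL (Fin b) F} (ha : 0 < a) (h : kronGL A B = 1) :
    ∃ c : F, ∀ w, B •ᵥ w = c • w := by
  haveI : Nonempty (Fin a) := ⟨⟨0, ha⟩⟩
  obtain ⟨x₀, hx₀⟩ := exists_ne (0 : Fin a → F)
  obtain ⟨η, hη⟩ := exists_sum_dot (gl_mulVec_ne_zero A hx₀)
  refine ⟨η ⬝ᵥ x₀, fun w => ?_⟩
  have := kronGL_pt A B x₀ w
  rw [h, Units.val_one, one_mulVec] at this
  have h1 := congrArg (TensorSL.lcon η) this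
  rw [TensorSL.lcon_pt, TensorSL.lcon_pt, hη, one_smul] at h1
  exact h1.symm

lemma pw_eq_one {a : Fin (s + 1) → GL (Fin m) F} (hm : 0 < m) (h : pwUnit a = 1)
    (k : Fin (s + 1)) : ∃ c : F, ∀ w, a k •ᵥ w = c • w :=
  kronGL_eq_one (pow_pos hm s) (by rw [← at'_pw, h, map_one])

/-- A translation part of square zero. -/
def Quad {ι : Type} [Fintype ι] [DecidableEq ι] (g : GL ι F) : Prop :=
  ∀ z, g •ᵥ (g •ᵥ z - z) = g •ᵥ z - z

/-- The residual space. -/
def res {ι : Type} [Fintype ι] [DecidableEq ι] (g : GL ι F) : Submodule F (ι → F) :=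
  LinearMap.range (Matrix.toLin' (g : Matrix ι ι F) - LinearMap.id)

lemma slot_of_pw (hm : 3 ≤ m) {a : Fin (s + 1) → GL (Fin m) F}
    (hr : finrank F (res (pwUnit a)) ≤ m ^ s) : ∃ i, IsSlot i (pwUnit a) := by
  by_cases hall : ∀ i, ∃ c : F, ∀ w, a i •ᵥ w = c • w
  · choose c hc using hall
    have hg : ∀ u, pwUnit a •ᵥ pv u = (∏ i, c i) • pv u := fun u => by
      rw [show (Units.val (pwUnit a)) = pw (fun i => (a i : Matrix (Fin m) (Fin m) F)) from rfl,
        pw_mulVec]
      funext x
      simp [pv, hc, Finset.prod_mul_distrib]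
    have hc0 : (∏ i, c i) ≠ 0 := fun e => by
      have hu : ∀ i : Fin (s + 1), (fun _ => (1 : F)) ≠ (0 : Fin m → F) := fun _ h =>
        one_ne_zero (congrFun h ⟨0, by omega⟩)
      obtain ⟨η, hη⟩ := exists_duals hu
      have h1 := hg fun _ _ => 1
      rw [e, zero_smul] at h1
      have h2 := gl_mulVec_injective (pwUnit a) (h1.trans (mulVec_zero _).symm)
      have h3 := pv_dot η (fun _ _ => (1 : F))
      rw [h2, dotProduct_zero, Finset.prod_eq_one fun i _ => hη i] at h3
      exact one_ne_zero h3.symm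
    obtain ⟨B, hB⟩ : ∃ B : GL (Fin m) F, ∀ w, B •ᵥ w = (∏ i, c i) • w :=
      ⟨Units.map (algebraMap F (Matrix (Fin m) (Fin m) F)).toMonoidHom (Units.mk0 _ hc0), fun w => by
        simp [Algebra.algebraMap_eq_smul_one, smul_mulVec]⟩
    refine ⟨0, B, gl_ext_pt fun x w => ?_⟩
    have := pvE_ext
      (f := (Matrix.toLin' (at' 0 (pwUnit a) : Matrix (Fin (m ^ s) × Fin m) (Fin (m ^ s) × Fin m) F)) ∘ₗ
        ptR w)
      (g := (∏ i, c i) • ptR w) fun u => by
        simp only [LinearMap.comp_apply, Matrix.toLin'_apply, ptR_apply, LinearMap.smul_apply]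
        rw [pt_pvE 0, at'_mulVec, hg]
        rfl
    have := LinearMap.congr_fun this x
    simp only [LinearMap.comp_apply, Matrix.toLin'_apply, ptR_apply, LinearMap.smul_apply] at this
    rw [this, kronGL_pt, hB, Units.val_one, one_mulVec, pt_smul_right]
  · push Not at hall
    obtain ⟨i, hi⟩ := hall
    refine ⟨i, ?_⟩
    set A := onE (pwUnit fun k => a (i.succAbove k))
    have hA : at' i (pwUnit a) = kronGL A (a i) := at'_pw i a
    by_contra hcon
    have hR : ¬ ∃ c : F, ∀ x, (-LinearMap.id : (Fin (m ^ s) → F) →ₗ[F] (Fin (m ^ s) → F)) x =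
        c • Matrix.toLin' (A : Matrix (Fin (m ^ s)) (Fin (m ^ s)) F) x := by
      rintro ⟨c, hc⟩
      haveI : Nonempty (Fin (m ^ s)) := ⟨⟨0, pow_pos (by omega) s⟩⟩
      obtain ⟨x₀, hx₀⟩ := exists_ne (0 : Fin (m ^ s) → F)
      have hc0 : c ≠ 0 := fun e => hx₀ (by
        have := hc x₀
        rw [e, zero_smul, LinearMap.neg_apply, LinearMap.id_apply, neg_eq_zero] at this
        exact this)
      have hAx : ∀ x, A •ᵥ x = (-c⁻¹) • x := fun x => by
        have := hc x
        rw [LinearMap.neg_apply, LinearMap.id_apply, Matrix.toLin'_apply] at this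
        rw [neg_smul, ← smul_neg, this, inv_smul_smul₀ hc0]
      refine hcon ⟨Units.map (algebraMap F (Matrix (Fin m) (Fin m) F)).toMonoidHom
        (Units.mk0 (-c⁻¹) (neg_ne_zero.2 (inv_ne_zero hc0))) * a i, gl_ext_pt fun x w => ?_⟩
      rw [hA, kronGL_pt, kronGL_pt, hAx, Units.val_one, one_mulVec, gl_mulVec_mul, pt_smul_left,
        ← pt_smul_right]
      simp [Algebra.algebraMap_eq_smul_one, smul_mulVec, neg_mulVec]
    have hlt := lt_finrank_range (by omega : 3 ≤ m)
      (D := Matrix.toLin' (at' i (pwUnit a) : Matrix (Fin (m ^ s) × Fin m) (Fin (m ^ s) × Fin m) F) -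
        LinearMap.id)
      (P := Matrix.toLin' (a i : Matrix (Fin m) (Fin m) F))
      (Q := Matrix.toLin' (A : Matrix (Fin (m ^ s)) (Fin (m ^ s)) F)) (R := -LinearMap.id)
      (fun x w => by
        simp only [LinearMap.sub_apply, Matrix.toLin'_apply, LinearMap.id_apply, LinearMap.neg_apply,
          hA, kronGL_pt]
        funext k
        simp [pt]
        ring)
      (fun x y e => gl_mulVec_injective A (by simpa [Matrix.toLin'_apply] using e))
      (fun ⟨c, hc⟩ => by
        obtain ⟨w, hw⟩ := hi c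
        exact hw (by simpa [Matrix.toLin'_apply] using hc w)) hR
    have hle : finrank F (LinearMap.range
        (Matrix.toLin' (at' i (pwUnit a) : Matrix (Fin (m ^ s) × Fin m) (Fin (m ^ s) × Fin m) F) -
          LinearMap.id)) ≤ finrank F (res (pwUnit a)) := by
      let L : ((Fin (s + 1) → Fin m) → F) ≃ₗ[F] (Fin (m ^ s) × Fin m → F) :=
        LinearEquiv.funCongrLeft F F (split i).symm
      rw [← LinearEquiv.finrank_map_eq L (res (pwUnit a))]
      refine Submodule.finrank_mono ?_
      rintro _ ⟨z, rfl⟩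
      refine ⟨_, LinearMap.mem_range_self _ (L.symm z), ?_⟩
      have h := at'_mulVec i (pwUnit a) (L.symm z)
      have e : (L.symm z) ∘ (split i).symm = z := L.apply_symm_apply z
      rw [e] at h
      simp only [LinearMap.sub_apply, Matrix.toLin'_apply, LinearMap.id_apply, map_sub]
      rw [h]
      simp [L, LinearEquiv.funCongrLeft_apply, LinearMap.funLeft]
      funext k
      simp
    omega

/-- The slots moved by a quadratic element are exchanged. -/
lemma sq_perm (hm : 3 ≤ m) {g : GL (Fin t → Fin m) F} {σ : Equiv.Perm (Fin t)}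
    {a : Fin t → GL (Fin m) F} (hg : ∀ u, g •ᵥ pv u = pv fun i => a i •ᵥ u (σ i)) (hq : Quad g) :
    ∀ i, σ (σ i) = i := by
  intro i
  by_contra hne
  have hi : σ i ≠ i := fun e => hne (by rw [e, e])
  haveI : Nonempty (Fin m) := ⟨⟨0, by omega⟩⟩
  obtain ⟨e₀, he₀⟩ := exists_ne (0 : Fin m → F)
  obtain ⟨w, η, h1, h2, h3⟩ := exists_dot_two hm (a i •ᵥ e₀) (a i •ᵥ (a (σ i) •ᵥ e₀))
  let u : Fin t → Fin m → F := Function.update (fun _ => e₀) i w
  have hu : ∀ k, u k ≠ 0 := fun k => by
    rcases eq_or_ne k i with rfl | hk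
    · simp only [u, Function.update_self]
      exact fun e => one_ne_zero (h3.symm.trans (by rw [e, dotProduct_zero]))
    · simp [u, hk, he₀]
  obtain ⟨ν, hν⟩ := exists_duals hu
  let ν' := Function.update ν i η
  have hd : pv ν' ⬝ᵥ pv u = 1 := by
    rw [pv_dot]
    refine Finset.prod_eq_one fun k _ => ?_
    rcases eq_or_ne k i with rfl | hk
    · simp [ν', u, h3]
    · simp [ν', hk, hν]
  have hz1 : pv ν' ⬝ᵥ (g •ᵥ pv u) = 0 := by
    rw [hg, pv_dot]
    refine Finset.prod_eq_zero (Finset.mem_univ i) ?_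
    simp [ν', u, hi, h1]
  have hz2 : pv ν' ⬝ᵥ (g •ᵥ (g •ᵥ pv u)) = 0 := by
    rw [hg, hg, pv_dot]
    refine Finset.prod_eq_zero (Finset.mem_univ i) ?_
    simp [ν', u, hne, h2, -mulVec_mulVec]
  have h := congrArg (fun z => pv ν' ⬝ᵥ z) (hq (pv u))
  simp only [mulVec_sub, dotProduct_sub, hz1, hz2, hd, sub_zero, zero_sub] at h
  exact one_ne_zero (neg_eq_zero.1 h.symm)

/-- In odd characteristic nothing is moved. -/
lemma two_eq_zero_of_moved (hm : 3 ≤ m) {g : GL (Fin t → Fin m) F} {σ : Equiv.Perm (Fin t)}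
    {a : Fin t → GL (Fin m) F} (hg : ∀ u, g •ᵥ pv u = pv fun i => a i •ᵥ u (σ i)) (hq : Quad g)
    {i : Fin t} (hi : σ i ≠ i) : (2 : F) = 0 := by
  have hσ := sq_perm hm hg hq
  haveI : Nonempty (Fin m) := ⟨⟨0, by omega⟩⟩
  obtain ⟨e₀, he₀⟩ := exists_ne (0 : Fin m → F)
  obtain ⟨w, η, h1, h2, h3⟩ := exists_dot_two hm e₀ (a i •ᵥ (a (σ i) •ᵥ e₀))
  let u : Fin t → Fin m → F := Function.update (fun _ => e₀) (σ i) ((a i)⁻¹ •ᵥ w)
  have hw : w ≠ 0 := fun e => one_ne_zero (h3.symm.trans (by rw [e, dotProduct_zero]))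
  have hgu : ∀ k, a k •ᵥ u (σ k) ≠ 0 := fun k => by
    refine gl_mulVec_ne_zero _ ?_
    rcases eq_or_ne (σ k) (σ i) with e | hk
    · rw [e]; simp only [u, Function.update_self]; exact gl_mulVec_ne_zero _ hw
    · simp [u, hk, he₀]
  obtain ⟨ν, hν⟩ := exists_duals hgu
  let ν' := Function.update ν i η
  have hd : pv ν' ⬝ᵥ (g •ᵥ pv u) = 1 := by
    rw [hg, pv_dot]
    refine Finset.prod_eq_one fun k _ => ?_
    rcases eq_or_ne k i with rfl | hk
    · simp [ν', u, gl_mulVec_inv_mulVec, h3]
    · simp [ν', hk, hν]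
  have hz0 : pv ν' ⬝ᵥ pv u = 0 := by
    rw [pv_dot]
    refine Finset.prod_eq_zero (Finset.mem_univ i) ?_
    simp [ν', u, Ne.symm hi, h1]
  have hz2 : pv ν' ⬝ᵥ (g •ᵥ (g •ᵥ pv u)) = 0 := by
    rw [hg, hg, pv_dot]
    refine Finset.prod_eq_zero (Finset.mem_univ i) ?_
    simp [ν', u, hσ, Ne.symm hi, h2, -mulVec_mulVec]
  have h := congrArg (fun z => pv ν' ⬝ᵥ z) (hq (pv u))
  simp only [mulVec_sub, dotProduct_sub, hz0, hz2, hd] at h
  linear_combination -h

/-- The number of indices increasing between two slots. -/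
lemma card_lt_between {i j : Fin (s + 1)} (hij : i ≠ j) :
    2 * Fintype.card {x : Fin (s + 1) → Fin m // x i < x j} + m ^ s = m ^ (s + 1) := by
  classical
  have hsw : Fintype.card {x : Fin (s + 1) → Fin m // x j < x i} =
      Fintype.card {x : Fin (s + 1) → Fin m // x i < x j} :=
    Fintype.card_congr ((Equiv.arrowCongr (Equiv.swap i j) (Equiv.refl _)).subtypeEquiv fun x => by
      simp)
  obtain ⟨k, hk⟩ := Fin.exists_succAbove_eq hij.symm
  have he : Fintype.card {x : Fin (s + 1) → Fin m // x i = x j} = m ^ s := by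
    let E : {x : Fin (s + 1) → Fin m // x i = x j} ≃ (Fin s → Fin m) :=
      { toFun := fun x l => x.1 (i.succAbove l)
        invFun := fun y => ⟨Fin.insertNth (α := fun _ => Fin m) i (y k) y, by
          rw [← hk, Fin.insertNth_apply_same, Fin.insertNth_apply_succAbove]⟩
        left_inv := fun x => by
          refine Subtype.ext (funext fun l => ?_)
          rcases Fin.eq_self_or_eq_succAbove i l with e | ⟨l, rfl⟩
          · simp only [e, Fin.insertNth_apply_same, hk, x.2]
          · simp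
        right_inv := fun y => by funext l; simp }
    rw [Fintype.card_congr E]
    simp
  have htot : Fintype.card {x : Fin (s + 1) → Fin m // x i < x j} +
      (Fintype.card {x : Fin (s + 1) → Fin m // x j < x i} +
        Fintype.card {x : Fin (s + 1) → Fin m // x i = x j}) = m ^ (s + 1) := by
    simp only [Fintype.card_subtype]
    rw [← Finset.card_union_of_disjoint, ← Finset.card_union_of_disjoint,
      show (Finset.univ.filter fun x : Fin (s + 1) → Fin m => x i < x j) ∪
        ((Finset.univ.filter fun x => x j < x i) ∪ Finset.univ.filter fun x => x i = x j) =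
          Finset.univ by
        ext x
        simp only [Finset.mem_union, Finset.mem_filter, Finset.mem_univ, true_and, iff_true]
        rcases lt_trichotomy (x i) (x j) with h | h | h
        · exact Or.inl h
        · exact Or.inr (Or.inr h)
        · exact Or.inr (Or.inl h)]
    · simp
    · rw [Finset.disjoint_left]
      intro x hx
      simp only [Finset.mem_union, Finset.mem_filter, Finset.mem_univ, true_and] at hx ⊢
      omega
    · rw [Finset.disjoint_left]
      intro x hx
      simp only [Finset.mem_filter, Finset.mem_univ, true_and] at hx ⊢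
      omega
  omega

/-- A quadratic element of small rank moving a slot exchanges two slots and fixes the others. -/
theorem swap_of_moved (hm : 3 ≤ m) {g : GL (Fin (s + 1) → Fin m) F}
    {σ : Equiv.Perm (Fin (s + 1))} {a : Fin (s + 1) → GL (Fin m) F}
    (hg : ∀ u, g •ᵥ pv u = pv fun i => a i •ᵥ u (σ i)) (hq : Quad g)
    (hr : finrank F (res g) ≤ m ^ s) {i : Fin (s + 1)} (hi : σ i ≠ i) :
    (2 : F) = 0 ∧ m = 3 ∧ σ = Equiv.swap i (σ i) ∧
      ∀ k, k ≠ i → k ≠ σ i → ∃ c : F, ∀ w, a k •ᵥ w = c • w := by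
  classical
  have h2 := two_eq_zero_of_moved hm hg hq hi
  have hσ := sq_perm hm hg hq
  set j := σ i with hj
  have hji : σ j = i := hσ i
  have hgg : ∀ z, g •ᵥ (g •ᵥ z) = z := fun z => by
    have h := hq z
    rw [mulVec_sub] at h
    have e : g •ᵥ (g •ᵥ z) = (2 : F) • (g •ᵥ z) - z := by
      linear_combination (norm := module) h
    rw [e, h2, zero_smul, zero_sub]
    funext x
    simp only [Pi.neg_apply]
    linear_combination (- z x) * h2
  -- normalise the pair
  set h := pwUnit (Function.update (fun _ => (1 : GL (Fin m) F)) j (a i))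
  set g' := h * g * h⁻¹ with hg'
  let b : Fin (s + 1) → GL (Fin m) F := fun k =>
    if k = i then 1 else if k = j then a i * a j else a k
  have hact : ∀ u, g' •ᵥ pv u = pv fun k => b k •ᵥ u (σ k) := by
    intro u
    have hi' : h⁻¹ •ᵥ pv u = pv fun k =>
        (Function.update (fun _ => (1 : GL (Fin m) F)) j (a i) k)⁻¹ •ᵥ u k := pw_mulVec _ u
    rw [hg', gl_mulVec_mul, gl_mulVec_mul, hi', hg]
    refine (pw_mulVec _ _).trans ?_
    congr 1
    funext k
    simp only [b]
    rcases eq_or_ne k i with rfl | hki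
    · rw [if_pos rfl, Function.update_of_ne (Ne.symm hi), ← hj, Function.update_self]
      simp [gl_mulVec_inv_mulVec]
    rcases eq_or_ne k j with rfl | hkj
    · rw [if_neg hki, if_pos rfl, Function.update_self, hji, Function.update_of_ne (Ne.symm hi)]
      simp [mulVec_mulVec]
    · rw [if_neg hki, if_neg hkj, Function.update_of_ne hkj,
        Function.update_of_ne (fun e => hki (σ.injective (e.trans hj)))]
      simp
  have hpw1 : pwUnit (fun k => b k * b (σ k)) = 1 := gl_ext_pv fun u => by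
    rw [show (Units.val (pwUnit fun k => b k * b (σ k))) =
      pw (fun k => ((b k * b (σ k) : GL (Fin m) F) : Matrix (Fin m) (Fin m) F)) from rfl, pw_mulVec,
      Units.val_one, one_mulVec]
    have e : g' •ᵥ (g' •ᵥ pv u) = pv u := by
      simp only [hg', gl_mulVec_mul, gl_inv_mulVec_mulVec, hgg, gl_mulVec_inv_mulVec]
    rw [hact, hact] at e
    conv_rhs => rw [← e]
    congr 1
    funext k
    rw [hσ k, Units.val_mul, mulVec_mulVec]
  obtain ⟨c, hc⟩ := pw_eq_one (by omega) hpw1 j
  have hbj : ∀ w, b j •ᵥ w = c • w := fun w => by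
    have := hc w
    rw [hji] at this
    simpa [b, hi] using this
  have hbi : b i = 1 := if_pos rfl
  -- the rank
  let T := {x : Fin (s + 1) → Fin m // x i < x j}
  let R : ((Fin (s + 1) → Fin m) → F) →ₗ[F] (T → F) := LinearMap.funLeft F F Subtype.val
  let D : ((Fin (s + 1) → Fin m) → F) →ₗ[F] ((Fin (s + 1) → Fin m) → F) :=
    Matrix.toLin' (g' : Matrix _ _ F) - LinearMap.id
  have hD : finrank F (LinearMap.range D) ≤ m ^ s := by
    refine le_trans (le_trans (Submodule.finrank_mono
      (t := (res g).map (Matrix.toLin' (h : Matrix _ _ F))) ?_) (Submodule.finrank_map_le _ _)) hr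
    rintro _ ⟨z, rfl⟩
    refine ⟨g •ᵥ (h⁻¹ •ᵥ z) - h⁻¹ •ᵥ z, ⟨h⁻¹ •ᵥ z, by simp [Matrix.toLin'_apply]⟩, ?_⟩
    simp only [D, LinearMap.sub_apply, Matrix.toLin'_apply, LinearMap.id_apply, mulVec_sub, hg',
      gl_mulVec_mul, gl_mulVec_inv_mulVec]
  have htri : ∀ x : T, R (D (Pi.single x.1 1)) = -Pi.single x 1 := by
    rintro ⟨x, hx⟩
    funext ⟨y, hy⟩
    simp only [R, D, LinearMap.funLeft_apply, LinearMap.sub_apply, LinearMap.id_apply,
      Matrix.toLin'_apply, Pi.sub_apply, Pi.neg_apply]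
    rw [← pv_single x, hact]
    have h0 : pv (fun k => b k •ᵥ (Pi.single (x (σ k)) (1 : F))) y = 0 := by
      by_contra hne
      have hi1 : y i = x j := by
        by_contra hyi
        refine hne (Finset.prod_eq_zero (Finset.mem_univ i) ?_)
        show (b i •ᵥ (Pi.single (x j) (1 : F))) (y i) = 0
        rw [hbi, Units.val_one, one_mulVec, Pi.single_eq_of_ne hyi]
      have hj1 : y j = x i := by
        by_contra hyj
        refine hne (Finset.prod_eq_zero (Finset.mem_univ j) ?_)
        show (b j •ᵥ (Pi.single (x (σ j)) (1 : F))) (y j) = 0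
        rw [hbj, hji, Pi.smul_apply, Pi.single_eq_of_ne hyj, smul_zero]
      rw [hi1, hj1] at hy
      exact absurd hx (not_lt.2 hy.le)
    rw [h0, pv_single, zero_sub, neg_inj]
    rcases eq_or_ne y x with rfl | hne
    · rw [Pi.single_eq_same, Pi.single_eq_same]
    · rw [Pi.single_eq_of_ne hne, Pi.single_eq_of_ne (fun e => hne (congrArg Subtype.val e))]
  have hsurj : Function.Surjective (R ∘ₗ D) := fun y => ⟨∑ x : T, (- y x) • Pi.single x.1 1, by
    rw [map_sum]
    conv_rhs => rw [pi_eq_sum_univ' y]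
    refine Finset.sum_congr rfl fun x _ => ?_
    rw [map_smul, LinearMap.comp_apply, htri, smul_neg, ← neg_smul, neg_neg]⟩
  let R' := R ∘ₗ (LinearMap.range D).subtype
  have hR' : Function.Surjective R' := fun y => by
    obtain ⟨z, hz⟩ := hsurj y
    exact ⟨⟨D z, LinearMap.mem_range_self D z⟩, hz⟩
  have hrk := LinearMap.finrank_range_add_finrank_ker R'
  rw [LinearMap.range_eq_top.2 hR', finrank_top, finrank_fintype_fun_eq_card] at hrk
  have hcard := card_lt_between (m := m) (i := i) (j := j) (Ne.symm hi)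
  have hpos : 0 < m ^ s := pow_pos (by omega) s
  have hm3 : m = 3 := by
    by_contra hne
    have h4 : 4 * m ^ s ≤ m ^ (s + 1) := by
      rw [pow_succ, mul_comm (m ^ s)]; exact Nat.mul_le_mul_right _ (by omega)
    change Fintype.card T + _ = _ at hrk
    change 2 * Fintype.card T + _ = _ at hcard
    omega
  have hker : LinearMap.ker R' = ⊥ := by
    rw [← Submodule.finrank_eq_zero]
    have h3 : m ^ (s + 1) = 3 * m ^ s := by rw [pow_succ, mul_comm, hm3]
    change Fintype.card T + _ = _ at hrk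
    change 2 * Fintype.card T + _ = _ at hcard
    omega
  -- nothing else is moved
  have hdiag : ∀ u, u i = u j → (∀ l, u i l ≠ 0 → ∀ l', u i l' ≠ 0 → l = l') →
      g' •ᵥ pv u = pv u := by
    intro u he hl
    have hz : R (D (pv u)) = 0 := by
      funext ⟨y, hy⟩
      simp only [R, D, LinearMap.funLeft_apply, LinearMap.sub_apply, LinearMap.id_apply,
        Matrix.toLin'_apply, Pi.sub_apply, hact, Pi.zero_apply]
      have h1 : pv u y = 0 := by
        by_contra hne
        have hyi : u i (y i) ≠ 0 := Finset.prod_ne_zero_iff.1 hne i (Finset.mem_univ i)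
        have hyj : u j (y j) ≠ 0 := Finset.prod_ne_zero_iff.1 hne j (Finset.mem_univ j)
        rw [← he] at hyj
        exact hy.ne (hl _ hyi _ hyj)
      have h1' : pv (fun k => b k •ᵥ u (σ k)) y = 0 := by
        by_contra hne
        have hyi := Finset.prod_ne_zero_iff.1 hne i (Finset.mem_univ i)
        have hyj := Finset.prod_ne_zero_iff.1 hne j (Finset.mem_univ j)
        change (b i •ᵥ u j) (y i) ≠ 0 at hyi
        change (b j •ᵥ u (σ j)) (y j) ≠ 0 at hyj
        rw [hbi, Units.val_one, one_mulVec, ← he] at hyi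
        rw [hbj, hji, Pi.smul_apply, smul_eq_mul] at hyj
        exact hy.ne (hl _ hyi _ (right_ne_zero_of_mul hyj))
      rw [h1, h1', sub_zero]
    have := (LinearMap.ker_eq_bot.1 hker) (a₁ := ⟨D (pv u), LinearMap.mem_range_self D _⟩)
      (a₂ := 0) (by rw [map_zero]; exact hz)
    have h0 : D (pv u) = 0 := congrArg Subtype.val this
    simpa [D, sub_eq_zero, Matrix.toLin'_apply] using h0
  haveI : Nonempty (Fin m) := ⟨⟨0, by omega⟩⟩
  have hfix : ∀ k, k ≠ i → k ≠ j → ∀ u : Fin (s + 1) → Fin m → F, u i = Pi.single ⟨0, by omega⟩ 1 →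
      u j = Pi.single ⟨0, by omega⟩ 1 → (∀ l, u l ≠ 0) →
      b k •ᵥ u (σ k) ∈ Submodule.span F {u k} := by
    intro k hki hkj u hui huj hu0
    by_contra hn
    obtain ⟨η, h1, h3⟩ := exists_dot_eq hn
    have h := hdiag u (hui.trans huj.symm) fun l hl l' hl' => by
      rw [hui] at hl hl'
      have e1 : l = ⟨0, by omega⟩ := by
        by_contra e; exact hl (Pi.single_eq_of_ne e _)
      have e2 : l' = ⟨0, by omega⟩ := by
        by_contra e; exact hl' (Pi.single_eq_of_ne e _)
      rw [e1, e2]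
    have hgu : ∀ l, b l •ᵥ u (σ l) ≠ 0 := fun l => gl_mulVec_ne_zero _ (hu0 _)
    obtain ⟨ν, hν⟩ := exists_duals hgu
    have h' := congrArg (fun z => pv (Function.update ν k η) ⬝ᵥ z) h
    simp only [hact, pv_dot] at h'
    rw [Finset.prod_eq_one (fun l _ => ?_), Finset.prod_eq_zero (Finset.mem_univ k)
      (by rw [Function.update_self, h1])] at h'
    · exact one_ne_zero h'
    · rcases eq_or_ne l k with rfl | hl
      · rw [Function.update_self, h3]
      · rw [Function.update_of_ne hl, hν]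
  have hσk : ∀ k, k ≠ i → k ≠ j → σ k = k := by
    intro k hki hkj
    by_contra hne
    set e : Fin m → F := Pi.single ⟨0, by omega⟩ 1
    obtain ⟨w, η, h1, -, h3⟩ := exists_dot_two hm (b k •ᵥ e) 0
    have hw : w ≠ 0 := fun e' => one_ne_zero (h3.symm.trans (by rw [e', dotProduct_zero]))
    have h := hfix k hki hkj (Function.update (fun _ => e) k w)
      (by rw [Function.update_of_ne (Ne.symm hki)]) (by rw [Function.update_of_ne (Ne.symm hkj)])
      (fun l => by
        rcases eq_or_ne l k with rfl | hl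
        · rwa [Function.update_self]
        · rw [Function.update_of_ne hl]
          exact fun e' => one_ne_zero (α := F) (by simpa [e] using congrFun e' ⟨0, by omega⟩))
    rw [Function.update_self, Function.update_of_ne hne] at h
    obtain ⟨d, hd⟩ := Submodule.mem_span_singleton.1 h
    rw [← hd, dotProduct_smul, h3, smul_eq_mul, mul_one] at h1
    rw [h1, zero_smul] at hd
    exact gl_mulVec_ne_zero (b k) (fun e' => one_ne_zero (α := F)
      (by simpa [e] using congrFun e' ⟨0, by omega⟩)) hd.symm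
  refine ⟨h2, hm3, Equiv.ext fun k => ?_, fun k hki hkj => ?_⟩
  · rcases eq_or_ne k i with rfl | hki
    · rw [Equiv.swap_apply_left, hj]
    rcases eq_or_ne k j with rfl | hkj
    · rw [Equiv.swap_apply_right, hji]
    · rw [Equiv.swap_apply_of_ne_of_ne hki hkj, hσk k hki hkj]
  · suffices H : ∀ w, a k •ᵥ w ∈ Submodule.span F {w} by
      obtain ⟨c', hc'⟩ := scalar_of_eigen (P := Matrix.toLin' (a k : Matrix (Fin m) (Fin m) F))
        fun w => by rw [Matrix.toLin'_apply]; exact H w
      exact ⟨c', fun w => by simpa [Matrix.toLin'_apply] using hc' w⟩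
    intro w
    rcases eq_or_ne w 0 with rfl | hw
    · simp
    set e : Fin m → F := Pi.single ⟨0, by omega⟩ 1
    have h := hfix k hki hkj (Function.update (fun _ => e) k w)
      (by rw [Function.update_of_ne (Ne.symm hki)]) (by rw [Function.update_of_ne (Ne.symm hkj)])
      (fun l => by
        rcases eq_or_ne l k with rfl | hl
        · rwa [Function.update_self]
        · rw [Function.update_of_ne hl]
          exact fun e' => one_ne_zero (α := F) (by simpa [e] using congrFun e' ⟨0, by omega⟩))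
    simpa [Matrix.toLin'_apply, hσk k hki hkj, b, hki, hkj] using h

/-- A quadratic member of the wreath group of small rank. -/
theorem slot_or_swap (hm : 3 ≤ m) {g : GL (Fin (s + 1) → Fin m) F}
    {σ : Equiv.Perm (Fin (s + 1))} {a : Fin (s + 1) → GL (Fin m) F}
    (hg : ∀ u, g •ᵥ pv u = pv fun i => a i •ᵥ u (σ i)) (hq : Quad g)
    (hr : finrank F (res g) ≤ m ^ s) :
    (∃ i, IsSlot i g) ∨ ((2 : F) = 0 ∧ m = 3 ∧ ∃ i j, i ≠ j ∧ σ = Equiv.swap i j ∧
      ∀ k, k ≠ i → k ≠ j → ∃ c : F, ∀ w, a k •ᵥ w = c • w) := by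
  by_cases hσ : σ = 1
  · subst hσ
    have e : g = pwUnit a := gl_ext_pv fun u => by
      rw [hg]; exact (pw_mulVec _ u).symm
    subst e
    exact Or.inl (slot_of_pw hm hr)
  · obtain ⟨i, hi⟩ : ∃ i, σ i ≠ i := by
      by_contra hcon
      push Not at hcon
      exact hσ (Equiv.ext hcon)
    obtain ⟨h2, hm3, hsw, hrest⟩ := swap_of_moved hm hg hq hr hi
    exact Or.inr ⟨h2, hm3, i, σ i, Ne.symm hi, hsw, hrest⟩

end CfsgLib.ClassicalMax.TWU
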