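/-
Tensor powers: the algebra of one slot and the algebra of the other slots.
-/
import Cfsg.Agent.Lib.ClassicalMax.TWU.Small
import Cfsg.Agent.Lib.ClassicalMax.TWreath.Wreath
import Cfsg.Agent.Lib.ClassicalMax.TWreath.Trace
set_option autoImplicit false
set_option linter.unusedSectionVars false

namespace CfsgLib.ClassicalMax.TWU

open Matrix Kronecker Module Cfsg.Geo
open CfsgLib.ClassicalMax.Kron
open CfsgLib.ClassicalMax.TWreath (slot slot_eq slot_apply pmat pmat_mulVec_pvec pvec)

local notation:80 g:81 " •ᵥ " z:80 => Matrix.mulVec (Units.val g) z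

variable {F : Type*} [Field F] [DecidableEq F] {m s : ℕ}

/-- Matrices read at the slot `i`. -/
def sp (i : Fin (s + 1)) :
    Matrix (Fin (m ^ s) × Fin m) (Fin (m ^ s) × Fin m) F ≃ₐ[F]
      Matrix (Fin (s + 1) → Fin m) (Fin (s + 1) → Fin m) F :=
  Matrix.reindexAlgEquiv F F (split i).symm

lemma at'_val (i : Fin (s + 1)) (g : GL (Fin (s + 1) → Fin m) F) :
    sp i (at' i g : Matrix (Fin (m ^ s) × Fin m) (Fin (m ^ s) × Fin m) F) = g.val := by
  show (Matrix.reindex (split i).symm (split i).symm) ((Matrix.reindex (split i) (split i)) g.val) = _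
  ext a b
  simp

lemma sp_apply (i : Fin (s + 1)) (M : Matrix (Fin (m ^ s) × Fin m) (Fin (m ^ s) × Fin m) F)
    (a b : Fin (s + 1) → Fin m) :
    sp i M a b = M (enc m s (fun l => a (i.succAbove l)), a i) (enc m s (fun l => b (i.succAbove l)), b i) :=
  rfl

/-- A matrix of the other slots. -/
def oth (i : Fin (s + 1)) :
    Matrix (Fin s → Fin m) (Fin s → Fin m) F →ₐ[F]
      Matrix (Fin (s + 1) → Fin m) (Fin (s + 1) → Fin m) F :=
  AlgHom.ofLinearMap
    { toFun := fun X => sp i (Matrix.reindex (enc m s) (enc m s) X ⊗ₖ (1 : Matrix (Fin m) (Fin m) F))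
      map_add' := fun X Y => by
        rw [← map_add]
        congr 1
        ext a b
        simp [add_mul]
      map_smul' := fun c X => by
        rw [RingHom.id_apply, ← map_smul]
        congr 1
        ext a b
        simp [mul_assoc] }
    (by
      show sp i (Matrix.reindex (enc m s) (enc m s) 1 ⊗ₖ (1 : Matrix (Fin m) (Fin m) F)) = 1
      rw [← map_one (sp (m := m) (F := F) i)]
      congr 1
      simp [Matrix.reindex_apply, Matrix.submatrix_one_equiv, one_kronecker_one])
    (fun X Y => by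
      show sp i _ = sp i _ * sp i _
      rw [← map_mul, ← mul_kronecker_mul, one_mul, Matrix.reindex_apply, Matrix.reindex_apply,
        Matrix.reindex_apply, Matrix.submatrix_mul_equiv])

lemma oth_def (i : Fin (s + 1)) (X : Matrix (Fin s → Fin m) (Fin s → Fin m) F) :
    oth i X = sp i (Matrix.reindex (enc m s) (enc m s) X ⊗ₖ (1 : Matrix (Fin m) (Fin m) F)) := rfl

lemma oth_apply (i : Fin (s + 1)) (X : Matrix (Fin s → Fin m) (Fin s → Fin m) F)
    (a b : Fin (s + 1) → Fin m) :
    oth i X a b = if a i = b i then X (fun l => a (i.succAbove l)) (fun l => b (i.succAbove l)) else 0 := by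
  rw [oth_def, sp_apply]
  simp [Matrix.one_apply]

lemma slot_eq_sp (i : Fin (s + 1)) (X : Matrix (Fin m) (Fin m) F) :
    slot i X = sp i ((1 : Matrix (Fin (m ^ s)) (Fin (m ^ s)) F) ⊗ₖ X) := by
  ext a b
  rw [slot_apply, sp_apply, kroneckerMap_apply, Matrix.one_apply]
  have e : (∀ l, l ≠ i → a l = b l) ↔
      enc m s (fun l => a (i.succAbove l)) = enc m s (fun l => b (i.succAbove l)) := by
    rw [(enc m s).injective.eq_iff, funext_iff]
    refine ⟨fun h l => h _ (Fin.succAbove_ne i l), fun h l hl => ?_⟩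
    obtain ⟨k, rfl⟩ := Fin.exists_succAbove_eq hl
    exact h k
  simp only [e]
  split_ifs <;> simp

lemma oth_slot_comm (i : Fin (s + 1)) (Y : Matrix (Fin s → Fin m) (Fin s → Fin m) F)
    (X : Matrix (Fin m) (Fin m) F) : Commute (oth i Y) (slot i X) := by
  show _ = _
  rw [oth_def, slot_eq_sp, ← map_mul, ← map_mul, ← mul_kronecker_mul, ← mul_kronecker_mul, one_mul,
    mul_one, one_mul, mul_one]

lemma oth_slot (i : Fin (s + 1)) (l : Fin s) (X : Matrix (Fin m) (Fin m) F) :
    oth i (slot l X) = slot (i.succAbove l) X := by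
  ext a b
  rw [oth_apply, slot_apply, slot_apply]
  by_cases hi : a i = b i
  · rw [if_pos hi]
    have e : (∀ k, k ≠ l → a (i.succAbove k) = b (i.succAbove k)) ↔
        ∀ k, k ≠ i.succAbove l → a k = b k := by
      refine ⟨fun h k hk => ?_, fun h k hk => h _ fun e => hk (Fin.succAbove_right_injective e)⟩
      rcases Fin.eq_self_or_eq_succAbove i k with rfl | ⟨k, rfl⟩
      · exact hi
      · exact h k fun e => hk (by rw [e])
    simp only [e]
  · rw [if_neg hi, if_neg]
    exact fun h => hi (h i (Fin.ne_succAbove i l))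

lemma oth_injective (hm : 0 < m) (i : Fin (s + 1)) :
    Function.Injective (oth (m := m) (F := F) i) := fun X Y h => by
  ext a b
  have := congrFun (congrFun h (i.insertNth (⟨0, hm⟩ : Fin m) a)) (i.insertNth (⟨0, hm⟩ : Fin m) b)
  simpa [oth_apply] using this

/-- The group element of one slot. -/
def sG (i : Fin (s + 1)) : GL (Fin m) F →* GL (Fin (s + 1) → Fin m) F :=
  Units.map ((slot i : Matrix (Fin m) (Fin m) F →ₐ[F] _) : Matrix (Fin m) (Fin m) F →* _)

@[simp] lemma sG_val (i : Fin (s + 1)) (B : GL (Fin m) F) :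
    (sG i B).val = slot i B.val := rfl

/-- The group element of the other slots. -/
def oG (i : Fin (s + 1)) : GL (Fin s → Fin m) F →* GL (Fin (s + 1) → Fin m) F :=
  Units.map ((oth i : Matrix (Fin s → Fin m) (Fin s → Fin m) F →ₐ[F] _) :
    Matrix (Fin s → Fin m) (Fin s → Fin m) F →* _)

@[simp] lemma oG_val (i : Fin (s + 1)) (A : GL (Fin s → Fin m) F) :
    (oG i A).val = oth i A.val := rfl

lemma oG_sG (i : Fin (s + 2)) (l : Fin (s + 1)) (B : GL (Fin m) F) :
    oG i (sG l B) = sG (i.succAbove l) B :=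
  Units.ext (oth_slot i l B.val)

lemma at'_sG (i : Fin (s + 1)) (B : GL (Fin m) F) : at' i (sG i B) = kronGL 1 B := by
  refine Units.ext ((sp i).injective ?_)
  rw [at'_val, sG_val, slot_eq_sp]
  rfl

lemma at'_oG (i : Fin (s + 1)) (A : GL (Fin s → Fin m) F) : at' i (oG i A) = kronGL (onE A) 1 := by
  refine Units.ext ((sp i).injective ?_)
  rw [at'_val, oG_val, oth_def]
  rfl

/-- An element read at a slot as a Kronecker product. -/
lemma eq_of_at' (i : Fin (s + 1)) {g : GL (Fin (s + 1) → Fin m) F} {A : GL (Fin (m ^ s)) F}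
    {B : GL (Fin m) F} (h : at' i g = kronGL A B) : g = oG i (onE.symm A) * sG i B := by
  refine (at' i).injective ?_
  rw [h, map_mul, at'_oG, at'_sG, onE.apply_symm_apply, kronGL_mul, mul_one, one_mul]

lemma isSlot_iff (i : Fin (s + 1)) (g : GL (Fin (s + 1) → Fin m) F) :
    IsSlot i g ↔ ∃ B : GL (Fin m) F, g = sG i B := by
  refine exists_congr fun B => ⟨fun h => (at' i).injective (h.trans (at'_sG i B).symm), fun h => ?_⟩
  rw [h, at'_sG]

lemma slot_mulVec_pv {t : ℕ} (i : Fin t) (X : Matrix (Fin m) (Fin m) F) (u : Fin t → Fin m → F) :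
    slot i X *ᵥ pv u = pv (Function.update u i (X *ᵥ u i)) := by
  show slot i X *ᵥ pvec u = pvec _
  rw [slot_eq, pmat_mulVec_pvec]
  congr 1
  funext l
  rcases eq_or_ne l i with rfl | h
  · simp
  · simp [Function.update_of_ne h]

/-- The rank of a slot matrix of rank one. -/
lemma rank_slot_le (i : Fin (s + 1)) (u φ : Fin m → F) :
    (slot i (Matrix.vecMulVec u φ)).rank ≤ m ^ s := by
  rw [slot_eq_sp]
  show (Matrix.reindex (split i).symm (split i).symm
    ((1 : Matrix (Fin (m ^ s)) (Fin (m ^ s)) F) ⊗ₖ vecMulVec u φ)).rank ≤ _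
  rw [Matrix.rank_reindex, show vecMulVec u φ = replicateCol Unit u * replicateRow Unit φ by
    ext a b; simp [vecMulVec_apply, Matrix.mul_apply],
    show (1 : Matrix (Fin (m ^ s)) (Fin (m ^ s)) F) ⊗ₖ (replicateCol Unit u * replicateRow Unit φ) =
      ((1 : Matrix (Fin (m ^ s)) (Fin (m ^ s)) F) ⊗ₖ replicateCol Unit u) *
        ((1 : Matrix (Fin (m ^ s)) (Fin (m ^ s)) F) ⊗ₖ replicateRow Unit φ) by
      rw [← mul_kronecker_mul, one_mul]]
  exact (rank_mul_le_left _ _).trans ((rank_le_card_width _).trans (by simp))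

lemma res_finrank (g : GL (Fin (s + 1) → Fin m) F) : finrank F (res g) = (g.val - 1).rank := by
  have e : Matrix.toLin' (g.val : Matrix (Fin (s + 1) → Fin m) (Fin (s + 1) → Fin m) F) -
      LinearMap.id = (g.val - 1).mulVecLin := by
    refine LinearMap.ext fun z => ?_
    simp [sub_mulVec]
  rw [res, Matrix.rank, e]

lemma quad_of_sq_zero {ι : Type} [Fintype ι] [DecidableEq ι] {g : GL ι F} {N : Matrix ι ι F}
    (hg : g.val = 1 + N) (hN : N * N = 0) : Quad g := fun z => by
  rw [hg]
  simp [add_mulVec, mulVec_mulVec, add_mul, hN]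

lemma rank_conj {ι : Type} [Fintype ι] [DecidableEq ι] (g : GL ι F) (M : Matrix ι ι F) :
    (g.val * M * (g⁻¹ : GL ι F).val).rank ≤ M.rank :=
  (rank_mul_le_left _ _).trans (rank_mul_le_right _ _)

end CfsgLib.ClassicalMax.TWU
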