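/-
Tensor powers of a unitary form: splittings, and groups above the slotwise special unitary groups.
-/
import Cfsg.Agent.Lib.ClassicalMax.TWU.Sp
import Cfsg.Agent.Lib.ClassicalMax.TensorUnitBase
set_option autoImplicit false
set_option linter.unusedSectionVars false

namespace CfsgLib.ClassicalMax.TWU

open Matrix Kronecker Module Cfsg.Geo
open CfsgLib.ClassicalMax.Kron
open CfsgLib.ClassicalMax.Unit
open CfsgLib.ClassicalMax.TensorUnit (UPair exists_anisotropic eq_of_form cv_pt)
open CfsgLib.ClassicalMax.TWreath (slot)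

local notation:80 g:81 " •ᵥ " z:80 => Matrix.mulVec (Units.val g) z

variable {F : Type*} [Field F] [DecidableEq F] {m s t : ℕ} {σ : F ≃+* F} {c : F}
  {H : ((Fin t → Fin m) → F) → ((Fin t → Fin m) → F) → F}
  {f : (Fin m → F) → (Fin m → F) → F}

/-- The form `H` is `c` times the tensor power of `f`. -/
structure Pow (σ : F ≃+* F) (c : F) (H : ((Fin t → Fin m) → F) → ((Fin t → Fin m) → F) → F)
    (f : (Fin m → F) → (Fin m → F) → F) : Prop where
  hh : IsUnitaryForm σ H
  hf : IsUnitaryForm σ f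
  c_ne : c ≠ 0
  prod : ∀ u u', H (pv u) (pv u') = c * ∏ i, f (u i) (u' i)

lemma form_ext_pv {H' : ((Fin t → Fin m) → F) → ((Fin t → Fin m) → F) → F}
    (hH : IsUnitaryForm σ H) (hH' : IsUnitaryForm σ H')
    (e : ∀ u u', H (pv u) (pv u') = H' (pv u) (pv u')) : ∀ z z', H z z' = H' z z' := by
  have e1 : ∀ z u', H z (pv u') = H' z (pv u') := fun z u' => by
    have := pv_ext (f := formL hH (pv u')) (g := formL hH' (pv u')) fun u => e u u'
    exact LinearMap.congr_fun this z
  intro z z'
  have := pv_ext (f := formL hH z) (g := formL hH' z) fun u => by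
    simp only [formL_apply]
    rw [hH.herm, hH'.herm, e1]
  have h1 := LinearMap.congr_fun this z'
  simp only [formL_apply] at h1
  rw [hH.herm, hH'.herm, h1]

/-- An isometry is recognised on pure vectors. -/
lemma iso_of_pv (hH : IsUnitaryForm σ H) {g : GL (Fin t → Fin m) F}
    (e : ∀ u u', H (g •ᵥ pv u) (g •ᵥ pv u') = H (pv u) (pv u')) : g ∈ isoOf H :=
  fun z z' => form_ext_pv (pullback hH g) hH e z z'

/-- The form read at a slot. -/
def Hs (H : ((Fin (s + 1) → Fin m) → F) → ((Fin (s + 1) → Fin m) → F) → F) (i : Fin (s + 1))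
    (z z' : Fin (m ^ s) × Fin m → F) : F :=
  H (z ∘ split i) (z' ∘ split i)

/-- A form on the other slots, on `Fin (m ^ t)`. -/
def onF (H : ((Fin t → Fin m) → F) → ((Fin t → Fin m) → F) → F)
    (x x' : Fin (m ^ t) → F) : F :=
  H (x ∘ enc m t) (x' ∘ enc m t)

/-- Unitary forms pull back along a bijection of the indices. -/
lemma unitary_comp {ι κ : Type} [Fintype ι] [DecidableEq ι] [Fintype κ] [DecidableEq κ]
    (e : ι ≃ κ) {f₀ : (ι → F) → (ι → F) → F} (hf₀ : IsUnitaryForm σ f₀) :
    IsUnitaryForm σ (fun z z' : κ → F => f₀ (z ∘ e) (z' ∘ e)) where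
  ne_refl := hf₀.ne_refl
  involutive := hf₀.involutive
  add_left x y v := hf₀.add_left (x ∘ e) (y ∘ e) (v ∘ e)
  smul_left a x v := hf₀.smul_left a (x ∘ e) (v ∘ e)
  herm v w := hf₀.herm _ _
  nondegenerate v hv := by
    have hv' : v ∘ e ≠ 0 := fun h => hv (funext fun a => by simpa using congrFun h (e.symm a))
    obtain ⟨⟨x, hx⟩, y, hy⟩ := hf₀.nondegenerate _ hv'
    refine ⟨⟨x ∘ e.symm, ?_⟩, y ∘ e.symm, ?_⟩
    · simpa [Function.comp_assoc] using hx
    · simpa [Function.comp_assoc] using hy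

variable {H : ((Fin (s + 1) → Fin m) → F) → ((Fin (s + 1) → Fin m) → F) → F}

lemma at'_comp (i : Fin (s + 1)) (g : GL (Fin (s + 1) → Fin m) F)
    (z : Fin (m ^ s) × Fin m → F) : g •ᵥ (z ∘ split i) = (at' i g •ᵥ z) ∘ split i := by
  have h := at'_mulVec i g (z ∘ split i)
  have e : (z ∘ split i) ∘ (split i).symm = z := by funext; simp
  rw [e] at h
  rw [h]
  funext a
  simp

lemma at'_mem_iso {i : Fin (s + 1)} {g : GL (Fin (s + 1) → Fin m) F} :
    at' i g ∈ isoOf (Hs H i) ↔ g ∈ isoOf H := by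
  constructor
  · intro h x y
    show H (g •ᵥ x) (g •ᵥ y) = H x y
    have e : ∀ z : (Fin (s + 1) → Fin m) → F, z = (z ∘ (split i).symm) ∘ split i := fun z => by
      funext; simp
    rw [e x, e y, at'_comp, at'_comp]
    exact h _ _
  · intro h z z'
    show Hs H i (at' i g •ᵥ z) (at' i g •ᵥ z') = Hs H i z z'
    rw [Hs, Hs, ← at'_comp, ← at'_comp]
    exact h _ _

variable [Fintype F]

/-- The form of the other slots. -/
theorem exists_split (hm : 0 < m) (hP : Pow σ c H f) :
    ∃ h' : ((Fin s → Fin m) → F) → ((Fin s → Fin m) → F) → F, Pow σ c h' f ∧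
      ∀ i, UPair σ (Hs H i) (onF h') f := by
  haveI : Nonempty (Fin m) := ⟨⟨0, hm⟩⟩
  obtain ⟨e, he⟩ := exists_anisotropic hP.hf
  let ins : Fin (s + 1) → (Fin (m ^ s) → F) → (Fin m → F) → ((Fin (s + 1) → Fin m) → F) :=
    fun i x w => pt x w ∘ split i
  have hins : ∀ i u w, ins i (pvE u) w = pv (i.insertNth w u) := fun i u w => by
    show pt (pvE u) w ∘ split i = _; rw [pt_pvE i]; funext a; simp
  have hpp : ∀ i u w u' w', H (ins i (pvE u) w) (ins i (pvE u') w') =
      c * (∏ l, f (u l) (u' l)) * f w w' := by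
    intro i u w u' w'
    rw [hins, hins, hP.prod, Fin.prod_univ_succAbove _ i]
    simp only [Fin.insertNth_apply_same, Fin.insertNth_apply_succAbove]
    ring
  have hfull : ∀ i x w x' w', H (ins i x w) (ins i x' w') * f e e =
      H (ins 0 x e) (ins 0 x' e) * f w w' := by
    intro i x w x' w'
    let φ : Fin (s + 1) → (Fin m → F) → (Fin (m ^ s) → F) →ₗ[F] ((Fin (s + 1) → Fin m) → F) :=
      fun i w => LinearMap.funLeft F F (split i) ∘ₗ ptR w
    have e1 : ∀ u', H (ins i x w) (ins i (pvE u') w') * f e e =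
        H (ins 0 x e) (ins 0 (pvE u') e) * f w w' := fun u' => by
      have := pvE_ext (f := f e e • formL hP.hh (ins i (pvE u') w') ∘ₗ φ i w)
        (g := f w w' • formL hP.hh (ins 0 (pvE u') e) ∘ₗ φ 0 e) fun u => by
          simp only [LinearMap.smul_apply, LinearMap.comp_apply, formL_apply, smul_eq_mul]
          show f e e * H (ins i (pvE u) w) _ = f w w' * H (ins 0 (pvE u) e) _
          rw [hpp, hpp]; ring
      have h1 := LinearMap.congr_fun this x
      simp only [LinearMap.smul_apply, LinearMap.comp_apply, formL_apply, smul_eq_mul] at h1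
      rw [mul_comm, mul_comm (H (ins 0 x e) _)]
      exact h1
    have := pvE_ext (f := f e e • formL hP.hh (ins i x w) ∘ₗ φ i w')
      (g := f w' w • formL hP.hh (ins 0 x e) ∘ₗ φ 0 e) fun u' => by
        simp only [LinearMap.smul_apply, LinearMap.comp_apply, formL_apply, smul_eq_mul]
        show f e e * H (ins i (pvE u') w') _ = f w' w * H (ins 0 (pvE u') e) _
        have h2 := congrArg σ (e1 u')
        rw [map_mul, map_mul, self_fixed hP.hf, ← hP.hh.herm, ← hP.hh.herm, ← hP.hf.herm] at h2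
        linear_combination h2
    have h1 := congrArg σ (LinearMap.congr_fun this x')
    simp only [LinearMap.smul_apply, LinearMap.comp_apply, formL_apply, smul_eq_mul, map_mul,
      self_fixed hP.hf, ← hP.hh.herm, ← hP.hf.herm] at h1
    rw [mul_comm, mul_comm (H (ins 0 x e) _)]
    exact h1
  let h' : ((Fin s → Fin m) → F) → ((Fin s → Fin m) → F) → F := fun X X' =>
    H (ins 0 (X ∘ (enc m s).symm) e) (ins 0 (X' ∘ (enc m s).symm) e) / f e e
  have hprod : ∀ i x w x' w', Hs H i (pt x w) (pt x' w') = onF h' x x' * f w w' := by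
    intro i x w x' w'
    show H (ins i x w) (ins i x' w') = _
    simp only [onF, h', Function.comp_assoc, Equiv.self_comp_symm, Function.comp_id]
    rw [div_mul_eq_mul_div, eq_div_iff he, hfull]
  have hu : IsUnitaryForm σ h' :=
    { ne_refl := hP.hf.ne_refl
      involutive := hP.hf.involutive
      add_left := fun x y v => by
        simp only [h', ← add_div, ← hP.hh.add_left]
        congr 2
        funext a; simp [ins, pt, add_mul]
      smul_left := fun a x v => by
        simp only [h', ← mul_div_assoc, ← hP.hh.smul_left]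
        congr 2
        funext b; simp [ins, pt, mul_assoc]
      herm := fun v w => by
        simp only [h', map_div₀, self_fixed hP.hf, ← hP.hh.herm]
      nondegenerate := fun X hX => by
        have hne : pt (X ∘ (enc m s).symm) e ∘ split 0 ≠ 0 := fun h0 => by
          refine pt_ne_zero (x := X ∘ (enc m s).symm) (w := e) (fun h => hX ?_) (fun h => he ?_) ?_
          · funext a; simpa using congrFun h (enc m s a)
          · rw [h, Unit.zero_left hP.hf]
          · funext a; simpa using congrFun h0 ((split 0).symm a)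
        have key : ∃ X', h' X' X ≠ 0 := by
          by_contra hcon
          push Not at hcon
          refine hne (eq_of_form hP.hh fun z => ?_)
          rw [Unit.zero_left hP.hh, hP.hh.herm]
          have := linear_ext (f := formL hP.hh (pt (X ∘ (enc m s).symm) e ∘ split 0) ∘ₗ
              LinearMap.funLeft F F (split 0)) (g := 0) fun x w => by
            simp only [LinearMap.comp_apply, formL_apply, LinearMap.zero_apply]
            show Hs H 0 (pt x w) (pt (X ∘ (enc m s).symm) e) = 0
            rw [hprod]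
            have := hcon (x ∘ enc m s)
            rw [show onF h' x (X ∘ (enc m s).symm) = h' (x ∘ enc m s) X by
              simp [onF, Function.comp_assoc], this, zero_mul]
          have h2 := LinearMap.congr_fun this (z ∘ (split 0).symm)
          simp only [LinearMap.comp_apply, formL_apply, LinearMap.zero_apply] at h2
          rw [show LinearMap.funLeft F F (split 0) (z ∘ (split 0).symm) = z by
            funext; simp [LinearMap.funLeft_apply]] at h2
          rw [h2, map_zero]
        obtain ⟨X', hX'⟩ := key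
        refine ⟨⟨X', hX'⟩, X', fun h => hX' ?_⟩
        have e' : ∀ v w, h' v w = σ (h' w v) := fun v w => by
          simp only [h', map_div₀, self_fixed hP.hf, ← hP.hh.herm]
        rw [e', h, map_zero] }
  refine ⟨h', ⟨hu, hP.hf, hP.c_ne, fun u u' => ?_⟩, fun i => ⟨?_, ?_, hP.hf, fun x x' w w' => hprod i x w x' w'⟩⟩
  · show H (ins 0 (pvE u) e) (ins 0 (pvE u') e) / f e e = _
    rw [hpp, mul_div_assoc, div_self he, mul_one]
  · exact unitary_comp (split i) hP.hh
  · exact unitary_comp (enc m s) hu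

lemma Pow.c_fixed {t : ℕ} {H : ((Fin t → Fin m) → F) → ((Fin t → Fin m) → F) → F}
    (hm : 0 < m) (hP : Pow σ c H f) : σ c = c := by
  haveI : Nonempty (Fin m) := ⟨⟨0, hm⟩⟩
  obtain ⟨e, he⟩ := exists_anisotropic hP.hf
  have h := self_fixed hP.hh (pv fun _ : Fin t => e)
  rw [hP.prod, map_mul, map_prod] at h
  simp only [self_fixed hP.hf] at h
  exact mul_right_cancel₀ (Finset.prod_ne_zero_iff.2 fun _ _ => he) h

/-- The rank one nilpotent map of an isotropic vector. -/
def Nm (hf : IsUnitaryForm σ f) (v : Fin m → F) : Matrix (Fin m) (Fin m) F :=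
  Matrix.vecMulVec v (Unit.formDual hf v)

lemma Nm_mulVec (hf : IsUnitaryForm σ f) (v z : Fin m → F) : Nm hf v *ᵥ z = f z v • v := by
  rw [Nm, Matrix.vecMulVec_mulVec, Unit.formDual_dot]
  simp

lemma uTv_val (hf : IsUnitaryForm σ f) {v : Fin m → F} (hv : f v v = 0) (a : F) :
    (uTv hf v a).val = 1 + a • Nm hf v := by
  rw [uTv, coe_tvGL (uTv_dot hf hv a), Nm, Matrix.vecMulVec_smul]

/-- A group above the slotwise special unitary groups. -/
structure TW (σ : F ≃+* F) (c : F) (H : ((Fin (s + 1) → Fin m) → F) → ((Fin (s + 1) → Fin m) → F) → F)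
    (f : (Fin m → F) → (Fin m → F) → F) (G : Subgroup (GL (Fin (s + 1) → Fin m) F)) : Prop where
  pow : Pow σ c H f
  le : G ≤ isoOf H
  mem : ∀ i B, B ∈ isoOf f ⊓ specialLinear (Fin m) F → sG i B ∈ G

/-- All root maps of the group at the slots are scalar. -/
def OS (hf : IsUnitaryForm σ f) (G : Subgroup (GL (Fin (s + 1) → Fin m) F)) : Prop :=
  ∀ (i : Fin (s + 1)) (v : Fin m → F), v ≠ 0 → f v v = 0 → ∀ g ∈ G,
    ∀ Y : Matrix (Fin (s + 1) → Fin m) (Fin (s + 1) → Fin m) F, (∀ X, Commute Y (slot i X)) →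
      g.val = 1 + Y * slot i (Nm hf v) → ∃ κ : F, Y * slot i (Nm hf v) = κ • slot i (Nm hf v)

lemma sG_mem_iso (hm : 0 < m) (hP : Pow σ c H f) (i : Fin (s + 1)) {B : GL (Fin m) F}
    (hB : B ∈ isoOf f) : sG i B ∈ isoOf H := by
  obtain ⟨h', -, hU⟩ := exists_split hm hP
  rw [← at'_mem_iso (i := i), at'_sG]
  exact TensorUnit.kron_mem_iso (hU i) (isoOf _).one_mem hB

lemma permGL_mem_iso (hP : Pow σ c H f) (π : Equiv.Perm (Fin (s + 1))) :
    TWreath.permGL π ∈ isoOf H := by
  refine iso_of_pv hP.hh fun u u' => ?_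
  have e : ∀ w : Fin (s + 1) → Fin m → F,
      (TWreath.permGL π : GL (Fin (s + 1) → Fin m) F) •ᵥ pv w = pv (w ∘ ⇑π⁻¹) :=
    fun w => TWreath.permMat_mulVec_pvec π w
  rw [e, e, hP.prod, hP.prod]
  congr 1
  exact Equiv.prod_comp π⁻¹ (fun i => f (u i) (u' i))

variable {G : Subgroup (GL (Fin (s + 2) → Fin m) F)}
  {H : ((Fin (s + 2) → Fin m) → F) → ((Fin (s + 2) → Fin m) → F) → F}

/-- The hypotheses pass to the other slots. -/
theorem TW.comap (hm : 0 < m) (T : TW σ c H f G) (hS : OS T.pow.hf G) (i : Fin (s + 2)) :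
    ∃ h', TW σ c h' f (G.comap (oG i)) ∧ OS T.pow.hf (G.comap (oG i)) := by
  obtain ⟨h', hh', hU⟩ := exists_split hm T.pow
  refine ⟨h', ⟨hh', fun A hA x x' => ?_, fun l B hB => ?_⟩, fun l v hv0 hv g hg Y hY hgY => ?_⟩
  · haveI : Nonempty (Fin m) := ⟨⟨0, hm⟩⟩
    obtain ⟨e, he⟩ := exists_anisotropic T.pow.hf
    have h1 := mem_isoOf.1 ((at'_mem_iso (i := i)).2 (T.le hA)) (pt (x ∘ (enc m (s + 1)).symm) e)
      (pt (x' ∘ (enc m (s + 1)).symm) e)
    rw [at'_oG, kronGL_pt, kronGL_pt, Units.val_one, one_mulVec, (hU i).prod, (hU i).prod,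
      onE_mulVec, onE_mulVec] at h1
    have h2 := mul_right_cancel₀ he h1
    simpa [onF, Function.comp_assoc] using h2
  · show oG i (sG l B) ∈ G
    rw [oG_sG]
    exact T.mem _ B hB
  · obtain ⟨κ, hκ⟩ := hS (i.succAbove l) v hv0 hv (oG i g) hg (oth i Y)
      (fun X => by rw [← oth_slot]; exact (hY X).map (oth i))
      (by rw [oG_val, hgY, map_add, map_one, map_mul, oth_slot])
    refine ⟨κ, oth_injective hm i ?_⟩
    rw [map_mul, map_smul, oth_slot, hκ]

end CfsgLib.ClassicalMax.TWU
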