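/-
Tensor products of two unitary forms: the stabiliser of an isotropic line in the presence of the
special unitary group of one factor only.

The arguments follow those for the full tensor product, with conjugates of that factor in place of
members of the group.
-/
import Cfsg.Agent.Lib.ClassicalMax.TensorUnitLine
import Cfsg.Agent.Lib.ClassicalMax.TensorUnitFill
set_option autoImplicit false
set_option linter.unusedSectionVars false

namespace CfsgLib.ClassicalMax.TWU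

open Matrix Kronecker Module Cfsg.Geo
open CfsgLib.ClassicalMax.Kron
open CfsgLib.ClassicalMax.Unit
open CfsgLib.ClassicalMax.TensorUnit (UPair OnlyScalar RK cv cv_pt cv_add_vec cv_smul_vec h_pt_right
  h_pt_left eq_pt_of_cv kron_mem_iso kron_eich_act kron_uTv_act cv_kron_left eich eich_mulVec
  eich_mem_isoOf eich_mem_sl eq_of_form exists_anisotropic exists_partner exists_value_hyp
  exists_move exists_move_tau exists_gl ptLeft ptLeft_apply)
open CfsgLib.ClassicalMax.TensorSL (InH lcon lcon_pt)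

local notation:80 g:81 " •ᵥ " z:80 => Matrix.mulVec (Units.val g) z

section Form

variable {ι : Type} [Fintype ι] [DecidableEq ι] {F : Type*} [Field F] [Fintype F] [DecidableEq F]
  {σ : F ≃+* F} {f : (ι → F) → (ι → F) → F}

/-- An isometry multiplying an isotropic vector by any non-zero scalar. -/
lemma exists_scale (hg : IsUnitaryForm σ f) (hι : 3 ≤ Fintype.card ι) {v : ι → F} (hv0 : v ≠ 0)
    (hv : f v v = 0) {l : F} (hl : l ≠ 0) :
    ∃ B ∈ isoOf f ⊓ specialLinear ι F, B •ᵥ v = l • v := by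
  obtain ⟨p, hp, hvp, hpv⟩ := exists_partner hg hv0 hv
  obtain ⟨τ, hτ0, hτ⟩ := exists_trace_zero hg.ne_refl hg.involutive
  set β := -(τ * τ * τ) / l with hβ
  have hβ0 : β ≠ 0 := div_ne_zero (neg_ne_zero.2 (mul_ne_zero (mul_ne_zero hτ0 hτ0) hτ0)) hl
  obtain ⟨w, hwv, hwp, hww⟩ := exists_value_hyp hg hι hv hp hvp
    (s := -(β + σ β)) (by rw [map_neg, map_add, hg.involutive, add_comm])
  set w₂ := p + β • v + w with hw₂def
  have hw₂ : f w₂ w₂ = 0 := by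
    simp only [hw₂def, hg.add_left, add_right hg, hg.smul_left, smul_right hg, hp, hv, hvp, hpv,
      hwv, hwp, eq_zero_comm hg hwv, eq_zero_comm hg hwp, hww]
    ring
  have hpw₂ : f p w₂ = σ β := by
    simp only [hw₂def, add_right hg, smul_right hg, hp, hpv, eq_zero_comm hg hwp]; ring
  have hw₂v : f w₂ v = 1 := by
    simp only [hw₂def, hg.add_left, hg.smul_left, hv, hpv, hwv]; ring
  have hσβ : σ β ≠ 0 := fun e => hβ0 (σ.injective (e.trans (map_zero σ).symm))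
  obtain ⟨g₁, hg₁, e₁⟩ := exists_move_tau hg hv hp (by rw [hvp]; exact one_ne_zero) hτ0 hτ
  obtain ⟨g₂, hg₂, e₂⟩ := exists_move_tau hg hp hw₂ (by rw [hpw₂]; exact hσβ) hτ0 hτ
  obtain ⟨g₃, hg₃, e₃⟩ := exists_move_tau hg hw₂ hv (by rw [hw₂v]; exact one_ne_zero) hτ0 hτ
  refine ⟨g₃ * (g₂ * g₁), mul_mem hg₃ (mul_mem hg₂ hg₁), ?_⟩
  rw [gl_mulVec_mul, gl_mulVec_mul, e₁, mulVec_smul, e₂, mulVec_smul, mulVec_smul, e₃, smul_smul,
    smul_smul, hvp, hpw₂, hw₂v, div_one, map_div₀, hg.involutive, hτ, hβ]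
  congr 1
  field_simp

/-- In dimension four an isotropic vector has an independent orthogonal one. -/
lemma exists_isotropic_orth_line {k : ℕ} {f : (Fin k → F) → (Fin k → F) → F}
    (hg : IsUnitaryForm σ f) (hk : 4 ≤ k) {v : Fin k → F} (hv0 : v ≠ 0) (hv : f v v = 0) :
    ∃ e : Fin k → F, ∃ v', e ≠ 0 ∧ f e e = 0 ∧ f e v = 0 ∧
      e ∉ Submodule.span F ({v} : Set (Fin k → F)) ∧ f e v' = 0 := by
  obtain ⟨p, hp, hvp, hpv⟩ := exists_partner hg hv0 hv
  obtain ⟨e, he, he0, hee⟩ := exists_isotropic_mem hg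
    (W := LinearMap.ker (formL hg v) ⊓ LinearMap.ker (formL hg p)) (by
      have h1 := LinearMap.finrank_range_add_finrank_ker (LinearMap.prod (formL hg v) (formL hg p))
      have h2 : finrank F (LinearMap.range (LinearMap.prod (formL hg v) (formL hg p))) ≤ 2 :=
        (Submodule.finrank_le _).trans (by rw [finrank_prod, finrank_self])
      rw [LinearMap.ker_prod, finrank_fin_fun] at h1
      omega)
  refine ⟨e, p, he0, hee, he.1, fun hm => ?_, he.2⟩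
  obtain ⟨r, rfl⟩ := Submodule.mem_span_singleton.1 hm
  have h1 : f (r • v) p = 0 := he.2
  rw [hg.smul_left, hvp, mul_one] at h1
  exact he0 (by rw [h1, zero_smul])

end Form

variable {F : Type*} [Field F] [DecidableEq F] {a b : ℕ} {σ : F ≃+* F}
  {h : (Fin a × Fin b → F) → (Fin a × Fin b → F) → F} {f₁ : (Fin a → F) → (Fin a → F) → F}
  {f₂ : (Fin b → F) → (Fin b → F) → F} {M : Subgroup (GL (Fin a × Fin b) F)}

/-- A group of isometries containing the special unitary group of the second factor. -/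
structure LHyp (σ : F ≃+* F) (h : (Fin a × Fin b → F) → (Fin a × Fin b → F) → F)
    (f₁ : (Fin a → F) → (Fin a → F) → F) (f₂ : (Fin b → F) → (Fin b → F) → F)
    (M : Subgroup (GL (Fin a × Fin b) F)) : Prop where
  pair : UPair σ h f₁ f₂
  pos : 0 < a
  three_le : 3 ≤ b
  le : M ≤ isoOf h
  mem : ∀ B ∈ isoOf f₂ ⊓ specialLinear (Fin b) F, kronGL 1 B ∈ M

variable [Fintype F] (H : LHyp σ h f₁ f₂ M)
include H

lemma LHyp.nonempty_left : Nonempty (Fin a) := ⟨⟨0, H.pos⟩⟩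

/-- Linear map `s ↦ cv v' (x (pt s w) - pt s w)`. -/
lemma lw_eq {x : GL (Fin a × Fin b) F} {v v' : Fin b → F} (hv : f₂ v' v = 1)
    (hker : ∀ z, cv H.pair v z = 0 → ∃ s, x •ᵥ z = z + pt s v) {w : Fin b → F} (hw : f₂ v w = 0)
    (s : Fin a → F) :
    x •ᵥ pt s w = pt s w + pt (cv H.pair v' (x •ᵥ pt s w - pt s w)) v := by
  obtain ⟨t, ht⟩ := hker (pt s w) (by rw [cv_pt, eq_zero_comm H.pair.h₂ hw, zero_smul])
  have e : f₂ v v' = 1 := by rw [H.pair.h₂.herm, hv, map_one]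
  rw [ht, add_sub_cancel_left, cv_pt, e, one_smul]

/-- An element fixing a tensor line pointwise acts by scalars between it and its perp. -/
lemma exists_phi (hS : OnlyScalar H.pair M) {x : GL (Fin a × Fin b) F} (hxi : x ∈ isoOf h)
    (hx : ∀ B ∈ isoOf f₂ ⊓ specialLinear (Fin b) F, x * kronGL 1 B * x⁻¹ ∈ M) {v : Fin b → F}
    (hv0 : v ≠ 0) (hv : f₂ v v = 0) (hfix : ∀ s, x •ᵥ pt s v = pt s v)
    (hker : ∀ z, cv H.pair v z = 0 → ∃ s, x •ᵥ z = z + pt s v) :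
    ∃ φ : (Fin b → F) →ₗ[F] F,
      ∀ w, f₂ v w = 0 → ∀ s, x •ᵥ pt s w = pt s w + pt (φ w • s) v := by
  have hP := H.pair
  obtain ⟨v', -, hvv', hv'v⟩ := exists_partner hP.h₂ hv0 hv
  let D : (Fin a × Fin b → F) →ₗ[F] (Fin a × Fin b → F) :=
    Matrix.toLin' (x : Matrix (Fin a × Fin b) (Fin a × Fin b) F) - LinearMap.id
  let D' : (Fin a × Fin b → F) →ₗ[F] (Fin a × Fin b → F) :=
    Matrix.toLin' ((x⁻¹ : GL (Fin a × Fin b) F) : Matrix (Fin a × Fin b) (Fin a × Fin b) F) -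
      LinearMap.id
  have hcvx : ∀ z, cv hP v (x •ᵥ z) = cv hP v z := fun z => by
    refine eq_of_form hP.h₁ fun s => ?_
    rw [← h_pt_right hP, ← h_pt_right hP]
    conv_lhs => rw [← hfix s]
    exact hxi _ _
  let L : (Fin b → F) → ((Fin a → F) →ₗ[F] (Fin a → F)) := fun w => cv hP v' ∘ₗ D ∘ₗ ptR w
  let L' : (Fin b → F) → ((Fin a → F) →ₗ[F] (Fin a → F)) := fun w => cv hP w ∘ₗ D' ∘ₗ ptR v'
  have hL : ∀ w, f₂ v w = 0 → ∀ s, x •ᵥ pt s w = pt s w + pt (L w s) v := fun w hw s => by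
    simpa [L, D, Matrix.toLin'_apply] using lw_eq H hv'v hker hw s
  -- the commutators give root maps
  have hRK : ∀ w, f₂ v w = 0 → RK hP M v (L w - L' w) := by
    intro w hw
    obtain ⟨c, hc⟩ := exists_trace_eq hP.h₂ (s := - f₂ w w) (by rw [map_neg, self_fixed hP.h₂])
    set n := kronGL (1 : GL (Fin a) F) (eich hP.h₂ v w c)
    have hn : n ∈ M := H.mem _ ⟨eich_mem_isoOf hP.h₂ hv hw hc, eich_mem_sl _ _ _ _⟩
    refine ⟨n⁻¹ * (x * n * x⁻¹), M.mul_mem (M.inv_mem hn)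
        (hx _ ⟨eich_mem_isoOf hP.h₂ hv hw hc, eich_mem_sl _ _ _ _⟩),
      fun z => gl_mulVec_injective n ?_⟩
    show n •ᵥ _ = n •ᵥ _
    set y := x⁻¹ •ᵥ z with hy
    have hcy : cv hP v y = cv hP v z := by rw [← hcvx y, hy, gl_mulVec_inv_mulVec]
    set z₀ := z - pt (cv hP v z) v' with hz₀
    have hcz₀ : cv hP v z₀ = 0 := by rw [hz₀, map_sub, cv_pt, hv'v, one_smul, sub_self]
    have hwy : cv hP w y - cv hP w z = L' w (cv hP v z) := by
      obtain ⟨t, ht⟩ := hker z₀ hcz₀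
      have h1 : x⁻¹ •ᵥ z₀ = z₀ - pt t v := gl_mulVec_injective x (by
        show x •ᵥ _ = x •ᵥ _
        rw [gl_mulVec_inv_mulVec, mulVec_sub, ht, hfix, add_sub_cancel_right])
      have h2 := congrArg (cv hP w) h1
      rw [hz₀, mulVec_sub, map_sub, map_sub, map_sub, cv_pt hP w t v, hw, zero_smul, sub_zero,
        ← hy] at h2
      simp only [L', D', LinearMap.comp_apply, ptR_apply, LinearMap.sub_apply, Matrix.toLin'_apply,
        LinearMap.id_apply, map_sub]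
      linear_combination (norm := module) h2
    rw [gl_mulVec_mul, gl_mulVec_inv_mulVec, gl_mulVec_mul, gl_mulVec_mul, ← hy,
      kron_eich_act hP hv hw, kron_eich_act hP hv hw, mulVec_add, mulVec_add, hy,
      gl_mulVec_inv_mulVec, ← hy, hfix, hL w hw, hcy, map_add, map_add, cv_pt, cv_pt, hv, hw,
      LinearMap.sub_apply, ← hwy]
    simp only [zero_smul, add_zero]
    funext i
    simp [pt, Pi.add_apply]
    ring
  have hadj : ∀ w, f₂ v w = 0 → ∀ s t, f₁ (L' w s) t = f₁ s (L w t) := by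
    intro w hw s t
    simp only [L', D', LinearMap.comp_apply, ptR_apply, LinearMap.sub_apply, Matrix.toLin'_apply,
      LinearMap.id_apply, map_sub, sub_left hP.h₁]
    rw [← h_pt_right hP, ← h_pt_right hP,
      form_mulVec_left ((isoOf h).inv_mem (hxi)), inv_inv, hL w hw,
      add_right hP.hh, add_sub_cancel_left, hP.prod, hv'v, mul_one]
  obtain ⟨l, hl⟩ : ∃ l, σ l ≠ l := by
    by_contra h
    push Not at h
    exact hP.h₁.ne_refl (RingEquiv.ext h)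
  have hscal : ∀ w, f₂ v w = 0 → ∃ c : F, ∀ s, L w s = c • s := by
    intro w hw
    have hlw : f₂ v (l • w) = 0 := by rw [smul_right hP.h₂, hw, mul_zero]
    obtain ⟨c, hc⟩ := hS v _ hv0 hv (hRK w hw)
    obtain ⟨c', hc'⟩ := hS v _ hv0 hv (hRK _ hlw)
    have hLl : ∀ s, L (l • w) s = l • L w s := fun s => by simp [L, pt_smul_right]
    have hL'l : ∀ s, L' (l • w) s = σ l • L' w s := fun s => by
      refine eq_of_form hP.h₁ fun t => ?_
      rw [hadj _ hlw, hP.h₁.smul_left, hadj _ hw, hLl, smul_right hP.h₁]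
    refine ⟨(c' - σ l * c) / (l - σ l), fun s => ?_⟩
    have h1 : L w s - L' w s = c • s := hc s
    have h2 : L (l • w) s - L' (l • w) s = c' • s := hc' s
    rw [hLl, hL'l] at h2
    have h3 : (l - σ l) • L w s = (c' - σ l * c) • s := by
      linear_combination (norm := module) h2 - σ l • h1
    rw [div_eq_inv_mul, mul_smul, ← h3, inv_smul_smul₀ (sub_ne_zero.2 (Ne.symm hl))]
  haveI := H.nonempty_left
  obtain ⟨x₀, hx₀⟩ := exists_ne (0 : Fin a → F)
  obtain ⟨η, hη⟩ := exists_sum_dot hx₀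
  refine ⟨{ toFun := fun w => η ⬝ᵥ L w x₀
            map_add' := fun w w' => by simp [L, pt_add_right, dotProduct_add, mulVec_add]
            map_smul' := fun c w => by simp [L, pt_smul_right, dotProduct_smul, mulVec_smul] },
    fun w hw s => ?_⟩
  obtain ⟨c, hc⟩ := hscal w hw
  show _ = pt s w + pt ((η ⬝ᵥ L w x₀) • s) v
  rw [hL w hw, hc, hc, dotProduct_smul, hη, smul_eq_mul, mul_one]

/-- A root map whose conjugates of the second factor lie in the group is scalar. -/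
lemma root_scalar (hS : OnlyScalar H.pair M) (hex : 4 ≤ b ∨ ∃ μ : F, σ μ = μ ∧ μ ≠ 0 ∧ μ ≠ 1)
    {x : GL (Fin a × Fin b) F} (hxi : x ∈ isoOf h)
    (hx : ∀ B ∈ isoOf f₂ ⊓ specialLinear (Fin b) F, x * kronGL 1 B * x⁻¹ ∈ M)
    {v : Fin b → F} (hv0 : v ≠ 0) (hv : f₂ v v = 0) {K : (Fin a → F) →ₗ[F] (Fin a → F)}
    (hK : ∀ z, x •ᵥ z = z + pt (K (cv H.pair v z)) v) : ∃ κ : F, ∀ s, K s = κ • s := by
  classical
  have hP := H.pair
  have hxinv : ∀ z, x⁻¹ •ᵥ z = z - pt (K (cv hP v z)) v := fun z => gl_mulVec_injective x (by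
    show x •ᵥ _ = x •ᵥ _
    rw [gl_mulVec_inv_mulVec, hK, map_sub, cv_pt, hv, zero_smul, sub_zero, sub_add_cancel])
  have hy : ∀ (B : GL (Fin b) F), B ∈ isoOf f₂ ⊓ specialLinear (Fin b) F →
      x * kronGL 1 B * x⁻¹ * (kronGL 1 B)⁻¹ ∈ M := fun B hB =>
    M.mul_mem (hx B hB) (M.inv_mem (H.mem B hB))
  have hact : ∀ (B : GL (Fin b) F), B ∈ isoOf f₂ → f₂ (B •ᵥ v) v = 0 → ∀ z,
      (x * kronGL 1 B * x⁻¹ * (kronGL 1 B)⁻¹) •ᵥ z = z + pt (K (cv hP v z)) v -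
        pt (K (cv hP (B •ᵥ v) z)) (B •ᵥ v) := by
    intro B hB hBv z
    have hc : cv hP v ((kronGL (1 : GL (Fin a) F) B)⁻¹ •ᵥ z) = cv hP (B •ᵥ v) z := by
      refine eq_of_form hP.h₁ fun y => ?_
      rw [← h_pt_right hP, ← h_pt_right hP,
        form_mulVec_left ((isoOf h).inv_mem (kron_mem_iso hP (isoOf f₁).one_mem hB)), inv_inv,
        kronGL_pt, Units.val_one, one_mulVec]
    rw [gl_mulVec_mul, gl_mulVec_mul, gl_mulVec_mul, hxinv, mulVec_sub, gl_mulVec_inv_mulVec, hc,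
      kronGL_pt, Units.val_one, one_mulVec, hK, map_sub, cv_pt, hBv, zero_smul, sub_zero]
    abel
  rcases hex with hb | ⟨μ, hμ, hμ0, hμ1⟩
  · -- a second isotropic point orthogonal to the first
    obtain ⟨v'', _, hv''0, hv''i, hv''v, hv''n, -⟩ := exists_isotropic_orth_line hP.h₂ hb hv0 hv
    obtain ⟨B, hB, ν, hν, hBv⟩ := exists_move hP.h₂ hv0 hv hv''0 hv''i
    set e := B •ᵥ v with he
    have hee : f₂ e e = 0 := by rw [he, mem_isoOf.1 hB.1, hv]
    have hev : f₂ e v = 0 := by rw [hBv, hP.h₂.smul_left, hv''v, mul_zero]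
    have hne : e ∉ Submodule.span F ({v} : Set (Fin b → F)) := fun hm => hv''n (by
      have := Submodule.smul_mem _ ν⁻¹ hm
      rwa [hBv, inv_smul_smul₀ hν] at this)
    have hyM := hy B hB
    set y := x * kronGL 1 B * x⁻¹ * (kronGL 1 B)⁻¹
    have hye := hact B hB.1 (by rw [← he]; exact hev)
    rw [← he] at hye
    set u := v + e with hu
    have hu0 : u ≠ 0 := fun h0 => hne (Submodule.mem_span_singleton.2 ⟨-1, by
      rw [neg_one_smul, ← eq_neg_of_add_eq_zero_right h0]⟩)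
    have huu : f₂ u u = 0 := by
      rw [hu, hP.h₂.add_left, add_right hP.h₂, add_right hP.h₂, hv, hee, hev,
        eq_zero_comm hP.h₂ hev]
      simp
    have hfix : ∀ s, y •ᵥ pt s u = pt s u := fun s => by
      rw [hye, cv_pt, cv_pt, hu, hP.h₂.add_left, hP.h₂.add_left, hv, hev, hee,
        eq_zero_comm hP.h₂ hev]
      simp [pt_zero_left]
    have hker : ∀ z, cv hP u z = 0 → ∃ s, y •ᵥ z = z + pt s u := fun z hz => by
      refine ⟨K (cv hP v z), ?_⟩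
      rw [hu, cv_add_vec] at hz
      rw [hye, eq_neg_of_add_eq_zero_right hz, map_neg, hu, pt_add_right]
      funext i
      simp [pt]
      ring
    obtain ⟨φ, hφ⟩ := exists_phi H hS (H.le hyM) (fun B' hB' =>
      M.mul_mem (M.mul_mem hyM (H.mem B' hB')) (M.inv_mem hyM)) hu0 huu hfix hker
    obtain ⟨χ, hχu, hχv⟩ := exists_dot_eq (v := u) (w := v) fun hm => by
      obtain ⟨r, hr⟩ := Submodule.mem_span_singleton.1 hm
      rcases eq_or_ne r 0 with rfl | hr0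
      · exact hv0 (by rw [← hr, zero_smul])
      · refine hne (Submodule.mem_span_singleton.2 ⟨r⁻¹ - 1, ?_⟩)
        rw [sub_smul, one_smul, ← eq_inv_smul_iff₀ hr0 |>.2 hr, hu]
        abel
    obtain ⟨w, hw⟩ := Unit.exists_form_eq hP.h₂
      { toFun := fun z => χ ⬝ᵥ z
        map_add' := fun z z' => dotProduct_add _ _ _
        map_smul' := fun r z => dotProduct_smul _ _ _ }
    have huw : f₂ u w = 0 := by rw [hw]; exact hχu
    have hwv : f₂ w v = 1 := by rw [hP.h₂.herm, hw]; simp [hχv]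
    have hwe : f₂ w e = -1 := by
      have h1 := eq_zero_comm hP.h₂ huw
      rw [hu, add_right hP.h₂, hwv] at h1
      linear_combination h1
    refine ⟨φ w, fun s => ?_⟩
    have h1 := hφ w huw s
    rw [hye, cv_pt, cv_pt, hwv, hwe, one_smul, neg_one_smul, map_neg,
      show pt (-(K s)) e = -pt (K s) e by funext i; simp [pt], sub_neg_eq_add, add_assoc,
      ← pt_add_right, ← hu, add_right_inj] at h1
    exact ptR_injective hu0 h1
  · -- scaling the point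
    obtain ⟨l, hl⟩ := exists_norm_eq hP.h₂.ne_refl hP.h₂.involutive hμ
    have hl0 : l ≠ 0 := fun e => hμ0 (by rw [← hl, e, zero_mul])
    obtain ⟨B, hB, hBv⟩ := exists_scale hP.h₂ (by rw [Fintype.card_fin]; exact H.three_le) hv0 hv hl0
    have hye := hact B hB.1 (by rw [hBv, hP.h₂.smul_left, hv, mul_zero])
    obtain ⟨κ, hκ⟩ := hS v ((1 - μ) • K) hv0 hv ⟨_, hy B hB, fun z => by
      rw [hye, hBv, cv_smul_vec, map_smul, LinearMap.smul_apply, ← hl]
      funext i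
      simp [pt]
      ring⟩
    refine ⟨(1 - μ)⁻¹ * κ, fun s => ?_⟩
    have h1 : (1 - μ) • K s = κ • s := hκ s
    rw [mul_smul, ← h1, inv_smul_smul₀ (sub_ne_zero.2 (Ne.symm hμ1))]

/-- An element fixing an isotropic tensor line pointwise, trivial between it and its perp, is a
tensor. -/
lemma rad_inH (hS : OnlyScalar H.pair M) (hex : 4 ≤ b ∨ ∃ μ : F, σ μ = μ ∧ μ ≠ 0 ∧ μ ≠ 1) {x : GL (Fin a × Fin b) F} (hxi : x ∈ isoOf h)
    (hx : ∀ B ∈ isoOf f₂ ⊓ specialLinear (Fin b) F, x * kronGL 1 B * x⁻¹ ∈ M) {v : Fin b → F}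
    (hv0 : v ≠ 0) (hv : f₂ v v = 0) (hfix : ∀ s, x •ᵥ pt s v = pt s v)
    (hker : ∀ z, cv H.pair v z = 0 → ∃ s, x •ᵥ z = z + pt s v) : InH x := by
  have hP := H.pair
  obtain ⟨v', -, hvv', hv'v⟩ := exists_partner hP.h₂ hv0 hv
  obtain ⟨φ, hφ⟩ := exists_phi H hS hxi hx hv0 hv hfix hker
  obtain ⟨w₀, hw₀⟩ := Unit.exists_form_eq hP.h₂ φ
  haveI := H.nonempty_left
  obtain ⟨x₀, hx₀⟩ := exists_ne (0 : Fin a → F)
  have hφv : φ v = 0 := by
    have h1 := hφ v hv x₀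
    rw [hfix, left_eq_add] at h1
    by_contra hne
    exact pt_ne_zero (smul_ne_zero hne hx₀) hv0 h1
  have hvw₀ : f₂ v w₀ = 0 := by rw [hw₀, hφv]
  obtain ⟨c, hc⟩ := exists_trace_eq hP.h₂ (s := - f₂ w₀ w₀) (by rw [map_neg, self_fixed hP.h₂])
  set n := kronGL (1 : GL (Fin a) F) (eich hP.h₂ v w₀ c) with hndef
  have hn : n ∈ M := H.mem _ ⟨eich_mem_isoOf hP.h₂ hv hvw₀ hc, eich_mem_sl _ _ _ _⟩
  set x₁ := n * x with hx₁def
  have hx₁i : x₁ ∈ isoOf h := mul_mem (H.le hn) hxi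
  have hx₁ : ∀ B ∈ isoOf f₂ ⊓ specialLinear (Fin b) F, x₁ * kronGL 1 B * x₁⁻¹ ∈ M := fun B hB => by
    rw [show x₁ * kronGL 1 B * x₁⁻¹ = n * (x * kronGL 1 B * x⁻¹) * n⁻¹ by rw [hx₁def]; group]
    exact M.mul_mem (M.mul_mem hn (hx B hB)) (M.inv_mem hn)
  have hfix₁ : ∀ w, f₂ v w = 0 → ∀ s, x₁ •ᵥ pt s w = pt s w := by
    intro w hw s
    rw [hx₁def, gl_mulVec_mul, hφ w hw, mulVec_add, hndef, kronGL_pt, kronGL_pt, Units.val_one,
      one_mulVec, one_mulVec, eich_mulVec hP.h₂ hv hvw₀, eich_mulVec hP.h₂ hv hvw₀,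
      eq_zero_comm hP.h₂ hw, hv, hw₀, hvw₀]
    funext i
    simp [pt]
    ring
  have hD : ∀ z, ∃ s, x₁ •ᵥ z - z = pt s v := fun z => ⟨_, eq_pt_of_cv hP hvv' fun w hw => by
    refine eq_of_form hP.h₁ fun t => ?_
    rw [map_sub, sub_left hP.h₁, zero_left hP.h₁, ← h_pt_right hP, ← h_pt_right hP, sub_eq_zero]
    conv_lhs => rw [← hfix₁ w hw t]
    exact hx₁i _ _⟩
  let K : (Fin a → F) →ₗ[F] (Fin a → F) := cv hP v' ∘ₗ
    (Matrix.toLin' (x₁ : Matrix (Fin a × Fin b) (Fin a × Fin b) F) - LinearMap.id) ∘ₗ ptR v'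
  have hK : ∀ z, x₁ •ᵥ z = z + pt (K (cv hP v z)) v := by
    intro z
    have := linear_ext (f := Matrix.toLin' (x₁ : Matrix (Fin a × Fin b) (Fin a × Fin b) F))
      (g := LinearMap.id + ptR v ∘ₗ K ∘ₗ cv hP v) fun s w => by
        have hw' : f₂ v (w - f₂ w v • v') = 0 := by
          rw [sub_right hP.h₂, smul_right hP.h₂, hvv', mul_one, ← hP.h₂.herm, sub_self]
        obtain ⟨t, ht⟩ := hD (pt (f₂ w v • s) v')
        have e : pt s w = pt s (w - f₂ w v • v') + pt (f₂ w v • s) v' := by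
          rw [pt_sub_right, pt_smul_right, pt_smul_left, sub_add_cancel]
        have e' : cv hP v (pt s w) = f₂ w v • s := cv_pt hP _ _ _
        simp only [LinearMap.add_apply, LinearMap.id_apply, LinearMap.comp_apply, ptR_apply, e',
          Matrix.toLin'_apply, K, LinearMap.sub_apply, ht, cv_pt, hvv', one_smul]
        conv_lhs => rw [e, mulVec_add, hfix₁ _ hw', sub_eq_iff_eq_add.1 ht]
        rw [e]; abel
    exact LinearMap.congr_fun this z
  obtain ⟨κ, hκ⟩ := root_scalar H hS hex hx₁i hx₁ hv0 hv hK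
  have hd : (κ • Unit.formDual hP.h₂ v) ⬝ᵥ v = 0 := uTv_dot hP.h₂ hv κ
  have hroot : x₁ = kronGL 1 (tvGL v (κ • Unit.formDual hP.h₂ v)) := by
    refine gl_ext_pt fun s w => ?_
    rw [hK, hκ, cv_pt, kronGL_pt, Units.val_one, one_mulVec, tvGL_mulVec hd, smul_dotProduct,
      Unit.formDual_dot, pt_add_right, pt_smul_right, pt_smul_left, pt_smul_left, smul_smul,
      smul_eq_mul]
  have : x = n⁻¹ * x₁ := by rw [hx₁def, inv_mul_cancel_left]
  rw [this]
  exact InH.mul (InH.inv ⟨_, _, hndef⟩) ⟨_, _, hroot⟩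

/-- The stabiliser of an isotropic tensor line consists of tensors. -/
theorem line_inH (hS : OnlyScalar H.pair M) (hex : 4 ≤ b ∨ ∃ μ : F, σ μ = μ ∧ μ ≠ 0 ∧ μ ≠ 1)
    {g : GL (Fin a × Fin b) F} (hgi : g ∈ isoOf h)
    (hgc : ∀ B ∈ isoOf f₂ ⊓ specialLinear (Fin b) F, g * kronGL 1 B * g⁻¹ ∈ M)
    {v v₁ : Fin b → F} (hv0 : v ≠ 0) (hv : f₂ v v = 0) (hv₁0 : v₁ ≠ 0) (hv₁ : f₂ v₁ v₁ = 0)
    (hline : ∀ s, ∃ t, g •ᵥ pt s v₁ = pt t v) : InH g := by
  have hP := H.pair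
  haveI := H.nonempty_left
  haveI : Nonempty (Fin b) := ⟨⟨0, by have := H.three_le; omega⟩⟩
  obtain ⟨v', -, hvv', hv'v⟩ := exists_partner hP.h₂ hv0 hv
  obtain ⟨v₂, hv₂, hv₁v₂, hv₂v₁⟩ := exists_partner hP.h₂ hv₁0 hv₁
  let α : (Fin a → F) →ₗ[F] (Fin a → F) := cv hP v' ∘ₗ
    Matrix.toLin' (g : Matrix (Fin a × Fin b) (Fin a × Fin b) F) ∘ₗ ptR v₁
  have hα : ∀ s, g •ᵥ pt s v₁ = pt (α s) v := fun s => by
    obtain ⟨t, ht⟩ := hline s
    simp [α, Matrix.toLin'_apply, ht, cv_pt, hvv']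
  have hαinj : Function.Injective α := fun s t hst =>
    ptR_injective hv₁0 (gl_mulVec_injective g (by simp [hα, hst]))
  have hαsurj : Function.Surjective α := Finite.injective_iff_surjective.1 hαinj
  let β : (Fin a → F) →ₗ[F] (Fin a → F) := cv hP v₁ ∘ₗ
    Matrix.toLin' ((g⁻¹ : GL (Fin a × Fin b) F) : Matrix (Fin a × Fin b) (Fin a × Fin b) F) ∘ₗ ptR v'
  have hcg : ∀ z s, f₁ (cv hP v₁ (g⁻¹ •ᵥ z)) s = f₁ (cv hP v z) (α s) := fun z s => by
    rw [← h_pt_right hP, ← h_pt_right hP, ← hα,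
      form_mulVec_left ((isoOf h).inv_mem hgi), inv_inv]
  have hβ : ∀ z, cv hP v₁ (g⁻¹ •ᵥ z) = β (cv hP v z) := fun z => eq_of_form hP.h₁ fun s => by
    simp only [β, LinearMap.comp_apply, Matrix.toLin'_apply, ptR_apply, hcg, cv_pt, hv'v, one_smul]
  have hβadj : ∀ s t, f₁ (β s) t = f₁ s (α t) := fun s t => by
    simp only [β, LinearMap.comp_apply, Matrix.toLin'_apply, ptR_apply, hcg, cv_pt, hv'v, one_smul]
  -- the similarity
  obtain ⟨μ, hμ⟩ : ∃ μ : F, ∀ s, α (β s) = μ • s := by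
    obtain ⟨τ, hτ0, hτ⟩ := exists_trace_zero hP.h₂.ne_refl hP.h₂.involutive
    set T := kronGL (1 : GL (Fin a) F) (uTv hP.h₂ v₁ τ)
    obtain ⟨μ, hμ⟩ := hS v (τ • (α ∘ₗ β)) hv0 hv ⟨g * T * g⁻¹,
      hgc _ ⟨uTv_mem_isoOf hP.h₂ hv₁ hτ, uTv_mem_sl _ _ _⟩, fun z => by
        rw [gl_mulVec_mul, gl_mulVec_mul, kron_uTv_act hP hv₁, mulVec_add, gl_mulVec_inv_mulVec,
          hα, hβ, map_smul]
        rfl⟩
    refine ⟨τ⁻¹ * μ, fun s => ?_⟩
    have := hμ s
    rw [LinearMap.smul_apply, LinearMap.comp_apply] at this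
    rw [mul_smul, ← this, inv_smul_smul₀ hτ0]
  have hμ0 : μ ≠ 0 := by
    intro e
    obtain ⟨s, hs⟩ := exists_anisotropic hP.h₁
    obtain ⟨t, rfl⟩ := hαsurj s
    refine hs ?_
    rw [← hβadj, hαinj (show α (β (α t)) = α 0 by rw [hμ, e, zero_smul, map_zero]), zero_left hP.h₁]
  have hαform : ∀ s t, f₁ (α s) (α t) = μ * f₁ s t := fun s t => by
    rw [← hβadj, hαinj (show α (β (α s)) = α (μ • s) by rw [hμ, map_smul]), hP.h₁.smul_left]
  have hμσ : σ μ = μ := by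
    obtain ⟨s, hs⟩ := exists_anisotropic hP.h₁
    have h1 := self_fixed hP.h₁ (α s)
    rw [hαform, map_mul, self_fixed hP.h₁] at h1
    exact mul_right_cancel₀ hs h1
  -- images of the perp of the line
  have hcg0 : ∀ w', f₂ v₁ w' = 0 → ∀ s, cv hP v (g •ᵥ pt s w') = 0 := fun w' hw' s =>
    eq_of_form hP.h₁ fun t => by
      obtain ⟨t, rfl⟩ := hαsurj t
      rw [zero_left hP.h₁, ← h_pt_right hP, ← hα, mem_isoOf.1 hgi, hP.prod,
        eq_zero_comm hP.h₂ hw', mul_zero]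
  have hψ : ∀ w', f₂ v₁ w' = 0 → ∀ w, f₂ v w = 0 →
      ∃ ψ : F, ∀ s, cv hP w (g •ᵥ pt s w') = ψ • α s := by
    intro w' hw'
    obtain ⟨c, hc⟩ := exists_trace_eq hP.h₂ (s := - f₂ w' w') (by rw [map_neg, self_fixed hP.h₂])
    set n := kronGL (1 : GL (Fin a) F) (eich hP.h₂ v₁ w' c)
    have hx : g * n * g⁻¹ ∈ M := hgc _ ⟨eich_mem_isoOf hP.h₂ hv₁ hw' hc, eich_mem_sl _ _ _ _⟩
    have hact : ∀ z, cv hP v z = 0 →
        (g * n * g⁻¹) •ᵥ z = z + pt (-α (cv hP w' (g⁻¹ •ᵥ z))) v := by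
      intro z hz
      rw [gl_mulVec_mul, gl_mulVec_mul, kron_eich_act hP hv₁ hw', hβ, hz, map_zero, smul_zero,
        zero_sub, pt_zero_left, add_zero, mulVec_add, gl_mulVec_inv_mulVec, hα, map_neg]
    have hfix : ∀ s, (g * n * g⁻¹) •ᵥ pt s v = pt s v := fun s => by
      obtain ⟨t, rfl⟩ := hαsurj s
      rw [← hα, gl_mulVec_mul, gl_mulVec_mul, gl_inv_mulVec_mulVec, kron_eich_act hP hv₁ hw', cv_pt,
        cv_pt, hv₁, hw']
      simp [pt_zero_left]
    obtain ⟨φ, hφ⟩ := exists_phi H hS (H.le hx) (fun B hB => M.mul_mem (M.mul_mem hx (H.mem B hB))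
      (M.inv_mem hx)) hv0 hv hfix fun z hz => ⟨_, hact z hz⟩
    intro w hw
    have h1 : ∀ t, -α (cv hP w' (g⁻¹ •ᵥ pt t w)) = φ w • t := fun t => by
      have e := (hact (pt t w) (by rw [cv_pt, eq_zero_comm hP.h₂ hw, zero_smul])).symm.trans
        (hφ w hw t)
      exact ptR_injective hv0 (add_left_cancel e)
    have h2 : ∀ t, cv hP w' (g⁻¹ •ᵥ pt t w) = (-(φ w) / μ) • β t := fun t => by
      refine hαinj ?_
      rw [map_smul, hμ, smul_smul, div_mul_cancel₀ _ hμ0, neg_smul, ← h1, neg_neg]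
    refine ⟨σ (-(φ w) / μ), fun s => eq_of_form hP.h₁ fun t => ?_⟩
    rw [hP.h₁.smul_left, ← h_pt_right hP, form_mulVec_left hgi, h_pt_left hP, h2, smul_right hP.h₁]
    congr 1
    rw [hP.h₁.herm, hβadj, ← hP.h₁.herm]
  obtain ⟨lam, hlam⟩ := exists_norm_eq hP.h₁.ne_refl hP.h₁.involutive hμσ
  have hlam0 : lam ≠ 0 := fun e => hμ0 (by rw [← hlam, e, zero_mul])
  obtain ⟨s₀, hs₀⟩ := exists_anisotropic hP.h₁
  have hαs₀ : α s₀ ≠ 0 := fun e => hs₀ (by rw [hαinj (e.trans (map_zero α).symm), zero_left hP.h₁])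
  obtain ⟨η, hη⟩ := exists_sum_dot hαs₀
  let y : (Fin b → F) →ₗ[F] (Fin b → F) := lam • (lcon η ∘ₗ
    Matrix.toLin' (g : Matrix (Fin a × Fin b) (Fin a × Fin b) F) ∘ₗ ptLeft s₀)
  obtain ⟨A, hA⟩ := exists_gl (lam⁻¹ • α) (fun s t hst => hαinj (by
    simpa using congrArg (lam • ·) hst |> fun e => by simpa [smul_smul, hlam0] using e))
  have hAi : A ∈ isoOf f₁ := by
    intro s t
    show f₁ (A •ᵥ s) (A •ᵥ t) = f₁ s t
    rw [hA, hA, LinearMap.smul_apply, LinearMap.smul_apply, hP.h₁.smul_left, smul_right hP.h₁,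
      hαform, ← hlam, map_inv₀]
    have : σ lam ≠ 0 := fun e => hlam0 (by simpa using congrArg σ.symm e)
    field_simp
  have hlcon : ∀ w z, f₂ (lcon η z) w = η ⬝ᵥ cv hP w z := by
    intro w z
    let E : (Fin a → F) →ₗ[F] F :=
      { toFun := fun x => η ⬝ᵥ x
        map_add' := fun x x' => dotProduct_add _ _ _
        map_smul' := fun c x => dotProduct_smul _ _ _ }
    have := linear_ext (f := formL hP.h₂ w ∘ₗ lcon η) (g := E ∘ₗ cv hP w) fun x u => by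
      simp [E, lcon_pt, cv_pt, hP.h₂.smul_left, dotProduct_smul, mul_comm]
    exact LinearMap.congr_fun this z
  have hy : ∀ w', f₂ v₁ w' = 0 → f₂ (y w') v = 0 ∧
      ∀ s, ∃ t, g •ᵥ pt s w' = pt (A •ᵥ s) (y w') + pt t v := by
    intro w' hw'
    refine ⟨?_, fun s => ?_⟩
    · simp only [y, LinearMap.smul_apply, LinearMap.comp_apply, ptLeft_apply, Matrix.toLin'_apply,
        hP.h₂.smul_left, hlcon, hcg0 w' hw', dotProduct_zero, mul_zero]
    · refine ⟨_, eq_add_of_sub_eq' (eq_pt_of_cv hP hvv' fun w hw => ?_)⟩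
      obtain ⟨ψ, hψ'⟩ := hψ w' hw' w hw
      have hY : f₂ (y w') w = lam * ψ := by
        simp only [y, LinearMap.smul_apply, LinearMap.comp_apply, ptLeft_apply, Matrix.toLin'_apply,
          hP.h₂.smul_left, hlcon, hψ', dotProduct_smul, hη, smul_eq_mul, mul_one]
      rw [map_sub, hψ', cv_pt, hY, hA, LinearMap.smul_apply, smul_smul, mul_right_comm,
        mul_inv_cancel₀ hlam0, one_mul, sub_self]
  have hyv : y v₁ = lam • v := by
    simp [y, Matrix.toLin'_apply, hα, lcon_pt, hη]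
  have hyiso : ∀ w w', f₂ v₁ w = 0 → f₂ v₁ w' = 0 → f₂ (y w) (y w') = f₂ w w' := by
    intro w w' hw hw'
    obtain ⟨hwv, hwt⟩ := hy w hw
    obtain ⟨hwv', hwt'⟩ := hy w' hw'
    obtain ⟨t, ht⟩ := hwt s₀
    obtain ⟨t', ht'⟩ := hwt' s₀
    have h1 := mem_isoOf.1 hgi (pt s₀ w) (pt s₀ w')
    rw [ht, ht', hP.hh.add_left, add_right hP.hh, add_right hP.hh, hP.prod, hP.prod, hP.prod,
      hP.prod, hP.prod, hwv, eq_zero_comm hP.h₂ hwv', hv, mul_zero, mul_zero, mul_zero, add_zero,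
      add_zero, add_zero, mem_isoOf.1 hAi] at h1
    exact mul_left_cancel₀ hs₀ h1
  -- extend to an isometry of the second factor
  let W : Submodule F (Fin b → F) := LinearMap.ker (formL hP.h₂ v₁)
  have hW : ∀ {w}, w ∈ W → f₂ v₁ w = 0 := fun {w} hw => eq_zero_comm hP.h₂ hw
  have hyinj : Function.Injective (y.domRestrict W) := by
    refine (injective_iff_map_eq_zero _).2 fun ⟨w, hw⟩ e => Subtype.ext ?_
    change y w = 0 at e
    have h1 : w = f₂ w v₂ • v₁ := by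
      refine eq_of_form hP.h₂ fun x => ?_
      have hx : f₂ v₁ (x - f₂ x v₁ • v₂) = 0 := by
        rw [sub_right hP.h₂, smul_right hP.h₂, hv₁v₂, mul_one, ← hP.h₂.herm, sub_self]
      have h2 : f₂ w (x - f₂ x v₁ • v₂) = 0 := by
        rw [← hyiso w _ (hW hw) hx, e, zero_left hP.h₂]
      rw [sub_right hP.h₂, smul_right hP.h₂, sub_eq_zero] at h2
      rw [h2, hP.h₂.smul_left, ← hP.h₂.herm, mul_comm]
    have h3 := congrArg y h1
    rw [e, map_smul, hyv, smul_smul, eq_comm, smul_eq_zero, or_iff_left hv0, mul_eq_zero,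
      or_iff_left hlam0] at h3
    show w = 0
    rw [h1, h3, zero_smul]
  obtain ⟨yi, hyi⟩ := LinearMap.exists_leftInverse_of_injective (y.domRestrict W)
    (LinearMap.ker_eq_bot.2 hyinj)
  obtain ⟨p₀, hp₀⟩ := Unit.exists_form_eq hP.h₂ (formL hP.h₂ v₂ ∘ₗ W.subtype ∘ₗ yi)
  have hp₀' : ∀ w, w ∈ W → f₂ (y w) p₀ = f₂ w v₂ := fun w hw => by
    rw [hp₀]
    have := LinearMap.congr_fun hyi ⟨w, hw⟩
    simp only [LinearMap.comp_apply, LinearMap.id_apply] at this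
    rw [LinearMap.comp_apply, LinearMap.comp_apply, formL_apply,
      show y w = y.domRestrict W ⟨w, hw⟩ from rfl, this]
    rfl
  have hvp : lam * f₂ v p₀ = 1 := by
    rw [← hP.h₂.smul_left, ← hyv, hp₀' v₁ hv₁, hv₁v₂]
  obtain ⟨a₀, ha₀⟩ := exists_trace_eq hP.h₂ (s := - f₂ p₀ p₀) (by rw [map_neg, self_fixed hP.h₂])
  set p := p₀ + (lam * a₀) • v with hp
  have hpp : f₂ p p = 0 := by
    rw [hp, hP.h₂.add_left, add_right hP.h₂, add_right hP.h₂, hP.h₂.smul_left, hP.h₂.smul_left,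
      smul_right hP.h₂, smul_right hP.h₂, hv, hP.h₂.herm p₀ v, map_mul]
    have hvp' := congrArg σ hvp
    rw [map_mul, map_one] at hvp'
    linear_combination ha₀ + a₀ * hvp + σ a₀ * hvp'
  have hyp : ∀ w, w ∈ W → f₂ (y w) p = f₂ w v₂ := fun w hw => by
    rw [hp, add_right hP.h₂, smul_right hP.h₂, (hy w (hW hw)).1, mul_zero, add_zero, hp₀' w hw]
  let Bl : (Fin b → F) →ₗ[F] (Fin b → F) :=
    y ∘ₗ (LinearMap.id - (formL hP.h₂ v₁).smulRight v₂) + (formL hP.h₂ v₁).smulRight p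
  have hWm : ∀ w, w - f₂ w v₁ • v₂ ∈ W := fun w => by
    show f₂ (w - f₂ w v₁ • v₂) v₁ = 0
    rw [sub_left hP.h₂, hP.h₂.smul_left, hv₂v₁, mul_one, sub_self]
  have hBl : ∀ w, Bl w = y (w - f₂ w v₁ • v₂) + f₂ w v₁ • p := fun w => rfl
  have hBiso : ∀ w w', f₂ (Bl w) (Bl w') = f₂ w w' := by
    intro w w'
    rw [hBl, hBl, hP.h₂.add_left, add_right hP.h₂, add_right hP.h₂, hP.h₂.smul_left,
      hP.h₂.smul_left, smul_right hP.h₂, smul_right hP.h₂, hpp, hyp _ (hWm w),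
      hP.h₂.herm p, hyp _ (hWm w'), hyiso _ _ (hW (hWm w)) (hW (hWm w')), ← hP.h₂.herm v₂]
    simp only [sub_left hP.h₂, sub_right hP.h₂, hP.h₂.smul_left, smul_right hP.h₂, hv₂, hv₂v₁]
    ring
  obtain ⟨B, hB⟩ := exists_gl Bl fun w w' e => eq_of_form hP.h₂ fun x => by
    rw [← hBiso, e, hBiso]
  have hBi : B ∈ isoOf f₂ := fun w w' => by
    show f₂ (B •ᵥ w) (B •ᵥ w') = f₂ w w'
    rw [hB, hB, hBiso]
  have hBW : ∀ w', f₂ v₁ w' = 0 → B •ᵥ w' = y w' := fun w' hw' => by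
    rw [hB, hBl, eq_zero_comm hP.h₂ hw', zero_smul, sub_zero, zero_smul, add_zero]
  set k := kronGL A B with hk
  have hki : k ∈ isoOf h := kron_mem_iso hP hAi hBi
  have hkv : ∀ s, k •ᵥ pt s v₁ = pt (α s) v := fun s => by
    rw [hk, kronGL_pt, hA, hBW v₁ hv₁, hyv, LinearMap.smul_apply, pt_smul_left, pt_smul_right,
      inv_smul_smul₀ hlam0]
  set u := k⁻¹ * g with hu
  have hufix : ∀ s, u •ᵥ pt s v₁ = pt s v₁ := fun s => by
    rw [hu, gl_mulVec_mul, hα, ← hkv, gl_inv_mulVec_mulVec]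
  have huW : ∀ w', f₂ v₁ w' = 0 → ∀ s, ∃ t, u •ᵥ pt s w' = pt s w' + pt t v₁ := by
    intro w' hw' s
    obtain ⟨t, ht⟩ := (hy w' hw').2 s
    obtain ⟨t', rfl⟩ := hαsurj t
    refine ⟨t', ?_⟩
    rw [hu, gl_mulVec_mul, ht, ← hBW w' hw', ← kronGL_pt, ← hkv, ← hk, mulVec_add,
      gl_inv_mulVec_mulVec, gl_inv_mulVec_mulVec]
  have huker : ∀ z, cv hP v₁ z = 0 → ∃ s, u •ᵥ z = z + pt s v₁ := by
    intro z hz
    let E : (Fin a × Fin b → F) →ₗ[F] (Fin a × Fin b → F) :=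
      LinearMap.id - ptR v₂ ∘ₗ cv hP v₁
    let D : (Fin a × Fin b → F) →ₗ[F] (Fin a × Fin b → F) :=
      (Matrix.toLin' (u : Matrix (Fin a × Fin b) (Fin a × Fin b) F) - LinearMap.id) ∘ₗ E
    have := linear_ext (f := D) (g := ptR v₁ ∘ₗ cv hP v₂ ∘ₗ D) fun s w => by
      have hE : E (pt s w) = pt s (w - f₂ w v₁ • v₂) := by
        simp [E, cv_pt, pt_sub_right, pt_smul_right, pt_smul_left]
      obtain ⟨t, ht⟩ := huW _ (hW (hWm w)) s
      have hD : D (pt s w) = pt t v₁ := by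
        simp only [D, LinearMap.comp_apply, hE, LinearMap.sub_apply, Matrix.toLin'_apply, ht,
          LinearMap.id_apply, add_sub_cancel_left]
      show D (pt s w) = ptR v₁ (cv hP v₂ (D (pt s w)))
      rw [hD, cv_pt, hv₁v₂, one_smul, ptR_apply]
    have h1 := LinearMap.congr_fun this z
    simp only [D, E, LinearMap.comp_apply, LinearMap.sub_apply, LinearMap.id_apply, hz, map_zero,
      sub_zero, Matrix.toLin'_apply, ptR_apply] at h1
    exact ⟨_, eq_add_of_sub_eq' h1⟩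
  have hucv : ∀ z, cv hP v₁ (u •ᵥ z) = cv hP v₁ z := fun z => eq_of_form hP.h₁ fun s => by
    rw [← h_pt_right hP, ← h_pt_right hP]
    conv_lhs => rw [← hufix s]
    exact mem_isoOf.1 ((isoOf h).mul_mem ((isoOf h).inv_mem hki) hgi) _ _
  have hk' : ∀ B' ∈ isoOf f₂ ⊓ specialLinear (Fin b) F, B * B' * B⁻¹ ∈ isoOf f₂ ⊓ specialLinear (Fin b) F :=
    fun B' hB' => Subgroup.mem_inf.2 ⟨mul_mem (mul_mem hBi hB'.1) (inv_mem hBi),
      Subgroup.Normal.conj_mem (by unfold specialLinear; infer_instance) _ hB'.2 _⟩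
  have hkr : ∀ B' : GL (Fin b) F,
      k * kronGL 1 B' * k⁻¹ = kronGL (1 : GL (Fin a) F) (B * B' * B⁻¹) := fun B' => by
    rw [hk, kronGL_inv, kronGL_mul, kronGL_mul, mul_one, mul_inv_cancel]
  let M' : Subgroup (GL (Fin a × Fin b) F) := M.comap (MulAut.conj k).toMonoidHom
  have hmM' : ∀ {y}, y ∈ M' ↔ k * y * k⁻¹ ∈ M := Iff.rfl
  have H' : LHyp σ h f₁ f₂ M' :=
    ⟨hP, H.pos, H.three_le, fun y hy => by
      have := mul_mem (mul_mem (inv_mem hki) (H.le (hmM'.1 hy))) hki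
      simpa [mul_assoc] using this,
      fun B' hB' => hmM'.2 (by rw [hkr]; exact H.mem _ (hk' B' hB'))⟩
  have hS' : OnlyScalar hP M' := by
    intro w K hw0 hw hK
    obtain ⟨y, hy, hye⟩ := hK
    have hcw : ∀ z, cv hP w (k⁻¹ •ᵥ z) = A⁻¹ •ᵥ cv hP (B •ᵥ w) z := fun z => by
      refine eq_of_form hP.h₁ fun s => ?_
      rw [← h_pt_right hP, form_mulVec_left (inv_mem hki), inv_inv, hk, kronGL_pt, h_pt_right hP,
        form_mulVec_left (inv_mem hAi), inv_inv]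
    obtain ⟨κ, hκ⟩ := hS (B •ᵥ w) (Matrix.toLin' (A : Matrix (Fin a) (Fin a) F) ∘ₗ K ∘ₗ
      Matrix.toLin' ((A⁻¹ : GL (Fin a) F) : Matrix (Fin a) (Fin a) F))
      (fun e => hw0 (gl_mulVec_injective B (e.trans (mulVec_zero _).symm)))
      (by rw [mem_isoOf.1 hBi, hw]) ⟨_, hmM'.1 hy, fun z => by
        rw [gl_mulVec_mul, gl_mulVec_mul, hye, mulVec_add, gl_mulVec_inv_mulVec, hcw, hk, kronGL_pt]
        simp [Matrix.toLin'_apply]⟩
    refine ⟨κ, fun s => gl_mulVec_injective A ?_⟩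
    show A •ᵥ _ = A •ᵥ _
    have := hκ (A •ᵥ s)
    simp only [LinearMap.comp_apply, Matrix.toLin'_apply, gl_inv_mulVec_mulVec] at this
    rw [this, mulVec_smul]
  have hui : u ∈ isoOf h := mul_mem (inv_mem hki) hgi
  have huc : ∀ B' ∈ isoOf f₂ ⊓ specialLinear (Fin b) F, u * kronGL 1 B' * u⁻¹ ∈ M' := fun B' hB' => by
    rw [hmM', show k * (u * kronGL 1 B' * u⁻¹) * k⁻¹ = g * kronGL 1 B' * g⁻¹ by rw [hu]; group]
    exact hgc B' hB'
  rw [show g = k * u by rw [hu, mul_inv_cancel_left]]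
  exact InH.mul ⟨_, _, hk⟩ (rad_inH H' hS' hex hui huc hv₁0 hv₁ hufix huker)

end CfsgLib.ClassicalMax.TWU
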