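/-
Tensor powers of a unitary form: root elements of the slots and the elements respecting them.
-/
import Cfsg.Agent.Lib.ClassicalMax.TWU.Form
import Cfsg.Agent.Lib.ClassicalMax.TWU.Line
import Cfsg.Agent.Lib.Forms.Classify
set_option autoImplicit false
set_option linter.unusedSectionVars false

namespace CfsgLib.ClassicalMax.TWU

open Matrix Kronecker Module Cfsg.Geo
open CfsgLib.ClassicalMax.Kron
open CfsgLib.ClassicalMax.Unit
open CfsgLib.ClassicalMax.TensorUnit (UPair RK OnlyScalar cv cv_pt exists_anisotropic eq_of_form)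
open CfsgLib.ClassicalMax.TensorSL (InH)
open CfsgLib.ClassicalMax.TWreath (slot slot_injective slot_comm)

local notation:80 g:81 " •ᵥ " z:80 => Matrix.mulVec (Units.val g) z

variable {F : Type*} [Field F] [DecidableEq F] [Fintype F] {m s : ℕ} {σ : F ≃+* F} {c : F}
  {f : (Fin m → F) → (Fin m → F) → F}

lemma Nm_sq (hf : IsUnitaryForm σ f) {v : Fin m → F} (hv : f v v = 0) :
    Nm hf v * Nm hf v = 0 := by
  refine ext_of_mulVec_single fun i => ?_
  rw [← mulVec_mulVec, Nm_mulVec, Nm_mulVec, hf.smul_left, hv, mul_zero, zero_smul, zero_mulVec]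

lemma Nm_ne_zero (hf : IsUnitaryForm σ f) {v : Fin m → F} (hv0 : v ≠ 0) : Nm hf v ≠ 0 := fun h => by
  obtain ⟨⟨x, hx⟩, -⟩ := hf.nondegenerate v hv0
  exact smul_ne_zero hx hv0 (by rw [← Nm_mulVec hf, h, zero_mulVec])

lemma trace_Nm (hf : IsUnitaryForm σ f) (v : Fin m → F) : (Nm hf v).trace = f v v := by
  rw [Nm, trace_vecMulVec, dotProduct_comm, Unit.formDual_dot]

/-- Three scalars of norm minus one. -/
lemma exists_three_norm (hf : IsUnitaryForm σ f) :
    ∃ a b d : F, a * σ a = -1 ∧ b * σ b = -1 ∧ d * σ d = -1 ∧ a ≠ b ∧ a ≠ d ∧ b ≠ d := by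
  obtain ⟨ζ₀, hζ₀⟩ := exists_norm_eq hf.ne_refl hf.involutive (s := (-1 : F)) (by simp)
  obtain ⟨l, hl⟩ : ∃ l, σ l ≠ l := by
    by_contra h
    push Not at h
    exact hf.ne_refl (RingEquiv.ext h)
  have hσ0 : ∀ {x : F}, x ≠ 0 → σ x ≠ 0 := fun {x} hx e => hx (by simpa using congrArg σ.symm e)
  have hl0 : l ≠ 0 := fun e => hl (by rw [e, map_zero])
  have hl1 : l + 1 ≠ 0 := fun e => hl (by rw [eq_neg_of_add_eq_zero_left e, map_neg, map_one])
  have hζ00 : ζ₀ ≠ 0 := fun e => one_ne_zero (α := F) (by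
    rw [e, zero_mul] at hζ₀; exact neg_eq_zero.1 hζ₀.symm)
  have hn : ∀ x : F, x ≠ 0 → ζ₀ * (x / σ x) * σ (ζ₀ * (x / σ x)) = -1 := fun x hx => by
    rw [map_mul, map_div₀, hf.involutive]
    have := hσ0 hx
    field_simp
    linear_combination hζ₀
  refine ⟨ζ₀, ζ₀ * (l / σ l), ζ₀ * ((l + 1) / σ (l + 1)), hζ₀, hn l hl0, hn (l + 1) hl1,
    fun e => hl ?_, fun e => hl ?_, fun e => hl ?_⟩
  · have := mul_left_cancel₀ hζ00 (e.symm.trans (mul_one ζ₀).symm)
    exact ((div_eq_one_iff_eq (hσ0 hl0)).1 this).symm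
  · have := ((div_eq_one_iff_eq (hσ0 hl1)).1
      (mul_left_cancel₀ hζ00 (e.symm.trans (mul_one ζ₀).symm))).symm
    rw [map_add, map_one] at this
    exact add_right_cancel this
  · have := mul_left_cancel₀ hζ00 e
    rw [div_eq_div_iff (hσ0 hl0) (hσ0 hl1), map_add, map_one] at this
    linear_combination -this

/-- The maps `z ↦ f z y • x`. -/
def Rxy (hf : IsUnitaryForm σ f) (x y : Fin m → F) : Matrix (Fin m) (Fin m) F :=
  vecMulVec x (Unit.formDual hf y)

lemma Rxy_mulVec (hf : IsUnitaryForm σ f) (x y z : Fin m → F) : Rxy hf x y *ᵥ z = f z y • x := by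
  rw [Rxy, vecMulVec_mulVec, Unit.formDual_dot]
  simp

/-- The isotropic root maps span the maps of trace zero. -/
theorem iso_span (hf : IsUnitaryForm σ f) (K : Submodule F (Matrix (Fin m) (Fin m) F))
    (h : ∀ v, f v v = 0 → Nm hf v ∈ K) {X : Matrix (Fin m) (Fin m) F} (hX : X.trace = 0) : X ∈ K := by
  classical
  let Bf : (Fin m → F) →ₛₗ[(σ : F →+* F)] (Fin m → F) →ₗ[F] F :=
    LinearMap.mk₂'ₛₗ (σ : F →+* F) (RingHom.id F) (fun x y => f y x)
      (fun x x' y => add_right hf y x x') (fun a x y => smul_right hf a y x)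
      (fun x y y' => hf.add_left y y' x) (fun a x y => hf.smul_left a y x)
  have hσ : (σ : F →+* F) ≠ RingHom.id F := fun e => hf.ne_refl
    (RingEquiv.ext fun x => RingHom.congr_fun e x)
  obtain ⟨E, hspan, hE⟩ := CfsgLib.Forms.exists_orthonormal_family Bf hσ hf.involutive
    ⟨fun x y => (hf.herm x y).symm⟩ m ⊤ (by rw [finrank_top, finrank_fin_fun]) (fun x _ hx => by
      by_contra hx0
      obtain ⟨y, hy⟩ := (hf.nondegenerate x hx0).1
      exact hy (hx y trivial))
  have hE' : ∀ i j, f (E j) (E i) = if i = j then 1 else 0 := hE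
  have hexp : ∀ x, x = ∑ i, f x (E i) • E i := fun x => by
    obtain ⟨d, hd⟩ := (Submodule.mem_span_range_iff_exists_fun F).1
      (hspan.symm ▸ Submodule.mem_top : x ∈ Submodule.span F (Set.range E))
    conv_lhs => rw [← hd]
    refine Finset.sum_congr rfl fun i _ => ?_
    rw [← hd, ← formL_apply hf, map_sum]
    simp [hE']
  let R := fun i l => Rxy hf (E i) (E l)
  have hoff : ∀ i l, i ≠ l → R l i ∈ K ∧ R i i - R l l ∈ K := by
    intro i l hil
    obtain ⟨a, b, d, ha, hb, hd, hab, had, hbd⟩ := exists_three_norm hf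
    have hQ : ∀ ζ, ζ * σ ζ = -1 → ζ • (R i i - R l l) + (ζ * ζ) • R l i - R i l ∈ K := by
      intro ζ hζ
      have hiso : f (E i + ζ • E l) (E i + ζ • E l) = 0 := by
        rw [hf.add_left, add_right hf, add_right hf, hf.smul_left, hf.smul_left, smul_right hf,
          smul_right hf, hE', hE', hE', hE', if_pos rfl, if_pos rfl, if_neg hil, if_neg (Ne.symm hil)]
        linear_combination hζ
      have h1 := K.smul_mem ζ (h _ hiso)
      convert h1 using 1
      refine ext_of_mulVec_single fun p => ?_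
      simp only [R, sub_mulVec, add_mulVec, smul_mulVec, Rxy_mulVec, Nm_mulVec, add_right hf,
        smul_right hf]
      match_scalars
      · linear_combination -f (Pi.single p 1) (E l) * hζ
      · linear_combination -ζ * f (Pi.single p 1) (E l) * hζ
    have h1 : ∀ ζ ζ', ζ ≠ ζ' → ζ * σ ζ = -1 → ζ' * σ ζ' = -1 →
        (R i i - R l l) + (ζ + ζ') • R l i ∈ K := by
      intro ζ ζ' hne hn hn'
      have := K.smul_mem (ζ - ζ')⁻¹ (K.sub_mem (hQ ζ hn) (hQ ζ' hn'))
      convert this using 1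
      rw [show ζ • (R i i - R l l) + (ζ * ζ) • R l i - R i l -
          (ζ' • (R i i - R l l) + (ζ' * ζ') • R l i - R i l) =
          (ζ - ζ') • ((R i i - R l l) + (ζ + ζ') • R l i) by module,
        inv_smul_smul₀ (sub_ne_zero.2 hne)]
    have h2 : R l i ∈ K := by
      have := K.smul_mem (b - d)⁻¹ (K.sub_mem (h1 a b hab ha hb) (h1 a d had ha hd))
      rwa [show (R i i - R l l + (a + b) • R l i) - (R i i - R l l + (a + d) • R l i) =
        (b - d) • R l i by module, inv_smul_smul₀ (sub_ne_zero.2 hbd)] at this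
    refine ⟨h2, ?_⟩
    simpa using K.sub_mem (h1 a b hab ha hb) (K.smul_mem (a + b) h2)
  have hdec : X = ∑ i, ∑ l, f (X *ᵥ E l) (E i) • R i l := by
    refine ext_of_mulVec_single fun p => ?_
    conv_lhs => rw [hexp (Pi.single p 1), mulVec_sum]
    simp only [R, sum_mulVec, smul_mulVec, Rxy_mulVec, mulVec_smul]
    rw [Finset.sum_comm]
    refine Finset.sum_congr rfl fun l _ => ?_
    conv_lhs => rw [hexp (X *ᵥ E l), Finset.smul_sum]
    exact Finset.sum_congr rfl fun i _ => smul_comm _ _ _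
  rcases Nat.eq_zero_or_pos m with hm0 | hm
  · subst hm0
    rw [show X = 0 from Subsingleton.elim _ _]
    exact K.zero_mem
  set o : Fin m := ⟨0, hm⟩
  have htr : ∑ i, f (X *ᵥ E i) (E i) = 0 := by
    have h1 := congrArg Matrix.trace hdec
    simp only [hX, trace_sum, trace_smul, R, Rxy, trace_vecMulVec,
      dotProduct_comm _ (Unit.formDual hf _), Unit.formDual_dot, hE', smul_eq_mul, mul_ite, mul_one,
      mul_zero, Finset.sum_ite_eq', Finset.mem_univ, if_true] at h1
    exact h1.symm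
  rw [hdec]
  have hrw : ∑ i, ∑ l, f (X *ᵥ E l) (E i) • R i l =
      ∑ i, ∑ l, f (X *ᵥ E l) (E i) • (R i l - if i = l then R o o else 0) := by
    simp only [smul_sub, Finset.sum_sub_distrib, smul_ite, smul_zero, Finset.sum_ite_eq,
      Finset.mem_univ, if_true, ← Finset.sum_smul, htr, zero_smul, sub_zero]
  rw [hrw]
  refine K.sum_mem fun i _ => K.sum_mem fun l _ => K.smul_mem _ ?_
  rcases eq_or_ne i l with rfl | hil
  · rw [if_pos rfl]
    rcases eq_or_ne i o with rfl | hio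
    · rw [sub_self]; exact K.zero_mem
    · exact (hoff i o hio).2
  · rw [if_neg hil, sub_zero]
    exact (hoff l i (Ne.symm hil)).1

/-- An element carrying the roots of every slot into slots respects the tensor structure. -/
theorem mem_wr_of_roots (hm : 3 ≤ m) (hf : IsUnitaryForm σ f) {y : GL (Fin (s + 1) → Fin m) F}
    (h : ∀ l v, v ≠ 0 → f v v = 0 → ∃ i N,
      y.val * slot l (Nm hf v) * (y⁻¹ : GL (Fin (s + 1) → Fin m) F).val = slot i N) :
    y ∈ wr m (s + 1) F := by
  classical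
  let C : Matrix (Fin (s + 1) → Fin m) (Fin (s + 1) → Fin m) F →ₗ[F]
      Matrix (Fin (s + 1) → Fin m) (Fin (s + 1) → Fin m) F :=
    LinearMap.mulRight F (y⁻¹ : GL (Fin (s + 1) → Fin m) F).val ∘ₗ LinearMap.mulLeft F y.val
  have hC : ∀ M, C M = y.val * M * (y⁻¹ : GL (Fin (s + 1) → Fin m) F).val := fun M => rfl
  have hCmul : ∀ M M', C (M * M') = C M * C M' := fun M M' => by
    simp only [hC, mul_assoc]
    rw [← mul_assoc (y⁻¹ : GL (Fin (s + 1) → Fin m) F).val y.val, Units.inv_mul, one_mul]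
  have hCinj : Function.Injective C := fun M M' e => by
    have := congrArg (fun Z => (y⁻¹ : GL (Fin (s + 1) → Fin m) F).val * Z * y.val) e
    simpa [hC, mul_assoc] using this
  have hone : ∀ l, ∃ i, ∀ X, ∃ N, C (slot l X) = slot i N := by
    intro l
    obtain ⟨v₀, -, hv₀0, hv₀⟩ := exists_isotropic_mem hf (W := ⊤)
      (by rw [finrank_top, finrank_fin_fun]; omega)
    obtain ⟨i, N₀, hi⟩ := h l v₀ hv₀0 hv₀
    have hnc : ∀ {v w}, f w v ≠ 0 → f v v = 0 → f w w = 0 → ∀ {a N}, C (slot l (Nm hf v)) = slot a N →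
        ∀ {b N'}, C (slot l (Nm hf w)) = slot b N' → a = b := by
      intro v w hwv hv hw a N ha b N' hb
      by_contra hab
      have e1 : C (slot l (Nm hf v * Nm hf w)) = C (slot l (Nm hf w * Nm hf v)) := by
        rw [map_mul (slot l), map_mul (slot l), hCmul, hCmul, ha, hb, slot_comm hab]
      have e2 := congrArg (fun M => M *ᵥ w) (slot_injective l (hCinj e1))
      simp only [← mulVec_mulVec, Nm_mulVec, hw, mulVec_smul, zero_smul, Unit.zero_left hf] at e2
      have hw0 : w ≠ 0 := fun e => hwv (by rw [e, Unit.zero_left hf])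
      exact smul_ne_zero (mul_ne_zero hwv (ne_zero_comm hf hwv)) hw0 (by
        rw [← smul_smul]; exact e2.symm)
    refine ⟨i, fun X => ?_⟩
    let K : Submodule F (Matrix (Fin m) (Fin m) F) :=
      Submodule.comap (C ∘ₗ (slot l).toLinearMap) (LinearMap.range (slot i).toLinearMap)
    have hK : ∀ {Y}, Y ∈ K ↔ ∃ N, C (slot l Y) = slot i N := fun {Y} =>
      ⟨fun ⟨N, hN⟩ => ⟨N, hN.symm⟩, fun ⟨N, hN⟩ => ⟨N, hN.symm⟩⟩
    have hroot : ∀ v, f v v = 0 → Nm hf v ∈ K := by
      intro v hv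
      rcases eq_or_ne v 0 with rfl | hv0
      · rw [show Nm hf (0 : Fin m → F) = 0 by simp [Nm]]; exact K.zero_mem
      obtain ⟨a, N, ha⟩ := h l v hv0 hv
      refine hK.2 ⟨N, ?_⟩
      suffices a = i by rw [← this]; exact ha
      obtain ⟨w, hw, hwv, hwv₀⟩ : ∃ w, f w w = 0 ∧ f w v ≠ 0 ∧ f w v₀ ≠ 0 := by
        have hex : ∀ z : Fin m → F, z ≠ 0 →
            ∃ x ∈ (⊤ : Submodule F (Fin m → F)), formL hf z x ≠ 0 := fun z hz => by
          obtain ⟨x, hx⟩ := (hf.nondegenerate z hz).1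
          exact ⟨x, trivial, hx⟩
        obtain ⟨w, -, hw, h1, h2⟩ := exists_isotropic_avoid hf (W := ⊤)
          (by rw [finrank_top, finrank_fin_fun, Fintype.card_fin]; omega)
          (formL hf v) (formL hf v₀) (hex v hv0) (hex v₀ hv₀0)
        exact ⟨w, hw, h1, h2⟩
      obtain ⟨b, N', hb⟩ := h l w (fun e => hwv (by rw [e, Unit.zero_left hf])) hw
      exact (hnc hwv hv hw ha hb).trans (hnc hwv₀ hv₀ hw hi hb).symm
    refine hK.1 ?_
    have hsl : ∀ p q : Fin m, Matrix.single p q (1 : F) ∈ K := by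
      have hne : ∀ {p q : Fin m}, p ≠ q → Matrix.single p q (1 : F) ∈ K := fun {p q} hpq =>
        iso_span hf K hroot (by
          simp only [Matrix.trace, Matrix.diag]
          exact Finset.sum_eq_zero fun r _ => by simp [Matrix.single]; rintro rfl; exact hpq.symm)
      intro p q
      rcases eq_or_ne p q with rfl | hpq
      swap
      · exact hne hpq
      obtain ⟨r, hr⟩ := Fintype.exists_ne_of_one_lt_card
        (by rw [Fintype.card_fin]; omega) p
      obtain ⟨N, hN⟩ := hK.1 (hne hr.symm)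
      obtain ⟨N', hN'⟩ := hK.1 (hne hr)
      refine hK.2 ⟨N * N', ?_⟩
      rw [map_mul, ← hN, ← hN', ← hCmul, ← map_mul, Matrix.single_mul_single_same, one_mul]
    rw [matrix_eq_sum_single X]
    refine K.sum_mem fun p _ => K.sum_mem fun q _ => ?_
    rw [show Matrix.single p q (X p q) = X p q • Matrix.single p q 1 by simp [Matrix.smul_single]]
    exact K.smul_mem _ (hsl p q)
  choose π hπ using hone
  choose φ hφ using hπ
  have hsurj : ∀ l, Function.Surjective (φ l) := fun l => Finite.injective_iff_surjective.1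
    fun X X' e => slot_injective l (hCinj (by rw [hφ, hφ, e]))
  have hinj : Function.Injective π := by
    intro l l' e
    by_contra hne
    let p : Fin m := ⟨0, by omega⟩
    let q : Fin m := ⟨1, by omega⟩
    have hpq : p ≠ q := by simp [p, q]
    have key : ∀ Y Y' : Matrix (Fin m) (Fin m) F, Y * Y' = Y' * Y := by
      intro Y Y'
      obtain ⟨X, rfl⟩ := hsurj l Y
      obtain ⟨X', rfl⟩ := hsurj l' Y'
      refine slot_injective (π l) ?_
      rw [map_mul, map_mul, ← hφ, e, ← hφ, ← hCmul, ← hCmul, slot_comm hne]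
    have h1 := key (Matrix.single p q 1) (Matrix.single q p 1)
    rw [Matrix.single_mul_single_same, Matrix.single_mul_single_same] at h1
    have h2 := congrFun (congrFun h1 p) p
    simp [Matrix.single, hpq.symm] at h2
  rw [← wr_eq]
  refine TWreath.mem_std_of_slots (by omega) (Nat.succ_pos s)
    (Equiv.ofBijective π (Finite.injective_iff_bijective.1 hinj)) fun l X => ⟨φ l X, hφ l X⟩

/-- A quadratic member of small rank is in a slot, apart from one exception. -/
lemma wr_slot (hm : 3 ≤ m) {g : GL (Fin (s + 1) → Fin m) F} (hg : g ∈ wr m (s + 1) F)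
    (hq : Quad g) (hr : finrank F (res g) ≤ m ^ s) (hne : ¬ ((2 : F) = 0 ∧ m = 3)) :
    ∃ i, IsSlot i g := by
  obtain ⟨π, a, h⟩ := hg
  rcases slot_or_swap hm h hq hr with h1 | ⟨h2, h3, -⟩
  · exact h1
  · exact absurd ⟨h2, h3⟩ hne

/-- Of two such members with such a product one is in a slot. -/
lemma pair_slot (hm : 3 ≤ m) {g g' : GL (Fin (s + 1) → Fin m) F} (hg : g ∈ wr m (s + 1) F)
    (hg' : g' ∈ wr m (s + 1) F) (hq : Quad g) (hr : finrank F (res g) ≤ m ^ s)
    (hq' : Quad g') (hr' : finrank F (res g') ≤ m ^ s)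
    (hq'' : Quad (g * g')) (hr'' : finrank F (res (g * g')) ≤ m ^ s) :
    ∃ i, IsSlot i g ∨ IsSlot i g' ∨ IsSlot i (g * g') := by
  obtain ⟨π, a, h⟩ := hg
  obtain ⟨π', b, h'⟩ := hg'
  have h'' : ∀ u, (g * g') •ᵥ pv u = pv fun i => (a i * b (π i)) •ᵥ u ((π' * π) i) := fun u => by
    rw [gl_mulVec_mul, h', h]
    congr 1
    funext i
    rw [gl_mulVec_mul, Equiv.Perm.mul_apply]
  rcases slot_or_swap hm h hq hr with ⟨i, h1⟩ | ⟨-, -, i, l, hil, e, -⟩
  · exact ⟨i, Or.inl h1⟩
  rcases slot_or_swap hm h' hq' hr' with ⟨j, h1⟩ | ⟨-, -, i', l', hil', e', -⟩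
  · exact ⟨j, Or.inr (Or.inl h1)⟩
  rcases slot_or_swap hm h'' hq'' hr'' with ⟨j, h1⟩ | ⟨-, -, i'', l'', hil'', e'', -⟩
  · exact ⟨j, Or.inr (Or.inr h1)⟩
  have h1 := congrArg Equiv.Perm.sign e''
  rw [Equiv.Perm.sign_mul, e, e', Equiv.Perm.sign_swap hil, Equiv.Perm.sign_swap hil',
    Equiv.Perm.sign_swap hil''] at h1
  exact absurd h1 (by decide)

lemma exists_iso_scalar {i : Fin (s + 1)} {g : GL (Fin (s + 1) → Fin m) F}
    {N : Matrix (Fin (s + 1) → Fin m) (Fin (s + 1) → Fin m) F} (hg : g.val = 1 + N)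
    (h : IsSlot i g) : ∃ B : GL (Fin m) F, g = sG i B ∧ N = slot i (B.val - 1) := by
  obtain ⟨B, rfl⟩ := (isSlot_iff i g).1 h
  refine ⟨B, rfl, ?_⟩
  rw [map_sub, map_one, ← sG_val, hg, add_sub_cancel_left]

variable (hf : IsUnitaryForm σ f)
include hf

/-- The transvection of a slot. -/
lemma sG_uTv_val (l : Fin (s + 1)) {v : Fin m → F} (hv : f v v = 0) (a : F) :
    (sG l (uTv hf v a)).val = 1 + a • slot l (Nm hf v) := by
  rw [sG_val, uTv_val hf hv, map_add, map_one, map_smul]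

lemma sG_uTv_mul (l : Fin (s + 1)) {v : Fin m → F} (hv : f v v = 0) (a b : F) :
    sG l (uTv hf v a) * sG l (uTv hf v b) = sG l (uTv hf v (a + b)) := by
  rw [← map_mul, uTv_mul hf hv]

/-- A conjugate of a slot transvection has small rank. -/
lemma conj_root_props (y : GL (Fin (s + 1) → Fin m) F) (l : Fin (s + 1)) {v : Fin m → F}
    (hv : f v v = 0) (a : F) :
    (y * sG l (uTv hf v a) * y⁻¹).val =
        1 + a • (y.val * slot l (Nm hf v) * (y⁻¹ : GL (Fin (s + 1) → Fin m) F).val) ∧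
      Quad (y * sG l (uTv hf v a) * y⁻¹) ∧
        finrank F (res (y * sG l (uTv hf v a) * y⁻¹)) ≤ m ^ s := by
  set M := y.val * slot l (Nm hf v) * (y⁻¹ : GL (Fin (s + 1) → Fin m) F).val with hM
  have e : (y * sG l (uTv hf v a) * y⁻¹).val = 1 + a • M := by
    rw [Units.val_mul, Units.val_mul, sG_uTv_val hf l hv, mul_add, mul_one, add_mul, Units.mul_inv,
      Matrix.mul_smul, Matrix.smul_mul]
  have hsq : M * M = 0 := by
    rw [hM, show ∀ A B C : Matrix (Fin (s + 1) → Fin m) (Fin (s + 1) → Fin m) F,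
      A * B * C * (A * B * C) = A * (B * (C * A) * B) * C from fun A B C => by
        simp only [mul_assoc], Units.inv_mul, mul_one, ← map_mul, Nm_sq hf hv, map_zero, mul_zero,
      zero_mul]
  refine ⟨e, quad_of_sq_zero e (by rw [smul_mul_smul_comm, hsq, smul_zero]), ?_⟩
  rw [res_finrank, e, add_sub_cancel_left, hM, ← Matrix.smul_mul, ← Matrix.mul_smul]
  refine (rank_conj y _).trans ?_
  rw [← map_smul, Nm, ← Matrix.smul_vecMulVec]
  exact rank_slot_le l _ _

/-- A root of a slot carried into the wreath group with its scalar multiples lies in a slot. -/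
theorem root_to_slot (hm : 3 ≤ m) (hex : 4 ≤ m ∨ ∃ μ : F, σ μ = μ ∧ μ ≠ 0 ∧ μ ≠ 1)
    (y : GL (Fin (s + 1) → Fin m) F) (l : Fin (s + 1)) {v : Fin m → F} (hv : f v v = 0)
    (h : ∀ a, σ a = -a → y * sG l (uTv hf v a) * y⁻¹ ∈ wr m (s + 1) F) :
    ∃ i N, y.val * slot l (Nm hf v) * (y⁻¹ : GL (Fin (s + 1) → Fin m) F).val = slot i N := by
  obtain ⟨τ, hτ0, hτ⟩ := exists_trace_zero hf.ne_refl hf.involutive
  have fin : ∀ a i, a ≠ 0 → IsSlot i (y * sG l (uTv hf v a) * y⁻¹) →
      ∃ i N, y.val * slot l (Nm hf v) * (y⁻¹ : GL (Fin (s + 1) → Fin m) F).val = slot i N := by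
    intro a i ha hs
    obtain ⟨B, -, hB⟩ := exists_iso_scalar (conj_root_props hf y l hv a).1 hs
    exact ⟨i, a⁻¹ • (B.val - 1), by rw [map_smul, ← hB, inv_smul_smul₀ ha]⟩
  by_cases hne : (2 : F) = 0 ∧ m = 3
  swap
  · obtain ⟨i, hi⟩ := wr_slot hm (h τ hτ) (conj_root_props hf y l hv τ).2.1
      (conj_root_props hf y l hv τ).2.2 hne
    exact fin τ i hτ0 hi
  obtain ⟨μ, hμ, hμ0, hμ1⟩ := hex.resolve_left (by omega)
  have hμ' : μ + 1 ≠ 0 := fun e => hμ1 (by linear_combination e - hne.1)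
  have hmul : y * sG l (uTv hf v τ) * y⁻¹ * (y * sG l (uTv hf v (μ * τ)) * y⁻¹) =
      y * sG l (uTv hf v (τ + μ * τ)) * y⁻¹ := by
    rw [← sG_uTv_mul hf l hv]; group
  have h2 := conj_root_props hf y l hv (μ * τ)
  have h3 := conj_root_props hf y l hv (τ + μ * τ)
  obtain ⟨i, hi⟩ := pair_slot hm (h τ hτ) (h (μ * τ) (by rw [map_mul, hμ, hτ, mul_neg]))
    (conj_root_props hf y l hv τ).2.1 (conj_root_props hf y l hv τ).2.2 h2.2.1 h2.2.2
    (by rw [hmul]; exact h3.2.1) (by rw [hmul]; exact h3.2.2)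
  rw [hmul] at hi
  rcases hi with hi | hi | hi
  · exact fin τ i hτ0 hi
  · exact fin (μ * τ) i (mul_ne_zero hμ0 hτ0) hi
  · exact fin (τ + μ * τ) i (by
      rw [show τ + μ * τ = (μ + 1) * τ by ring]; exact mul_ne_zero hμ' hτ0) hi

end CfsgLib.ClassicalMax.TWU
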