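/-
Siegel elements of a slot: multiplication, and the identities of their conjugation operators.
-/
import Cfsg.Agent.Lib.ClassicalMax.TWU.Roots
set_option autoImplicit false
set_option linter.unusedSectionVars false

namespace CfsgLib.ClassicalMax.TWU

open Matrix Kronecker Module Cfsg.Geo
open CfsgLib.ClassicalMax.Kron
open CfsgLib.ClassicalMax.Unit
open CfsgLib.ClassicalMax.TensorUnit (eich eich_mulVec eich_mem_isoOf eich_mem_sl exists_partner
  exists_value_hyp)
open CfsgLib.ClassicalMax.TWreath (slot)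

local notation:80 g:81 " •ᵥ " z:80 => Matrix.mulVec (Units.val g) z

section Alg

variable {F : Type*} [Field F] {R : Type*} [Ring R] [Algebra F R]

/-- The conjugates of `X` by a root element sum up. -/
lemma root_conj {N : R} (lam : F) (X : R) :
    (1 + lam • N) * X * (1 - lam • N) = X + lam • (N * X - X * N) - (lam * lam) • (N * X * N) := by
  simp only [add_mul, mul_sub, one_mul, mul_one, smul_mul_assoc, mul_smul_comm, mul_assoc, mul_add]
  module

/-- The alternating sum over two Siegel elements after a root element. -/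
lemma siegel_pair {N D₁ D₁' D₂ D₂' : R} (hD₂ : D₂ * N = 0) (hN₂' : D₂' * N = 0)
    (hND₂' : N * D₂' = 0) (hN₁ : D₁ * N = 0) (hND₁' : N * D₁' = 0)
    {α α' : F} (h12 : D₁ * D₂ = α • N) (h21 : D₂' * D₁' = α' • N) (lam : F) (X : R)
    {G₀ G₁ : R} (h0 : G₀ = lam • (N * X - X * N) - (lam * lam) • (N * X * N))
    (h1 : G₁ = (1 + D₂) * G₀ * (1 + D₂') - G₀) :
    (1 + D₁) * G₁ * (1 + D₁') - G₁ = (lam * (α' - α)) • (N * X * N) := by
  have e1 : D₂ * G₀ = -(lam • (D₂ * X * N)) := by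
    simp only [h0, mul_sub, mul_smul_comm, ← mul_assoc, hD₂, zero_mul, smul_zero, zero_sub,
      smul_neg, sub_zero]
  have e2 : G₀ * D₂' = lam • (N * X * D₂') := by
    simp only [h0, sub_mul, smul_mul_assoc, mul_assoc, hND₂', mul_zero, smul_zero, sub_zero]
  have hG₁ : G₁ = lam • (N * X * D₂' - D₂ * X * N) := by
    have e3 : D₂ * G₀ * D₂' = 0 := by
      rw [e1, neg_mul, smul_mul_assoc, mul_assoc (D₂ * X), hND₂', mul_zero, smul_zero, neg_zero]
    calc G₁ = D₂ * G₀ + G₀ * D₂' + D₂ * G₀ * D₂' := by rw [h1]; noncomm_ring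
      _ = _ := by rw [e3, e1, e2, smul_sub]; abel
  have f1 : D₁ * G₁ = -((lam * α) • (N * X * N)) := by
    simp only [hG₁, mul_smul_comm, mul_sub, ← mul_assoc, hN₁, zero_mul, zero_sub, h12,
      smul_mul_assoc, smul_neg, smul_smul]
  have f2 : G₁ * D₁' = (lam * α') • (N * X * N) := by
    simp only [hG₁, smul_mul_assoc, sub_mul, mul_assoc, hND₁', mul_zero, sub_zero, h21,
      mul_smul_comm, smul_smul]
  have f3 : D₁ * G₁ * D₁' = 0 := by
    rw [f1, neg_mul, smul_mul_assoc, mul_assoc _ N, hND₁', mul_zero, smul_zero, neg_zero]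
  calc (1 + D₁) * G₁ * (1 + D₁') - G₁ = D₁ * G₁ + G₁ * D₁' + D₁ * G₁ * D₁' := by noncomm_ring
    _ = _ := by rw [f3, f1, f2, mul_sub, sub_smul]; abel

/-- In characteristic two the sum over four Siegel conjugates of two root conjugates vanishes. -/
lemma siegel_pair_sum (h2 : (2 : F) = 0) {N D₁ D₁' D₂ D₂' : R} (hD₂ : D₂ * N = 0)
    (hN₂' : D₂' * N = 0) (hND₂' : N * D₂' = 0) (hN₁ : D₁ * N = 0) (hND₁' : N * D₁' = 0)
    {α : F} (h12 : D₁ * D₂ = α • N) (h21 : D₂' * D₁' = α • N) (lam : F) (X : R) {F₀ : R}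
    (hF : F₀ = X + (1 + lam • N) * X * (1 - lam • N)) :
    F₀ + (1 + D₂) * F₀ * (1 + D₂') + (1 + D₁) * (F₀ + (1 + D₂) * F₀ * (1 + D₂')) * (1 + D₁') = 0 := by
  have h22 : ∀ Z : R, Z + Z = 0 := fun Z => by rw [← two_smul F Z, h2, zero_smul]
  have hneg : ∀ Z : R, -Z = Z := fun Z => neg_eq_of_add_eq_zero_right (h22 Z)
  have hsub : ∀ Z W : R, Z - W = Z + W := fun Z W => by rw [sub_eq_add_neg, hneg]
  have h0 : F₀ = lam • (N * X - X * N) - (lam * lam) • (N * X * N) := by
    rw [hF, root_conj, ← add_sub_assoc, ← add_assoc, h22, zero_add]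
  have key := siegel_pair hD₂ hN₂' hND₂' hN₁ hND₁' h12 h21 lam X h0 rfl
  rw [sub_self, mul_zero, zero_smul] at key
  rw [← key, hsub, hsub, add_comm F₀, add_comm]

end Alg

section Form

variable {F : Type*} [Field F] [DecidableEq F] [Fintype F] {m s : ℕ} {σ : F ≃+* F}
  {f : (Fin m → F) → (Fin m → F) → F}

/-- The parameters of a Siegel element at `v`. -/
def SW (σ : F ≃+* F) (f : (Fin m → F) → (Fin m → F) → F) (v w : Fin m → F) (a : F) : Prop :=
  f v w = 0 ∧ a + σ a = - f w w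

variable (hf : IsUnitaryForm σ f)
include hf

lemma eich_mul {v w w' : Fin m → F} (hv : f v v = 0) {a a' : F} (h : SW σ f v w a)
    (h' : SW σ f v w' a') :
    eich hf v w a * eich hf v w' a' = eich hf v (w + w') (a + a' - f w' w) ∧
      SW σ f v (w + w') (a + a' - f w' w) := by
  have hvw : f v (w + w') = 0 := by rw [add_right hf, h.1, h'.1, add_zero]
  refine ⟨gl_ext_mulVec fun x => ?_, hvw, ?_⟩
  · rw [gl_mulVec_mul, eich_mulVec hf hv h'.1, eich_mulVec hf hv h.1, eich_mulVec hf hv hvw]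
    simp only [hf.add_left, hf.smul_left, hv, eq_zero_comm hf h'.1, add_right hf, h.1]
    module
  · simp only [map_sub, map_add, hf.add_left, add_right hf, ← hf.herm]
    linear_combination h.2 + h'.2

lemma eich_zero {v : Fin m → F} (hv : f v v = 0) (a : F) : eich hf v 0 a = uTv hf v a := by
  refine gl_ext_mulVec fun x => ?_
  rw [eich_mulVec hf hv (Unit.zero_right hf v), uTv_mulVec hf hv, Unit.zero_right hf]
  simp [smul_smul]

lemma SW_zero {v : Fin m → F} {a : F} (ha : σ a = -a) : SW σ f v 0 a :=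
  ⟨Unit.zero_right hf v, by rw [ha, Unit.zero_left hf, add_neg_cancel, neg_zero]⟩

lemma SW_exists {v w : Fin m → F} (h : f v w = 0) : ∃ a, SW σ f v w a :=
  (exists_trace_eq hf (s := - f w w) (by rw [map_neg, self_fixed hf])).imp fun _ ha => ⟨h, ha⟩

lemma SW_smul_nat {v w : Fin m → F} {a : F} (hv : f v v = 0) (h : SW σ f v w a) (n : ℕ) :
    ∃ b, eich hf v w a ^ n = eich hf v ((n : F) • w) b ∧ SW σ f v ((n : F) • w) b := by
  induction n with
  | zero =>
    refine ⟨0, ?_, by rw [Nat.cast_zero, zero_smul]; exact SW_zero hf (by simp)⟩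
    rw [pow_zero, Nat.cast_zero, zero_smul, eich_zero hf hv]
    refine gl_ext_mulVec fun x => ?_
    rw [uTv_mulVec hf hv]
    simp
  | succ n ih =>
    obtain ⟨b, hb, hb'⟩ := ih
    obtain ⟨e, e'⟩ := eich_mul hf hv hb' h
    refine ⟨_, ?_, by rw [Nat.cast_succ, add_smul, one_smul]; exact e'⟩
    rw [pow_succ, hb, Nat.cast_succ, add_smul, one_smul]
    exact e

lemma neg_form_neg (x y : Fin m → F) : f (-x) (-y) = f x y := by
  rw [← neg_one_smul F x, ← neg_one_smul F y, hf.smul_left, smul_right hf, map_neg, map_one]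
  ring

/-- The nilpotent part of a Siegel element. -/
def Dm (v w : Fin m → F) (a : F) : Matrix (Fin m) (Fin m) F :=
  (eich hf v w a).val - 1

lemma Dm_mulVec {v w : Fin m → F} (hv : f v v = 0) (hw : f v w = 0) (a : F) (x : Fin m → F) :
    Dm hf v w a *ᵥ x = f x v • w + (a * f x v - f x w) • v := by
  rw [Dm, sub_mulVec, eich_mulVec hf hv hw, one_mulVec]
  abel

lemma Dm_mul_Nm {v w : Fin m → F} (hv : f v v = 0) (hw : f v w = 0) (a : F) :
    Dm hf v w a * Nm hf v = 0 := by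
  refine ext_of_mulVec_single fun i => ?_
  rw [← mulVec_mulVec, Nm_mulVec, mulVec_smul, Dm_mulVec hf hv hw, hv, hw, zero_mulVec]
  simp

lemma Nm_mul_Dm {v w : Fin m → F} (hv : f v v = 0) (hw : f v w = 0) (a : F) :
    Nm hf v * Dm hf v w a = 0 := by
  refine ext_of_mulVec_single fun i => ?_
  rw [← mulVec_mulVec, Nm_mulVec, Dm_mulVec hf hv hw, hf.add_left, hf.smul_left, hf.smul_left,
    eq_zero_comm hf hw, hv, zero_mulVec]
  simp

lemma Dm_mul_Dm {v w w' : Fin m → F} (hv : f v v = 0) (hw : f v w = 0) (hw' : f v w' = 0) (a a' : F) :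
    Dm hf v w a * Dm hf v w' a' = (- f w' w) • Nm hf v := by
  refine ext_of_mulVec_single fun i => ?_
  rw [← mulVec_mulVec, Dm_mulVec hf hv hw', Dm_mulVec hf hv hw, smul_mulVec, Nm_mulVec]
  simp only [hf.add_left, hf.smul_left, hv, eq_zero_comm hf hw', hw]
  module

variable (l : Fin (s + 1))

/-- The Siegel element of a slot. -/
def nu (v w : Fin m → F) (a : F) : GL (Fin (s + 1) → Fin m) F := sG l (eich hf v w a)

lemma nu_val (v w : Fin m → F) (a : F) : (nu hf l v w a).val = 1 + slot l (Dm hf v w a) := by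
  rw [Dm, map_sub, map_one, add_sub_cancel, nu, sG_val]

lemma nu_inv {v w : Fin m → F} (hv : f v v = 0) {a : F} (h : SW σ f v w a) :
    (nu hf l v w a)⁻¹ = nu hf l v (-w) (σ a) ∧ SW σ f v (-w) (σ a) := by
  have hvw : f v (-w) = 0 := by rw [← zero_sub, sub_right hf, Unit.zero_right hf, h.1, sub_zero]
  refine ⟨by rw [nu, nu, ← map_inv, TensorUnit.eich_inv hf hv h.1 h.2], hvw, ?_⟩
  rw [hf.involutive, add_comm, h.2, neg_form_neg hf]

lemma nu_mul {v w w' : Fin m → F} (hv : f v v = 0) {a a' : F} (h : SW σ f v w a)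
    (h' : SW σ f v w' a') :
    nu hf l v w a * nu hf l v w' a' = nu hf l v (w + w') (a + a' - f w' w) := by
  rw [nu, nu, nu, ← map_mul, (eich_mul hf hv h h').1]

lemma nu_zero {v : Fin m → F} (hv : f v v = 0) (a : F) : nu hf l v 0 a = sG l (uTv hf v a) := by
  rw [nu, eich_zero hf hv]

/-- The sum over four Siegel conjugates of a sum over two root conjugates. -/
lemma pair_sum (h2 : (2 : F) = 0) {v w w' : Fin m → F} (hv : f v v = 0) {a a' : F}
    (h : SW σ f v w a) (h' : SW σ f v w' a') (hreal : f w' w = f w w') {lam : F}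
    (hlam : σ lam = -lam)
    (X : Matrix (Fin (s + 1) → Fin m) (Fin (s + 1) → Fin m) F) :
    let C : GL (Fin (s + 1) → Fin m) F → Matrix (Fin (s + 1) → Fin m) (Fin (s + 1) → Fin m) F →
        Matrix (Fin (s + 1) → Fin m) (Fin (s + 1) → Fin m) F :=
      fun g Z => g.val * Z * (g⁻¹ : GL (Fin (s + 1) → Fin m) F).val
    let F₀ := X + C (nu hf l v 0 lam) X
    F₀ + C (nu hf l v w' a') F₀ + C (nu hf l v w a) (F₀ + C (nu hf l v w' a') F₀) = 0 := by
  intro C F₀
  obtain ⟨hi, hi'⟩ := nu_inv hf l hv h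
  obtain ⟨hj, hj'⟩ := nu_inv hf l hv h'
  have e : (nu hf l v 0 lam)⁻¹ = sG l (uTv hf v (-lam)) := by
    rw [nu_zero hf l hv]
    refine inv_eq_of_mul_eq_one_right ?_
    rw [sG_uTv_mul hf l hv, add_neg_cancel, ← map_one (sG (F := F) (m := m) l)]
    congr 1
    refine gl_ext_mulVec fun x => ?_
    rw [uTv_mulVec hf hv]
    simp
  have hF : F₀ = X + (1 + lam • slot l (Nm hf v)) * X * (1 - lam • slot l (Nm hf v)) := by
    show X + (nu hf l v 0 lam).val * X * _ = _
    rw [e, nu_zero hf l hv, sG_uTv_val hf l hv, sG_uTv_val hf l hv, neg_smul, ← sub_eq_add_neg]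
  show F₀ + (nu hf l v w' a').val * F₀ * _ + (nu hf l v w a).val * (F₀ + (nu hf l v w' a').val * F₀ * _) * _ = 0
  rw [hi, hj, nu_val, nu_val, nu_val, nu_val]
  exact siegel_pair_sum h2
    (by rw [← map_mul, Dm_mul_Nm hf hv h'.1, map_zero])
    (by rw [← map_mul, Dm_mul_Nm hf hv hj'.1, map_zero])
    (by rw [← map_mul, Nm_mul_Dm hf hv hj'.1, map_zero])
    (by rw [← map_mul, Dm_mul_Nm hf hv h.1, map_zero])
    (by rw [← map_mul, Nm_mul_Dm hf hv hi'.1, map_zero])
    (α := - f w' w)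
    (by rw [← map_mul, Dm_mul_Dm hf hv h.1 h'.1, map_smul])
    (by rw [← map_mul, Dm_mul_Dm hf hv hj'.1 hi'.1, map_smul, neg_form_neg hf, hreal])
    lam X hF

end Form

end CfsgLib.ClassicalMax.TWU
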