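/-
Averaging over cosets: the blocks of Siegel elements at a point not fixed by roots.
-/
import Cfsg.Agent.Lib.ClassicalMax.TWU.Siegel
import Cfsg.Agent.Lib.ClassicalMax.TWU.Orbit
set_option autoImplicit false
set_option linter.unusedSectionVars false

namespace CfsgLib.ClassicalMax.TWU

open Matrix Kronecker Module Cfsg.Geo
open CfsgLib.ClassicalMax.Kron
open CfsgLib.ClassicalMax.Unit
open CfsgLib.ClassicalMax.TensorUnit (eich exists_partner exists_value_hyp)
open CfsgLib.ClassicalMax.TWreath (slot)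

local notation:80 g:81 " •ᵥ " z:80 => Matrix.mulVec (Units.val g) z

variable {F : Type*} [Field F] [DecidableEq F] {m s : ℕ}

/-- Conjugation as a linear map. -/
def Cj {ι : Type} [Fintype ι] [DecidableEq ι] (g : GL ι F) : Matrix ι ι F →ₗ[F] Matrix ι ι F :=
  LinearMap.mulRight F (g⁻¹ : GL ι F).val ∘ₗ LinearMap.mulLeft F g.val

lemma Cj_apply {ι : Type} [Fintype ι] [DecidableEq ι] (g : GL ι F) (X : Matrix ι ι F) :
    Cj g X = g.val * X * (g⁻¹ : GL ι F).val := rfl

lemma Cj_mul {ι : Type} [Fintype ι] [DecidableEq ι] (g h : GL ι F) (X : Matrix ι ι F) :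
    Cj (g * h) X = Cj g (Cj h X) := by
  simp only [Cj_apply, _root_.mul_inv_rev, Units.val_mul, mul_assoc]

lemma Cj_one {ι : Type} [Fintype ι] [DecidableEq ι] (X : Matrix ι ι F) :
    Cj (1 : GL ι F) X = X := by
  simp [Cj_apply]

variable [Fintype F] {σ : F ≃+* F} {f : (Fin m → F) → (Fin m → F) → F} (hf : IsUnitaryForm σ f)
  (l : Fin (s + 1)) {v : Fin m → F}

include hf in
/-- The commuting of the parameters with skew scalars. -/
lemma SW_add_skew {w : Fin m → F} {a d : F} (h : SW σ f v w a) (hd : σ d = -d) :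
    SW σ f v w (a + d) :=
  ⟨h.1, by rw [map_add, hd]; linear_combination h.2⟩

include hf in
lemma SW_sub {w : Fin m → F} {a b : F} (h : SW σ f v w a) (h' : SW σ f v w b) :
    σ (a - b) = -(a - b) := by
  rw [map_sub]; linear_combination h.2 - h'.2

lemma nu_mul_root {w : Fin m → F} {a d : F} (hv : f v v = 0) (h : SW σ f v w a) (hd : σ d = -d) :
    nu hf l v w a * nu hf l v 0 d = nu hf l v w (a + d) := by
  rw [nu_mul hf l hv h (SW_zero hf hd), add_zero, Unit.zero_left hf, sub_zero]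

lemma root_mul_nu {w : Fin m → F} {a d : F} (hv : f v v = 0) (h : SW σ f v w a) (hd : σ d = -d) :
    nu hf l v 0 d * nu hf l v w a = nu hf l v w (a + d) := by
  rw [nu_mul hf l hv (SW_zero hf hd) h, zero_add, Unit.zero_right hf, sub_zero, add_comm d a]

lemma nu_root_zero (hv : f v v = 0) : nu hf l v 0 (0 : F) = 1 := by
  have h0 : σ (0 : F) = -0 := by simp
  exact mul_eq_left.1 ((nu_mul_root hf l hv (SW_zero hf h0) h0).trans (by rw [add_zero]))

lemma root_inv {d : F} (hv : f v v = 0) (hd : σ d = -d) :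
    (nu hf l v 0 d)⁻¹ = nu hf l v 0 (-d) := by
  refine inv_eq_of_mul_eq_one_right ?_
  rw [nu_mul_root hf l hv (SW_zero hf hd) (by rw [map_neg, hd]), add_neg_cancel,
    nu_root_zero hf l hv]

/-- The Siegel elements of a slot. -/
def Qv (hv : f v v = 0) : Subgroup (GL (Fin (s + 1) → Fin m) F) where
  carrier := {g | ∃ w a, SW σ f v w a ∧ g = nu hf l v w a}
  one_mem' := ⟨0, 0, SW_zero hf (by simp), (nu_root_zero hf l hv).symm⟩
  mul_mem' := by
    rintro _ _ ⟨w, a, h, rfl⟩ ⟨w', a', h', rfl⟩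
    exact ⟨_, _, (eich_mul hf hv h h').2, nu_mul hf l hv h h'⟩
  inv_mem' := by
    rintro _ ⟨w, a, h, rfl⟩
    exact ⟨_, _, (nu_inv hf l hv h).2, (nu_inv hf l hv h).1⟩

lemma nu_conj (hv : f v v = 0) {w : Fin m → F} {a : F} (h : SW σ f v w a)
    {r : GL (Fin (s + 1) → Fin m) F} (hr : r ∈ Qv hf l hv) :
    ∃ a', SW σ f v w a' ∧ r * nu hf l v w a * r⁻¹ = nu hf l v w a' := by
  obtain ⟨w', a', h', rfl⟩ := hr
  obtain ⟨hi, hi'⟩ := nu_inv hf l hv h'
  have h1 := (eich_mul hf hv h' h).2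
  have h2 := (eich_mul hf hv h1 hi').2
  rw [hi, nu_mul hf l hv h' h, nu_mul hf l hv h1 hi']
  rw [show w' + w + -w' = w by abel] at h2 ⊢
  exact ⟨_, h2, rfl⟩

lemma nu_pow (hv : f v v = 0) {w : Fin m → F} {a : F} (h : SW σ f v w a) (n : ℕ) :
    ∃ b, nu hf l v w a ^ n = nu hf l v ((n : F) • w) b ∧ SW σ f v ((n : F) • w) b := by
  obtain ⟨b, hb, hb'⟩ := SW_smul_nat hf hv h n
  exact ⟨b, by rw [nu, nu, ← map_pow, hb], hb'⟩

lemma Cj_root (hv : f v v = 0) {d : F} (hd : σ d = -d)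
    (X : Matrix (Fin (s + 1) → Fin m) (Fin (s + 1) → Fin m) F) :
    Cj (nu hf l v 0 d) X = X + d • (slot l (Nm hf v) * X - X * slot l (Nm hf v)) -
      (d * d) • (slot l (Nm hf v) * X * slot l (Nm hf v)) := by
  rw [← root_conj, Cj_apply, root_inv hf l hv hd, nu_zero hf l hv, nu_zero hf l hv,
    sG_uTv_val hf l hv, sG_uTv_val hf l hv, neg_smul, ← sub_eq_add_neg]

lemma Cj_nu_fix (hv : f v v = 0) {w : Fin m → F} {a : F} (h : SW σ f v w a)
    (X : Matrix (Fin (s + 1) → Fin m) (Fin (s + 1) → Fin m) F) :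
    Cj (nu hf l v w a) (slot l (Nm hf v) * X * slot l (Nm hf v)) =
      slot l (Nm hf v) * X * slot l (Nm hf v) := by
  obtain ⟨hi, hi'⟩ := nu_inv hf l hv h
  rw [Cj_apply, hi, nu_val, nu_val, add_mul, one_mul, mul_assoc (slot l (Nm hf v)),
    ← mul_assoc (slot l (Dm hf v w a)), ← map_mul, Dm_mul_Nm hf hv h.1, map_zero, zero_mul, add_zero,
    mul_add, mul_one, mul_assoc (slot l (Nm hf v)) _ (slot l (Dm hf v _ _)),
    mul_assoc X, ← map_mul, Nm_mul_Dm hf hv hi'.1, map_zero, mul_zero, mul_zero, add_zero]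

section Block

variable {Y : Type*} [MulAction (GL (Fin (s + 1) → Fin m) F) Y]
  {Φ : Y → Matrix (Fin (s + 1) → Fin m) (Fin (s + 1) → Fin m) F} {y : Y} {hv : f v v = 0}

include hf in
/-- The commutator of two fixing Siegel elements fixes. -/
lemma fix_comm {w w' : Fin m → F} {a a' : F} (h : SW σ f v w a) (h' : SW σ f v w' a')
    (hy : nu hf l v w a • y = y) (hy' : nu hf l v w' a' • y = y) (hv : f v v = 0) :
    σ (f w w' - f w' w) = -(f w w' - f w' w) ∧ nu hf l v 0 (f w w' - f w' w) • y = y := by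
  have hd : σ (f w w' - f w' w) = -(f w w' - f w' w) := by
    rw [map_sub, ← hf.herm, ← hf.herm, neg_sub]
  refine ⟨hd, ?_⟩
  set u := nu hf l v w' a' * nu hf l v w a
  have e : u * nu hf l v 0 (f w w' - f w' w) = nu hf l v w a * nu hf l v w' a' := by
    rw [show u = nu hf l v (w' + w) (a' + a - f w w') from nu_mul hf l hv h' h,
      nu_mul_root hf l hv (eich_mul hf hv h' h).2 hd, nu_mul hf l hv h h', add_comm w']
    congr 1
    ring
  have hu : u • y = y := by rw [mul_smul, hy, hy']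
  refine MulAction.injective u ?_
  show u • _ = u • y
  rw [← mul_smul, e, mul_smul, hy', hy, hu]

variable (hΦ : ∀ r ∈ Qv hf l hv, ∀ z, Φ (r • z) = Cj r (Φ z))
include hΦ

lemma Phi_root {d : F} (hd : σ d = -d) :
    Φ (nu hf l v 0 d • y) = Φ y + d • (slot l (Nm hf v) * Φ y - Φ y * slot l (Nm hf v)) -
      (d * d) • (slot l (Nm hf v) * Φ y * slot l (Nm hf v)) := by
  rw [hΦ _ ⟨0, d, SW_zero hf hd, rfl⟩, Cj_root hf l hv hd]

/-- Odd characteristic. -/
theorem block_odd (hm : 3 ≤ m) (hv0 : v ≠ 0) (h2 : (2 : F) ≠ 0)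
    (hfree : ∀ d, σ d = -d → d ≠ 0 → nu hf l v 0 d • y ≠ y) : Block (Qv hf l hv) Φ y := by
  classical
  obtain ⟨p₀, hp₀, hvp, -⟩ := exists_partner hf hv0 hv
  obtain ⟨x, hxv, -, hxx⟩ := exists_value_hyp hf (by rw [Fintype.card_fin]; exact hm) hv hp₀ hvp
    (s := 1) (map_one σ)
  have hvx : f v x = 0 := eq_zero_comm hf hxv
  obtain ⟨ω, hω⟩ : ∃ ω, σ ω ≠ ω := by
    by_contra h
    push Not at h
    exact hf.ne_refl (RingEquiv.ext h)
  obtain ⟨w, hw, hwfree⟩ : ∃ w, f v w = 0 ∧ ∀ c, SW σ f v w c → nu hf l v w c • y ≠ y := by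
    by_contra hcon
    push Not at hcon
    obtain ⟨c, hc, hcy⟩ := hcon x hvx
    obtain ⟨c', hc', hcy'⟩ := hcon (ω • x) (by rw [smul_right hf, hvx, mul_zero])
    obtain ⟨hd, hdy⟩ := fix_comm hf l hc hc' hcy hcy' hv
    refine hfree _ hd ?_ hdy
    rw [smul_right hf, hf.smul_left, hxx, mul_one, mul_one]
    exact sub_ne_zero.2 hω
  obtain ⟨c₀, hc₀⟩ := SW_exists hf hw
  set a := nu hf l v w c₀ with ha
  obtain ⟨p, hp⟩ := CharP.exists F
  have hpp : p.Prime := CharP.char_is_prime F p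
  set Z : Finset F := Finset.univ.filter fun d => σ d = -d with hZ
  have hZm : ∀ {d}, d ∈ Z ↔ σ d = -d := by simp [hZ]
  choose b hb hb' using fun n : ℕ =>
    (nu_pow hf l hv hc₀ n : ∃ b, a ^ n = nu hf l v ((n : F) • w) b ∧ SW σ f v ((n : F) • w) b)
  refine Block.of_family {g | ∃ (n : ℕ) (c : F), SW σ f v ((n : F) • w) c ∧
      g = nu hf l v ((n : F) • w) c}
    ⟨0, 0, by rw [Nat.cast_zero, zero_smul]; exact SW_zero hf (by simp),
      by rw [Nat.cast_zero, zero_smul, nu_root_zero hf l hv]⟩ ?_ ?_ ?_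
    (Finset.range p ×ˢ Z) (fun q => a ^ q.1 * nu hf l v 0 q.2) ?_ ?_ ?_ ?_
  · rintro _ ⟨n, c, hc, rfl⟩ _ ⟨n', c', hc', rfl⟩
    refine ⟨n + n', c + c' - f ((n' : F) • w) ((n : F) • w), ?_, ?_⟩
    · rw [Nat.cast_add, add_smul]; exact (eich_mul hf hv hc hc').2
    · rw [Nat.cast_add, add_smul]; exact nu_mul hf l hv hc hc'
  · rintro _ ⟨n, c, hc, rfl⟩
    exact ⟨_, _, hc, rfl⟩
  · rintro r hr _ ⟨n, c, hc, rfl⟩
    obtain ⟨c', hc', e⟩ := nu_conj hf l hv hc hr
    exact ⟨n, c', hc', e⟩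
  · rintro ⟨n, d⟩ hnd
    obtain ⟨-, hd⟩ := Finset.mem_product.1 hnd
    refine ⟨n, b n + d, SW_add_skew hf (hb' n) (hZm.1 hd), ?_⟩
    rw [hb n, nu_mul_root hf l hv (hb' n) (hZm.1 hd)]
  · rintro _ ⟨n, c, hc, rfl⟩
    have hn : ((n % p : ℕ) : F) = (n : F) :=
      (CharP.natCast_eq_natCast F p).2 (Nat.mod_modEq n p)
    have hb'' := hb' (n % p)
    rw [hn] at hb''
    have hd := SW_sub hf hc hb''
    refine ⟨(n % p, c - b (n % p)),
      Finset.mem_product.2 ⟨Finset.mem_range.2 (Nat.mod_lt _ hpp.pos), hZm.2 hd⟩, ?_⟩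
    show _ = (a ^ (n % p) * nu hf l v 0 (c - b (n % p))) • y
    rw [hb, hn, nu_mul_root hf l hv hb'' hd, add_sub_cancel]
  · rintro ⟨n, d⟩ hnd ⟨n', d'⟩ hnd' e
    obtain ⟨hn, hd⟩ := Finset.mem_product.1 hnd
    obtain ⟨hn', hd'⟩ := Finset.mem_product.1 hnd'
    rw [Finset.mem_range] at hn hn'
    rw [hZm] at hd hd'
    change (a ^ n * nu hf l v 0 d) • y = (a ^ n' * nu hf l v 0 d') • y at e
    rcases eq_or_ne n n' with rfl | hne
    · simp only [mul_smul] at e
      have e1 := MulAction.injective (a ^ n) e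
      have e2 : nu hf l v 0 (d - d') • y = y := by
        refine MulAction.injective (nu hf l v 0 d') ?_
        show nu hf l v 0 d' • nu hf l v 0 (d - d') • y = nu hf l v 0 d' • y
        rw [← mul_smul, root_mul_nu hf l hv (SW_zero hf (by rw [map_sub, hd, hd']; ring)) hd',
          sub_add_cancel]
        exact e1
      have : d - d' = 0 := by
        by_contra h0
        exact hfree _ (by rw [map_sub, hd, hd']; ring) h0 e2
      rw [sub_eq_zero.1 this]
    · exfalso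
      have hnn : (n : F) ≠ (n' : F) := fun h =>
        hne (CharP.natCast_injOn_Iio F p (Set.mem_Iio.2 hn) (Set.mem_Iio.2 hn') h)
      have h1 := SW_add_skew hf (hb' n) hd
      have h1' := SW_add_skew hf (hb' n') hd'
      rw [hb n, hb n', nu_mul_root hf l hv (hb' n) hd, nu_mul_root hf l hv (hb' n') hd'] at e
      obtain ⟨hi, hi'⟩ := nu_inv hf l hv h1'
      have hM := (eich_mul hf hv hi' h1).2
      set c := σ (b n' + d') + (b n + d) - f ((n : F) • w) (-((n' : F) • w))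
      have hfix : nu hf l v (-((n' : F) • w) + (n : F) • w) c • y = y := by
        rw [← nu_mul hf l hv hi' h1, mul_smul, e, ← hi, inv_smul_smul]
      set d₀ := n + p - n' with hd₀
      have hd₀F : ((d₀ : ℕ) : F) = (n : F) - n' := by
        rw [hd₀, Nat.cast_sub (show n' ≤ n + p by omega), Nat.cast_add, CharP.cast_eq_zero F p, add_zero]
      rw [show -((n' : F) • w) + (n : F) • w = (d₀ : F) • w by rw [hd₀F]; module] at hfix hM
      have hco : Nat.Coprime d₀ p := (Nat.Coprime.symm ((Nat.Prime.coprime_iff_not_dvd hpp).2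
        fun hdvd => hnn (sub_eq_zero.1 (hd₀F ▸ (CharP.cast_eq_zero_iff F p _).2 hdvd))))
      obtain ⟨j, hj⟩ : ∃ j, d₀ * j % p = 1 := by
        obtain ⟨j, -, hj⟩ := Nat.exists_mul_mod_eq_one_of_coprime hco hpp.one_lt
        exact ⟨j, hj⟩
      obtain ⟨c', hc', hc''⟩ := nu_pow hf l hv hM j
      have hj' : (j : F) * (d₀ : F) = 1 := by
        rw [mul_comm, ← Nat.cast_mul, ← Nat.cast_one,
          (CharP.natCast_eq_natCast F p).2 (show d₀ * j ≡ 1 [MOD p] by
            rw [Nat.ModEq, hj, Nat.mod_eq_of_lt hpp.one_lt])]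
      rw [smul_smul, hj', one_smul] at hc' hc''
      refine hwfree c' hc'' ?_
      rw [← hc']
      exact (MulAction.mem_stabilizer_iff).1
        ((MulAction.stabilizer _ y).pow_mem (MulAction.mem_stabilizer_iff.2 hfix) j)
  · rw [Finset.sum_product]
    set K₀ := slot l (Nm hf v) * Φ y * slot l (Nm hf v)
    have hQa : ∀ n, a ^ n ∈ Qv hf l hv := fun n => (Qv hf l hv).pow_mem ⟨w, c₀, hc₀, rfl⟩ n
    have hK : ∀ n, Cj (a ^ n) K₀ = K₀ := fun n => by
      rw [hb]; exact Cj_nu_fix hf l hv (hb' n) _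
    have hcard : (Z.card : F) = 0 := by
      obtain ⟨τ, hτ0, hτ⟩ := exists_trace_zero hf.ne_refl hf.involutive
      have h1 : ∑ d ∈ Z, (d + τ) = ∑ d ∈ Z, d := by
        refine Finset.sum_nbij' (fun d => d + τ) (fun d => d - τ) ?_ ?_ (fun d _ => by simp)
          (fun d _ => by simp) fun d _ => rfl
        · intro d hd
          simp only [Finset.mem_coe, hZm] at hd ⊢
          rw [map_add, hd, hτ]; ring
        · intro d hd
          simp only [Finset.mem_coe, hZm] at hd ⊢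
          rw [map_sub, hd, hτ]; ring
      rw [Finset.sum_add_distrib, Finset.sum_const, nsmul_eq_mul, add_eq_left] at h1
      exact (mul_eq_zero.1 h1).resolve_right hτ0
    have hsum : ∑ d ∈ Z, d = 0 := by
      have h1 : ∑ d ∈ Z, d = ∑ d ∈ Z, -d :=
        Finset.sum_nbij' (fun d => -d) (fun d => -d)
          (fun d hd => by simp only [Finset.mem_coe, hZm] at hd ⊢; rw [map_neg, hd])
          (fun d hd => by simp only [Finset.mem_coe, hZm] at hd ⊢; rw [map_neg, hd])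
          (fun d _ => neg_neg d) (fun d _ => neg_neg d) fun d _ => (neg_neg d).symm
      rw [Finset.sum_neg_distrib] at h1
      exact (mul_eq_zero.1 (show (2 : F) * ∑ d ∈ Z, d = 0 by linear_combination h1)).resolve_left h2
    have hin : ∑ d ∈ Z, Φ (nu hf l v 0 d • y) = (-∑ d ∈ Z, d * d) • K₀ := by
      rw [Finset.sum_congr rfl fun d hd => Phi_root hf l hΦ (hZm.1 hd), Finset.sum_sub_distrib,
        Finset.sum_add_distrib, Finset.sum_const, ← Finset.sum_smul, ← Finset.sum_smul, hsum,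
        zero_smul, add_zero, ← Nat.cast_smul_eq_nsmul F, hcard, zero_smul, zero_sub, neg_smul]
    have hn : ∀ n, ∑ d ∈ Z, Φ ((a ^ n * nu hf l v 0 d) • y) = (-∑ d ∈ Z, d * d) • K₀ := fun n => by
      simp only [mul_smul, hΦ _ (hQa n)]
      rw [← map_sum, hin, map_smul, hK]
    simp only [hn, Finset.sum_const, Finset.card_range]
    rw [← Nat.cast_smul_eq_nsmul F, CharP.cast_eq_zero, zero_smul]

/-- Characteristic two, four free roots. -/
theorem block_four (h2 : (2 : F) = 0) {d₁ d₂ : F} (h1 : σ d₁ = -d₁) (h1' : σ d₂ = -d₂)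
    (hne : d₁ ≠ d₂)
    (hf₁ : nu hf l v 0 d₁ • y ≠ y) (hf₂ : nu hf l v 0 d₂ • y ≠ y)
    (hf₁₂ : nu hf l v 0 (d₁ + d₂) • y ≠ y) : Block (Qv hf l hv) Φ y := by
  classical
  have h22 : ∀ z : F, z + z = 0 := fun z => by linear_combination z * h2
  have hn : ∀ z : F, -z = z := fun z => by linear_combination -z * h2
  have hd₁ : d₁ ≠ 0 := fun e => hf₁ (by rw [e, nu_root_zero hf l hv, one_smul])
  have hd₂ : d₂ ≠ 0 := fun e => hf₂ (by rw [e, nu_root_zero hf l hv, one_smul])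
  have hd₁₂ : d₁ + d₂ ≠ 0 := fun e => hne ((eq_neg_of_add_eq_zero_left e).trans (hn _))
  set P : Finset F := {0, d₁, d₂, d₁ + d₂}
  have hP : ∀ d, d ∈ P ↔ d = 0 ∨ d = d₁ ∨ d = d₂ ∨ d = d₁ + d₂ := by simp [P]
  have hskew : ∀ d ∈ P, σ d = -d := fun d hd => by
    rcases (hP d).1 hd with rfl | rfl | rfl | rfl
    · simp
    · exact h1
    · exact h1'
    · rw [map_add, h1, h1', neg_add]
  have hadd : ∀ d ∈ P, ∀ d' ∈ P, d + d' ∈ P := fun d hd d' hd' => by
    rw [hP] at hd hd' ⊢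
    have e1 : d₁ + (d₁ + d₂) = d₂ := by linear_combination d₁ * h2
    have e2 : d₂ + (d₁ + d₂) = d₁ := by linear_combination d₂ * h2
    have e3 : d₁ + d₂ + d₁ = d₂ := by linear_combination d₁ * h2
    have e4 : d₁ + d₂ + d₂ = d₁ := by linear_combination d₂ * h2
    rcases hd with h | h | h | h <;> rcases hd' with h' | h' | h' | h' <;> rw [h, h'] <;>
      simp [h22, e1, e2, e3, e4, add_comm d₂ d₁]
  refine Block.of_family {g | ∃ d ∈ P, g = nu hf l v 0 d}
    ⟨0, (hP 0).2 (Or.inl rfl), (nu_root_zero hf l hv).symm⟩ ?_ ?_ ?_ P (fun d => nu hf l v 0 d)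
    (fun d hd => ⟨d, hd, rfl⟩) ?_ ?_ ?_
  · rintro _ ⟨d, hd, rfl⟩ _ ⟨d', hd', rfl⟩
    exact ⟨d + d', hadd d hd d' hd', nu_mul_root hf l hv (SW_zero hf (hskew d hd)) (hskew d' hd')⟩
  · rintro _ ⟨d, hd, rfl⟩
    exact ⟨0, d, SW_zero hf (hskew d hd), rfl⟩
  · rintro r ⟨w', a', h', rfl⟩ _ ⟨d, hd, rfl⟩
    refine ⟨d, hd, ?_⟩
    rw [mul_inv_eq_iff_eq_mul, nu_mul_root hf l hv h' (hskew d hd),
      root_mul_nu hf l hv h' (hskew d hd)]
  · rintro _ ⟨d, hd, rfl⟩
    exact ⟨d, hd, rfl⟩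
  · intro d hd d' hd' e
    have hx : nu hf l v 0 (d + d') • y = y := by
      rw [← nu_mul_root hf l hv (SW_zero hf (hskew d hd)) (hskew d' hd'), mul_smul, ← e, ← mul_smul,
        nu_mul_root hf l hv (SW_zero hf (hskew d hd)) (hskew d hd), h22, nu_root_zero hf l hv,
        one_smul]
    rcases (hP _).1 (hadd d hd d' hd') with h0 | h0 | h0 | h0
    · exact (eq_neg_of_add_eq_zero_left h0).trans (hn _)
    · exact absurd (h0 ▸ hx) hf₁
    · exact absurd (h0 ▸ hx) hf₂
    · exact absurd (h0 ▸ hx) hf₁₂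
  · rw [Finset.sum_insert (by simp [hd₁.symm, hd₂.symm, hd₁₂.symm]),
      Finset.sum_insert (by simp [hne, hd₂]), Finset.sum_insert (by simp [hd₁]),
      Finset.sum_singleton, nu_root_zero hf l hv, one_smul, Phi_root hf l hΦ h1, Phi_root hf l hΦ h1',
      Phi_root hf l hΦ (by rw [map_add, h1, h1', neg_add])]
    set N := slot l (Nm hf v)
    rw [show Φ y + (Φ y + d₁ • (N * Φ y - Φ y * N) - (d₁ * d₁) • (N * Φ y * N) +
        (Φ y + d₂ • (N * Φ y - Φ y * N) - (d₂ * d₂) • (N * Φ y * N) +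
          (Φ y + (d₁ + d₂) • (N * Φ y - Φ y * N) - ((d₁ + d₂) * (d₁ + d₂)) • (N * Φ y * N)))) =
        (2 : F) • ((2 : F) • Φ y + (d₁ + d₂) • (N * Φ y - Φ y * N) -
          (d₁ * d₁ + d₂ * d₂ + d₁ * d₂) • (N * Φ y * N)) by module, h2, zero_smul]

/-- Characteristic two, one free root and two free Siegel elements. -/
theorem block_eight (h2 : (2 : F) = 0) {d : F} (hd : σ d = -d) (hd' : nu hf l v 0 d • y ≠ y)
    (hZ : ∀ e, σ e = -e → nu hf l v 0 e • y = y ∨ nu hf l v 0 (e + d) • y = y)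
    {wa wb : Fin m → F} (hwa : f v wa = 0) (hwb : f v wb = 0) (hreal : f wb wa = f wa wb)
    (hA : ∀ c, SW σ f v wa c → nu hf l v wa c • y ≠ y)
    (hB : ∀ c, SW σ f v wb c → nu hf l v wb c • y ≠ y)
    (hAB : ∀ c, SW σ f v (wa + wb) c → nu hf l v (wa + wb) c • y ≠ y) :
    Block (Qv hf l hv) Φ y := by
  classical
  obtain ⟨ca, hca⟩ := SW_exists hf hwa
  obtain ⟨cb, hcb⟩ := SW_exists hf hwb
  set W : Fin 2 → Fin 2 → (Fin m → F) := fun i j => ((i.val : ℕ) : F) • wa + ((j.val : ℕ) : F) • wb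
  have hcast : ∀ i j : Fin 2, (((i + j : Fin 2).val : ℕ) : F) = (i.val : F) + (j.val : F) := by
    intro i j
    fin_cases i <;> fin_cases j <;> simp
    linear_combination -h2
  have hWadd : ∀ i j i' j', W i j + W i' j' = W (i + i') (j + j') := fun i j i' j' => by
    simp only [W, hcast]; module
  have hC : ∀ i j : Fin 2, ∃ c, SW σ f v (W i j) c ∧
      nu hf l v wa ca ^ i.val * nu hf l v wb cb ^ j.val = nu hf l v (W i j) c := fun i j => by
    obtain ⟨b, hb, hb'⟩ := nu_pow hf l hv hca i.val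
    obtain ⟨b', hb₂, hb₂'⟩ := nu_pow hf l hv hcb j.val
    exact ⟨_, (eich_mul hf hv hb' hb₂').2, by rw [hb, hb₂, nu_mul hf l hv hb' hb₂']⟩
  choose C hC hC' using hC
  have hdk : ∀ k : Fin 2, σ ((k.val : F) * d) = -((k.val : F) * d) := fun k => by
    rw [map_mul, map_natCast, hd, mul_neg]
  have hWfree : ∀ i j c, SW σ f v (W i j) c → nu hf l v (W i j) c • y = y → i = 0 ∧ j = 0 := by
    intro i j c hc hy
    fin_cases i <;> fin_cases j <;> simp [W] at hc hy ⊢
    · exact hB c hc hy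
    · exact hA c hc hy
    · exact hAB c hc hy
  refine Block.of_family {g | ∃ i j c, SW σ f v (W i j) c ∧ g = nu hf l v (W i j) c}
    ⟨0, 0, 0, by simpa [W] using SW_zero hf (v := v) (show σ (0 : F) = -0 by simp),
      by simp [W, nu_root_zero hf l hv]⟩ ?_ ?_ ?_
    (Finset.univ : Finset (Fin 2 × Fin 2 × Fin 2))
    (fun q => nu hf l v wa ca ^ q.1.val * nu hf l v wb cb ^ q.2.1.val *
      nu hf l v 0 ((q.2.2.val : F) * d)) ?_ ?_ ?_ ?_
  · rintro _ ⟨i, j, c, hc, rfl⟩ _ ⟨i', j', c', hc', rfl⟩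
    refine ⟨i + i', j + j', c + c' - f (W i' j') (W i j), ?_, ?_⟩
    · rw [← hWadd]; exact (eich_mul hf hv hc hc').2
    · rw [← hWadd]; exact nu_mul hf l hv hc hc'
  · rintro _ ⟨i, j, c, hc, rfl⟩
    exact ⟨_, _, hc, rfl⟩
  · rintro r hr _ ⟨i, j, c, hc, rfl⟩
    obtain ⟨c', hc', e⟩ := nu_conj hf l hv hc hr
    exact ⟨i, j, c', hc', e⟩
  · rintro ⟨i, j, k⟩ -
    exact ⟨i, j, _, SW_add_skew hf (hC i j) (hdk k), by
      rw [hC' i j, nu_mul_root hf l hv (hC i j) (hdk k)]⟩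
  · rintro _ ⟨i, j, c, hc, rfl⟩
    have he := SW_sub hf hc (hC i j)
    have key : ∀ k : Fin 2, nu hf l v 0 (c - C i j + (k.val : F) * d) • y = y →
        nu hf l v (W i j) c • y =
          (nu hf l v wa ca ^ i.val * nu hf l v wb cb ^ j.val * nu hf l v 0 ((k.val : F) * d)) • y := by
      intro k hk
      conv_rhs => rw [← hk]
      rw [← mul_smul, hC', nu_mul_root hf l hv (hC i j) (hdk k),
        nu_mul_root hf l hv (SW_add_skew hf (hC i j) (hdk k)) (by rw [map_add, he, hdk, neg_add]),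
        show C i j + (k.val : F) * d + (c - C i j + (k.val : F) * d) = c by
          linear_combination ((k.val : F) * d) * h2]
    rcases hZ _ he with h | h
    · exact ⟨(i, j, 0), Finset.mem_univ _, key 0 (by simpa using h)⟩
    · exact ⟨(i, j, 1), Finset.mem_univ _, key 1 (by simpa using h)⟩
  · rintro ⟨i, j, k⟩ - ⟨i', j', k'⟩ - e
    simp only [hC', nu_mul_root hf l hv (hC _ _) (hdk _)] at e
    have h1 := SW_add_skew hf (hC i j) (hdk k)
    have h1' := SW_add_skew hf (hC i' j') (hdk k')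
    obtain ⟨hi, hi'⟩ := nu_inv hf l hv h1'
    have hM := (eich_mul hf hv hi' h1).2
    have hfix : nu hf l v (-W i' j' + W i j) _ • y = y :=
      (congrArg (· • y) (nu_mul hf l hv hi' h1)).symm.trans
        (by rw [mul_smul, e, ← hi, inv_smul_smul])
    have hneg : -W i' j' + W i j = W (i + i') (j + j') := by
      rw [← hWadd]
      linear_combination (norm := module) -(h2 • W i' j')
    rw [hneg] at hfix hM
    obtain ⟨h0, h0'⟩ := hWfree _ _ _ hM hfix
    obtain rfl : i = i' := by revert h0; fin_cases i <;> fin_cases i' <;> simp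
    obtain rfl : j = j' := by revert h0'; fin_cases j <;> fin_cases j' <;> simp
    rcases eq_or_ne k k' with rfl | hk
    · rfl
    exfalso
    rw [← nu_mul_root hf l hv (hC i j) (hdk k), ← nu_mul_root hf l hv (hC i j) (hdk k'), mul_smul,
      mul_smul] at e
    have e1 := MulAction.injective (nu hf l v (W i j) (C i j)) e
    fin_cases k <;> fin_cases k'
    · exact hk rfl
    · simp [nu_root_zero hf l hv] at e1; exact hd' e1.symm
    · simp [nu_root_zero hf l hv] at e1; exact hd' e1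
    · exact hk rfl
  · simp only [Fintype.sum_prod_type, Fin.sum_univ_two, Fin.val_zero, Fin.val_one, pow_zero, pow_one,
      Nat.cast_zero, Nat.cast_one, zero_mul, one_mul, mul_one, nu_root_zero hf l hv, one_smul,
      mul_smul]
    have hA' : nu hf l v wa ca ∈ Qv hf l hv := ⟨_, _, hca, rfl⟩
    have hB' : nu hf l v wb cb ∈ Qv hf l hv := ⟨_, _, hcb, rfl⟩
    have hD' : nu hf l v 0 d ∈ Qv hf l hv := ⟨_, _, SW_zero hf hd, rfl⟩
    have := pair_sum hf l h2 hv hca hcb hreal hd (Φ y)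
    simp only [hΦ _ hA', hΦ _ hB', hΦ _ hD'] at this ⊢
    simp only [map_add, ← Cj_apply] at this ⊢
    exact this

end Block

end CfsgLib.ClassicalMax.TWU
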