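/-
Tensor powers of a unitary form: an element carrying a slot transvection from a slot respects the
tensor structure.
-/
import Cfsg.Agent.Lib.ClassicalMax.TWU.Roots
set_option autoImplicit false
set_option linter.unusedSectionVars false

namespace CfsgLib.ClassicalMax.TWU

open Matrix Kronecker Module Cfsg.Geo
open CfsgLib.ClassicalMax.Kron
open CfsgLib.ClassicalMax.Unit
open CfsgLib.ClassicalMax.TensorUnit (UPair RK OnlyScalar cv cv_pt exists_anisotropic eq_of_form
  exists_partner)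
open CfsgLib.ClassicalMax.TensorSL (InH)
open CfsgLib.ClassicalMax.TWreath (slot slot_injective slot_comm permGL permMat_mul_slot)

local notation:80 g:81 " •ᵥ " z:80 => Matrix.mulVec (Units.val g) z

variable {F : Type*} [Field F] [DecidableEq F] [Fintype F] {m s : ℕ} {σ : F ≃+* F} {c : F}
  {f : (Fin m → F) → (Fin m → F) → F}

lemma kron_one_Nm {a : ℕ} {h : (Fin a × Fin m → F) → (Fin a × Fin m → F) → F}
    {f₁ : (Fin a → F) → (Fin a → F) → F} (hP : UPair σ h f₁ f) (v : Fin m → F)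
    (z : Fin a × Fin m → F) :
    ((1 : Matrix (Fin a) (Fin a) F) ⊗ₖ Nm hP.h₂ v) *ᵥ z = pt (cv hP v z) v := by
  have := linear_ext (f := Matrix.toLin' ((1 : Matrix (Fin a) (Fin a) F) ⊗ₖ Nm hP.h₂ v))
    (g := ptR v ∘ₗ cv hP v) fun x w => by
      simp [Matrix.toLin'_apply, kron_mulVec_pt, Nm_mulVec, cv_pt, pt_smul_left, pt_smul_right]
  simpa [Matrix.toLin'_apply] using LinearMap.congr_fun this z

variable {G : Subgroup (GL (Fin (s + 2) → Fin m) F)}
  {H : ((Fin (s + 2) → Fin m) → F) → ((Fin (s + 2) → Fin m) → F) → F}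

lemma permGL_sG (π : Equiv.Perm (Fin (s + 2))) (i : Fin (s + 2)) (B : GL (Fin m) F) :
    permGL π * sG i B * (permGL π)⁻¹ = sG (π i) B := by
  rw [mul_inv_eq_iff_eq_mul]
  exact Units.ext (permMat_mul_slot π i B.val)

/-- The group read at a slot. -/
theorem TW.lineHyp (hm : 3 ≤ m) (T : TW σ c H f G) (hS : OS T.pow.hf G) (l : Fin (s + 2)) :
    ∃ (h' : ((Fin (s + 1) → Fin m) → F) → ((Fin (s + 1) → Fin m) → F) → F)
      (L : LHyp σ (Hs H l) (onF h') f (G.map (at' l).toMonoidHom)), OnlyScalar L.pair (G.map (at' l).toMonoidHom) := by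
  obtain ⟨h', -, hU⟩ := exists_split (by omega) T.pow
  have L : LHyp σ (Hs H l) (onF h') f (G.map (at' l).toMonoidHom) :=
    ⟨hU l, pow_pos (by omega) _, hm, by
      rintro _ ⟨g, hg, rfl⟩
      exact at'_mem_iso.2 (T.le hg), fun B hB => ⟨sG l B, T.mem l B hB, at'_sG l B⟩⟩
  refine ⟨h', L, ?_⟩
  rintro v K hv0 hv ⟨_, ⟨g, hg, rfl⟩, hK⟩
  set Kx : Matrix (Fin (m ^ (s + 1))) (Fin (m ^ (s + 1))) F := LinearMap.toMatrix' K
  have hval : (at' l g).val = 1 + Kx ⊗ₖ Nm T.pow.hf v := by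
    have := linear_ext
      (f := Matrix.toLin' (at' l g : Matrix (Fin (m ^ (s + 1)) × Fin m) (Fin (m ^ (s + 1)) × Fin m) F))
      (g := Matrix.toLin' (1 + Kx ⊗ₖ Nm T.pow.hf v)) fun x w => by
        simp only [Matrix.toLin'_apply, add_mulVec, one_mulVec, kron_mulVec_pt, Nm_mulVec]
        have h1 := hK (pt x w)
        simp only [MulEquiv.coe_toMonoidHom] at h1
        rw [h1, cv_pt, map_smul, pt_smul_left, pt_smul_right, LinearMap.toMatrix'_mulVec]
    exact Matrix.toLin'.injective this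
  let Y : Matrix (Fin (s + 2) → Fin m) (Fin (s + 2) → Fin m) F :=
    sp l (Kx ⊗ₖ (1 : Matrix (Fin m) (Fin m) F))
  have hYN : Y * slot l (Nm T.pow.hf v) = sp l (Kx ⊗ₖ Nm T.pow.hf v) := by
    rw [slot_eq_sp, ← map_mul, ← mul_kronecker_mul, one_mul, mul_one]
  obtain ⟨κ, hκ⟩ := hS l v hv0 hv g hg Y (fun X => by
    show _ = _
    rw [slot_eq_sp, ← map_mul, ← map_mul, ← mul_kronecker_mul, ← mul_kronecker_mul, one_mul, mul_one,
      one_mul, mul_one]) (by rw [← at'_val l g, hval, map_add, map_one, hYN])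
  obtain ⟨p, -, hvp, hpv⟩ := exists_partner T.pow.hf hv0 hv
  refine ⟨κ, fun x => ptR_injective hv0 ?_⟩
  rw [hYN, slot_eq_sp, ← map_smul] at hκ
  have h1 := congrArg (fun M => M *ᵥ pt x p) ((sp l).injective hκ)
  simpa [smul_mulVec, kron_mulVec_pt, Nm_mulVec, hpv, LinearMap.toMatrix'_mulVec, pt_smul_left, Kx]
    using h1

/-- An element carrying a transvection of a slot from a slot lies in the wreath group. -/
theorem conj_slot_mem (hm : 3 ≤ m) (hex : 4 ≤ m ∨ ∃ μ : F, σ μ = μ ∧ μ ≠ 0 ∧ μ ≠ 1)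
    (T : TW σ c H f G) (hS : OS T.pow.hf G) (IH : ∀ j, G.comap (oG j) ≤ wr m (s + 1) F)
    {g : GL (Fin (s + 2) → Fin m) F} (hg : g ∈ G) {l i : Fin (s + 2)} {v : Fin m → F} (hv0 : v ≠ 0)
    (hv : f v v = 0) {a : F} (ha : a ≠ 0) (h : IsSlot i (g⁻¹ * sG l (uTv T.pow.hf v a) * g)) :
    g ∈ wr m (s + 2) F := by
  classical
  have hf := T.pow.hf
  obtain ⟨B, hgB, hD⟩ := exists_iso_scalar (N := a • ((g⁻¹ : GL (Fin (s + 2) → Fin m) F).val *
    slot l (Nm hf v) * g.val)) (by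
      have := (conj_root_props hf g⁻¹ l hv a).1
      rwa [inv_inv] at this) h
  set P := permGL (F := F) (k := m) (Equiv.swap i l) with hP
  set y := g * P with hy
  have hPl : ∀ X, P.val * slot l X = slot i X * P.val := fun X => by
    have := permMat_mul_slot (F := F) (Equiv.swap i l) l X
    rwa [Equiv.swap_apply_right] at this
  have hyD : y.val * slot l (B.val - 1) = a • (slot l (Nm hf v) * y.val) := by
    rw [hy, Units.val_mul, mul_assoc, hPl, ← hD, ← mul_assoc, Matrix.mul_smul, Matrix.smul_mul,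
      mul_assoc (g⁻¹ : GL (Fin (s + 2) → Fin m) F).val, ← mul_assoc g.val, Units.mul_inv, one_mul,
      mul_assoc]
  obtain ⟨h', L, hOS⟩ := T.lineHyp hm hS l
  have hPi : P ∈ isoOf H := permGL_mem_iso T.pow _
  have hyi : at' l y ∈ isoOf (Hs H l) := at'_mem_iso.2 (mul_mem (T.le hg) hPi)
  have hPconj : ∀ B' : GL (Fin m) F, ∀ k, P * sG k B' * P⁻¹ = sG (Equiv.swap i l k) B' :=
    fun B' k => permGL_sG _ k B'
  have hconj : ∀ k, ∀ B' ∈ isoOf f ⊓ specialLinear (Fin m) F, y * sG k B' * y⁻¹ ∈ G := by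
    intro k B' hB'
    rw [show y * sG k B' * y⁻¹ = g * (P * sG k B' * P⁻¹) * g⁻¹ by rw [hy]; group, hPconj]
    exact G.mul_mem (G.mul_mem hg (T.mem _ B' hB')) (G.inv_mem hg)
  -- the image of a line
  obtain ⟨w₀, hw₀⟩ : ∃ w₀, (B.val - 1) *ᵥ w₀ ≠ 0 := by
    by_contra hcon
    push Not at hcon
    have hD0 : B.val - 1 = 0 := ext_of_mulVec_single fun p => by rw [hcon, zero_mulVec]
    rw [hD0, map_zero, smul_eq_zero, or_iff_right ha] at hD
    have h0 := congrArg (fun M => g.val * M * (g⁻¹ : GL (Fin (s + 2) → Fin m) F).val) hD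
    simp only [mul_zero, zero_mul, ← mul_assoc, Units.mul_inv, one_mul] at h0
    rw [mul_assoc, Units.mul_inv, mul_one] at h0
    exact Nm_ne_zero hf hv0 (slot_injective l (h0.trans (map_zero _).symm))
  set d := (B.val - 1) *ᵥ w₀
  have hline : ∀ x, ∃ x', at' l y •ᵥ pt x d = pt x' v := by
    intro x
    refine ⟨a • cv L.pair v (at' l y •ᵥ pt x w₀), ?_⟩
    have h1 := congrArg (sp l).symm hyD
    rw [map_mul, slot_eq_sp, slot_eq_sp, AlgEquiv.symm_apply_apply, map_smul, map_mul,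
      AlgEquiv.symm_apply_apply, ← at'_val l y, AlgEquiv.symm_apply_apply] at h1
    have h2 := congrArg (fun M => M *ᵥ pt x w₀) h1
    simp only [← mulVec_mulVec, smul_mulVec, kron_mulVec_pt, one_mulVec] at h2
    rw [h2, kron_one_Nm L.pair, pt_smul_left]
  have hd : f d d = 0 := by
    haveI : Nonempty (Fin (m ^ (s + 1))) := ⟨⟨0, L.pos⟩⟩
    obtain ⟨x, hx⟩ := exists_anisotropic L.pair.h₁
    obtain ⟨x', hx'⟩ := hline x
    have := mem_isoOf.1 hyi (pt x d) (pt x d)
    rw [hx', L.pair.prod, L.pair.prod, hv, mul_zero] at this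
    exact (mul_eq_zero.1 this.symm).resolve_left hx
  obtain ⟨A₀, B₀, hAB⟩ := line_inH L hOS hex hyi (fun B' hB' => ⟨y * sG l B' * y⁻¹, hconj l B' hB', by
    rw [MulEquiv.coe_toMonoidHom, map_mul, map_mul, map_inv, at'_sG]⟩) hv0 hv hw₀ hd hline
  set A := onE.symm A₀
  have hyAB : y = oG l A * sG l B₀ := eq_of_at' l hAB
  have hcomm : ∀ k B', sG l B₀ * sG (l.succAbove k) B' = sG (l.succAbove k) B' * sG l B₀ := fun k B' =>
    Units.ext (slot_comm (Fin.ne_succAbove l k) _ _)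
  have hky : ∀ k B', y * sG (l.succAbove k) B' * y⁻¹ = oG l (A * sG k B' * A⁻¹) := by
    intro k B'
    rw [hyAB, _root_.mul_inv_rev, ← mul_assoc, mul_assoc (oG l A), hcomm, map_mul, map_mul, map_inv,
      oG_sG]
    group
  have hroots : ∀ k w, w ≠ 0 → f w w = 0 → ∃ j N,
      A.val * slot k (Nm hf w) * (A⁻¹ : GL (Fin (s + 1) → Fin m) F).val = slot j N := fun k w _ hw =>
    root_to_slot hf hm hex A k hw fun b hb => IH l (by
      rw [Subgroup.mem_comap, ← hky]
      exact hconj _ _ ⟨uTv_mem_isoOf hf hw hb, uTv_mem_sl _ _ _⟩)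
  have hymem : y ∈ wr m (s + 2) F := by
    refine mem_wr_of_roots hm hf fun k w hw0 hw => ?_
    have e : ∀ M, y.val * M * (y⁻¹ : GL (Fin (s + 2) → Fin m) F).val =
        oth l A.val * (slot l B₀.val * M * slot l (B₀⁻¹ : GL (Fin m) F).val) *
          oth l (A⁻¹ : GL (Fin (s + 1) → Fin m) F).val := fun M => by
      rw [hyAB, _root_.mul_inv_rev, ← map_inv, ← map_inv]
      simp only [Units.val_mul, sG_val, oG_val, mul_assoc]
    rcases Fin.eq_self_or_eq_succAbove l k with rfl | ⟨k, rfl⟩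
    · refine ⟨k, B₀.val * Nm hf w * (B₀⁻¹ : GL (Fin m) F).val, ?_⟩
      rw [e, ← map_mul, ← map_mul, (oth_slot_comm k A.val _).eq, mul_assoc, ← map_mul (oth k),
        Units.mul_inv, map_one, mul_one]
    · obtain ⟨j, N, hj⟩ := hroots k w hw0 hw
      refine ⟨l.succAbove j, N, ?_⟩
      rw [e, mul_assoc (slot l B₀.val), ← slot_comm (Fin.ne_succAbove l k), ← mul_assoc (slot l B₀.val),
        ← map_mul (slot l), Units.mul_inv, map_one, one_mul, ← oth_slot, ← map_mul, ← map_mul, hj,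
        oth_slot]
  have hg' : g = y * P⁻¹ := by rw [hy, mul_inv_cancel_right]
  rw [hg']
  exact mul_mem hymem (inv_mem (wr_eq (F := F) ▸ TWreath.permGL_mem_std _))

end CfsgLib.ClassicalMax.TWU
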