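/-
Tensor powers of a unitary form: a group whose root maps at the slots are scalar respects the
tensor structure.

The projection on the sum of the slots is averaged over the cosets of the wreath group in the
group; the terms of the cosets other than the trivial one cancel in blocks of Siegel elements.
-/
import Cfsg.Agent.Lib.ClassicalMax.TWU.Blocks
import Cfsg.Agent.Lib.ClassicalMax.TWU.Conj
set_option autoImplicit false
set_option linter.unusedSectionVars false

namespace CfsgLib.ClassicalMax.TWU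

open Matrix Kronecker Module Cfsg.Geo
open CfsgLib.ClassicalMax.Kron
open CfsgLib.ClassicalMax.Unit
open CfsgLib.ClassicalMax.TensorUnit (eich eich_mem_isoOf eich_mem_sl exists_partner exists_value_hyp)
open CfsgLib.ClassicalMax.TWreath (slot pmat proj proj_conj proj_pmat proj_single_slot pmat_single
  slot_mul_pmat pmat_mul_slot pmat_update_smul ptr proj_apply)

local notation:80 g:81 " •ᵥ " z:80 => Matrix.mulVec (Units.val g) z

variable {F : Type*} [Field F] [DecidableEq F] {m s : ℕ}

/-- The sums of slot matrices. -/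
def Ls : Submodule F (Matrix (Fin (s + 1) → Fin m) (Fin (s + 1) → Fin m) F) :=
  LinearMap.range (∑ i : Fin (s + 1), (slot i).toLinearMap ∘ₗ
    (LinearMap.proj i : (Fin (s + 1) → Matrix (Fin m) (Fin m) F) →ₗ[F] Matrix (Fin m) (Fin m) F))

lemma mem_Ls {M : Matrix (Fin (s + 1) → Fin m) (Fin (s + 1) → Fin m) F} :
    M ∈ Ls ↔ ∃ X : Fin (s + 1) → Matrix (Fin m) (Fin m) F, M = ∑ i, slot i (X i) := by
  rw [Ls, LinearMap.mem_range]
  refine exists_congr fun X => ?_
  rw [LinearMap.sum_apply]
  exact eq_comm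

lemma proj_mem_Ls (M : Matrix (Fin (s + 1) → Fin m) (Fin (s + 1) → Fin m) F) : proj M ∈ Ls :=
  mem_Ls.2 ⟨fun i => ptr i M, proj_apply M⟩

lemma sG_mem_wr (i : Fin (s + 1)) (B : GL (Fin m) F) : sG i B ∈ wr m (s + 1) F := by
  refine ⟨1, Function.update 1 i B, fun u => ?_⟩
  rw [sG_val, slot_mulVec_pv]
  congr 1
  funext l
  rcases eq_or_ne l i with rfl | h
  · simp
  · simp [Function.update_of_ne h]

/-- The projection moved by `g`. -/
def Pr (g : GL (Fin (s + 1) → Fin m) F) :
    Matrix (Fin (s + 1) → Fin m) (Fin (s + 1) → Fin m) F →ₗ[F]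
      Matrix (Fin (s + 1) → Fin m) (Fin (s + 1) → Fin m) F :=
  Cj g ∘ₗ proj ∘ₗ Cj g⁻¹

lemma Pr_mul_right (g : GL (Fin (s + 1) → Fin m) F) {r : GL (Fin (s + 1) → Fin m) F}
    (hr : r ∈ wr m (s + 1) F) : Pr (g * r) = Pr g := by
  refine LinearMap.ext fun M => ?_
  simp only [Pr, LinearMap.comp_apply, _root_.mul_inv_rev, Cj_mul]
  have h : proj (Cj r⁻¹ (Cj g⁻¹ M)) = Cj r⁻¹ (proj (Cj g⁻¹ M)) := by
    rw [Cj_apply r⁻¹, proj_conj (wr_eq (m := m) (F := F) ▸ inv_mem hr)]
    rfl
  rw [h, ← Cj_mul r, mul_inv_cancel, Cj_one]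

/-- The projection of a coset. -/
def PrQ (q : GL (Fin (s + 1) → Fin m) F ⧸ wr m (s + 1) F) :
    Matrix (Fin (s + 1) → Fin m) (Fin (s + 1) → Fin m) F →ₗ[F]
      Matrix (Fin (s + 1) → Fin m) (Fin (s + 1) → Fin m) F :=
  Quotient.liftOn' q Pr fun a b h => by
    rw [show b = a * (a⁻¹ * b) by rw [mul_inv_cancel_left],
      Pr_mul_right a (QuotientGroup.leftRel_apply.1 h)]

lemma PrQ_mk (g : GL (Fin (s + 1) → Fin m) F) : PrQ (g : GL (Fin (s + 1) → Fin m) F ⧸ wr m (s + 1) F) = Pr g :=
  rfl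

lemma PrQ_smul (x : GL (Fin (s + 1) → Fin m) F) (q : GL (Fin (s + 1) → Fin m) F ⧸ wr m (s + 1) F)
    (M : Matrix (Fin (s + 1) → Fin m) (Fin (s + 1) → Fin m) F) :
    PrQ (x • q) (Cj x M) = Cj x (PrQ q M) := by
  obtain ⟨g, rfl⟩ := QuotientGroup.mk_surjective q
  rw [MulAction.Quotient.smul_coe, PrQ_mk, PrQ_mk, smul_eq_mul]
  simp only [Pr, LinearMap.comp_apply, _root_.mul_inv_rev, Cj_mul]
  rw [← Cj_mul x⁻¹, inv_mul_cancel, Cj_one]

lemma smul_mk_eq_iff (r g : GL (Fin (s + 1) → Fin m) F) :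
    r • (g : GL (Fin (s + 1) → Fin m) F ⧸ wr m (s + 1) F) = g ↔ g⁻¹ * r * g ∈ wr m (s + 1) F := by
  rw [MulAction.Quotient.smul_coe, smul_eq_mul, eq_comm, QuotientGroup.eq, mul_assoc]

variable [Fintype F] {σ : F ≃+* F} {c : F} {f : (Fin m → F) → (Fin m → F) → F}

lemma exists_norm_one_move (hf : IsUnitaryForm σ f) (h2 : (2 : F) = 0) :
    ∃ ζ : F, ζ * σ ζ = 1 ∧ σ ζ ≠ ζ := by
  obtain ⟨a, b, -, ha, hb, -, hab, -, -⟩ := exists_three_norm hf
  have hn : (-1 : F) = 1 := by linear_combination -h2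
  rw [hn] at ha hb
  have key : ∀ z : F, z * σ z = 1 → σ z = z → z = 1 := fun z hz e => by
    rw [e] at hz
    exact sub_eq_zero.1 (pow_eq_zero_iff (n := 2) (by norm_num) |>.1
      (show (z - 1) ^ 2 = 0 by linear_combination hz + (1 - z) * h2))
  by_cases h : σ a = a
  · refine ⟨b, hb, fun e => hab ?_⟩
    rw [key a ha h, key b hb e]
  · exact ⟨a, ha, h⟩

/-- A vector orthogonal to two members of a hyperbolic pair and an anisotropic vector between them. -/
lemma exists_orth_three (hf : IsUnitaryForm σ f) (hm : 4 ≤ m) {v p x : Fin m → F} (hv : f v v = 0)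
    (hp : f p p = 0) (hvp : f v p = 1) (hxv : f x v = 0) (hxp : f x p = 0) (hx : f x x = 1) :
    ∃ w, f w v = 0 ∧ f w x = 0 ∧ f w w = 1 := by
  have hpv : f p v = 1 := by rw [hf.herm, hvp, map_one]
  let L : (Fin m → F) →ₗ[F] (F × F × F) :=
    (formL hf v).prod ((formL hf p).prod (formL hf x))
  have hdim : 1 ≤ finrank F (LinearMap.ker L) := by
    have h1 := LinearMap.finrank_range_add_finrank_ker L
    have h2 := Submodule.finrank_le (LinearMap.range L)
    rw [finrank_fin_fun] at h1
    simp only [finrank_prod, finrank_self] at h2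
    omega
  have hk : ∀ w, w ∈ LinearMap.ker L ↔ f w v = 0 ∧ f w p = 0 ∧ f w x = 0 := fun w => by
    simp [L, LinearMap.mem_ker, Function.prod]
  have hnd : IsNondegenerateOn f (LinearMap.ker L) := by
    intro w hw hw0
    obtain ⟨hwv, hwp, hwx⟩ := (hk w).1 hw
    obtain ⟨⟨z, hz⟩, -⟩ := hf.nondegenerate w hw0
    set y := z - f z p • v - f z v • p - f z x • x with hy
    have hyk : y ∈ LinearMap.ker L := (hk y).2 <| by
      refine ⟨?_, ?_, ?_⟩ <;> simp only [hy, sub_left hf, hf.smul_left, hv, hp, hvp, hpv, hxv, hxp, hx,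
        eq_zero_comm hf hxv, eq_zero_comm hf hxp] <;> ring
    have hyw : f y w = f z w := by
      rw [hy, sub_left hf, sub_left hf, sub_left hf, hf.smul_left, hf.smul_left, hf.smul_left,
        eq_zero_comm hf hwv, eq_zero_comm hf hwp, eq_zero_comm hf hwx]
      ring
    exact ⟨⟨y, hyk, by rw [hyw]; exact hz⟩, y, hyk, ne_zero_comm hf (by rw [hyw]; exact hz)⟩
  obtain ⟨w, hw, hww⟩ := exists_value_in hf hnd le_rfl (by omega) (map_one σ)
  exact ⟨w, ((hk w).1 hw).1, ((hk w).1 hw).2.2, hww⟩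

variable {G : Subgroup (GL (Fin (s + 2) → Fin m) F)}
  {H : ((Fin (s + 2) → Fin m) → F) → ((Fin (s + 2) → Fin m) → F) → F}

/-- Every point off the trivial coset has a block. -/
theorem exists_block (hm : 3 ≤ m) (hex : 4 ≤ m ∨ ∃ μ : F, σ μ = μ ∧ μ ≠ 0 ∧ μ ≠ 1)
    (T : TW σ c H f G) (hS : OS T.pow.hf G) (IH : ∀ j, G.comap (oG j) ≤ wr m (s + 1) F)
    (l : Fin (s + 2)) {v : Fin m → F} (hv0 : v ≠ 0) (hv : f v v = 0)
    {g : GL (Fin (s + 2) → Fin m) F} (hg : g ∈ G) (hgw : g ∉ wr m (s + 2) F)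
    (χ : Matrix (Fin (s + 2) → Fin m) (Fin (s + 2) → Fin m) F)
    (hΦ : ∀ r ∈ Qv T.pow.hf l hv, ∀ z, PrQ (r • z) χ = Cj r (PrQ z χ)) :
    Block (Qv T.pow.hf l hv) (fun z => PrQ z χ) (g : GL (Fin (s + 2) → Fin m) F ⧸ wr m (s + 2) F) := by
  classical
  have hf := T.pow.hf
  set y : GL (Fin (s + 2) → Fin m) F ⧸ wr m (s + 2) F := ↑g with hy
  have hroot : ∀ d : F, (g⁻¹ * nu hf l v 0 d * g).val =
        1 + d • ((g⁻¹ : GL (Fin (s + 2) → Fin m) F).val * slot l (Nm hf v) * g.val) ∧
      Quad (g⁻¹ * nu hf l v 0 d * g) ∧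
        finrank F (res (g⁻¹ * nu hf l v 0 d * g)) ≤ m ^ (s + 1) := fun d => by
    have h := conj_root_props hf g⁻¹ l hv d
    rw [inv_inv] at h
    rw [nu_zero hf l hv]
    exact h
  have hslot : ∀ d : F, d ≠ 0 → ∀ i, ¬ IsSlot i (g⁻¹ * nu hf l v 0 d * g) := fun d hd i h =>
    hgw (conj_slot_mem hm hex T hS IH hg hv0 hv hd (nu_zero hf l hv d ▸ h))
  have hone : ∀ d : F, d ≠ 0 → nu hf l v 0 d • y = y → (2 : F) = 0 ∧ m = 3 := by
    intro d hd hfix
    by_contra hne
    obtain ⟨i, hi⟩ := wr_slot hm ((smul_mk_eq_iff _ _).1 hfix) (hroot d).2.1 (hroot d).2.2 hne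
    exact hslot d hd i hi
  have htwo : ∀ d e : F, σ d = -d → σ e = -e → d ≠ 0 → e ≠ 0 → d + e ≠ 0 →
      nu hf l v 0 d • y = y → nu hf l v 0 e • y = y → False := by
    intro d e hd he hd0 he0 hde hfd hfe
    have hmul : g⁻¹ * nu hf l v 0 d * g * (g⁻¹ * nu hf l v 0 e * g) =
        g⁻¹ * nu hf l v 0 (d + e) * g := by
      rw [← nu_mul_root hf l hv (SW_zero hf hd) he]; group
    obtain ⟨i, hi | hi | hi⟩ := pair_slot hm ((smul_mk_eq_iff _ _).1 hfd) ((smul_mk_eq_iff _ _).1 hfe)
      (hroot d).2.1 (hroot d).2.2 (hroot e).2.1 (hroot e).2.2 (by rw [hmul]; exact (hroot _).2.1)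
      (by rw [hmul]; exact (hroot _).2.2)
    · exact hslot d hd0 i hi
    · exact hslot e he0 i hi
    · exact hslot _ hde i (hmul ▸ hi)
  by_cases h2 : (2 : F) = 0
  swap
  · exact block_odd hf l hΦ hm hv0 h2 fun d _ hd0 hfix => h2 (hone d hd0 hfix).1
  have hneg : ∀ z : F, -z = z := fun z => by linear_combination -z * h2
  have hsk : ∀ {z : F}, σ z = z → σ z = -z := fun {z} h => by rw [hneg, h]
  by_cases hA : ∃ d₁ d₂, σ d₁ = -d₁ ∧ σ d₂ = -d₂ ∧ d₁ ≠ d₂ ∧ nu hf l v 0 d₁ • y ≠ y ∧
      nu hf l v 0 d₂ • y ≠ y ∧ nu hf l v 0 (d₁ + d₂) • y ≠ y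
  · obtain ⟨d₁, d₂, h1, h1', hne, e1, e2, e3⟩ := hA
    exact block_four hf l hΦ h2 h1 h1' hne e1 e2 e3
  push Not at hA
  obtain ⟨p, hp, hvp, -⟩ := exists_partner hf hv0 hv
  obtain ⟨ζ, hζ, hζ'⟩ := exists_norm_one_move hf h2
  -- the square of a fixing element
  have hsq : ∀ {w c}, SW σ f v w c → nu hf l v w c • y = y → nu hf l v 0 (f w w) • y = y := by
    intro w c hc hfix
    have e : nu hf l v w c * nu hf l v w c = nu hf l v 0 (f w w) := by
      rw [nu_mul hf l hv hc hc]
      congr 1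
      · rw [← two_smul F, h2, zero_smul]
      · linear_combination (c - f w w) * h2
    rw [← e, mul_smul, hfix, hfix]
  by_cases hfix : ∃ d, σ d = -d ∧ d ≠ 0 ∧ nu hf l v 0 d • y = y
  · obtain ⟨d₀, hd₀, hd₀0, hd₀y⟩ := hfix
    have hm3 := (hone d₀ hd₀0 hd₀y).2
    have honly : ∀ d, σ d = -d → nu hf l v 0 d • y = y → d = 0 ∨ d = d₀ := by
      intro d hd hdy
      by_contra hcon
      push Not at hcon
      exact htwo d d₀ hd hd₀ hcon.1 hd₀0 (fun e => hcon.2 (by rw [← hneg d₀]; exact eq_neg_of_add_eq_zero_left e))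
        hdy hd₀y
    obtain ⟨μ, hμ, hμ0, hμ1⟩ := hex.resolve_left (by omega)
    obtain ⟨d, hd, hdy⟩ : ∃ d, σ d = -d ∧ nu hf l v 0 d • y ≠ y := by
      by_contra hcon
      push Not at hcon
      rcases honly 1 (hsk (map_one σ)) (hcon 1 (hsk (map_one σ))) with h | h
      · exact one_ne_zero h
      rcases honly μ (hsk hμ) (hcon μ (hsk hμ)) with h' | h'
      · exact hμ0 h'
      · exact hμ1 (h'.trans h.symm)
    have hZ : ∀ e, σ e = -e → nu hf l v 0 e • y = y ∨ nu hf l v 0 (e + d) • y = y := by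
      intro e he
      by_cases h1 : nu hf l v 0 e • y = y
      · exact Or.inl h1
      rcases eq_or_ne e d with rfl | hne
      · exact Or.inr (by rw [← two_mul, h2, zero_mul, nu_root_zero hf l hv, one_smul])
      · exact Or.inr (hA e d he hd hne h1 hdy)
    -- the fixed scalars form a field of four elements
    have hμ2 : μ * μ = μ + 1 := by
      by_contra hne
      let S : Finset F := {0, d₀, d, d₀ + d}
      have hin : ∀ e, σ e = e → e ∈ S := fun e he => by
        rcases hZ e (hsk he) with h | h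
        · rcases honly e (hsk he) h with h' | h' <;> simp [S, h']
        · rcases honly _ (by rw [map_add, hsk he, hd, neg_add]) h with h' | h'
          · simp [S, (eq_neg_of_add_eq_zero_left h').trans (hneg d)]
          · simp [S, show e = d₀ + d by rw [← h']; linear_combination -d * h2]
      have hμ1' : μ + 1 ≠ 0 := fun e => hμ1 ((eq_neg_of_add_eq_zero_left e).trans (hneg 1))
      have hμμ : μ * μ ≠ 1 := fun e => hμ1' (pow_eq_zero_iff (n := 2) (by norm_num) |>.1
        (show (μ + 1) ^ 2 = 0 by linear_combination e + (1 + μ) * h2))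
      have hμμ' : μ * μ ≠ μ := fun e => hμ1 (mul_left_cancel₀ hμ0 (by rw [mul_one]; exact e))
      have h5 : ({0, 1, μ, μ + 1, μ * μ} : Finset F).card = 5 := by
        rw [Finset.card_insert_of_notMem (by simp [hμ0.symm, hμ1'.symm, (mul_ne_zero hμ0 hμ0).symm]),
          Finset.card_insert_of_notMem (by simp [hμ1.symm, hμ0, hμμ.symm]),
          Finset.card_insert_of_notMem (by simp [hμμ'.symm]),
          Finset.card_insert_of_notMem (by simp [Ne.symm hne]), Finset.card_singleton]
      have h4 : S.card ≤ 4 := Finset.card_le_four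
      have hle := Finset.card_le_card (show ({0, 1, μ, μ + 1, μ * μ} : Finset F) ⊆ S from fun e he => by
        simp only [Finset.mem_insert, Finset.mem_singleton] at he
        rcases he with rfl | rfl | rfl | rfl | rfl <;> apply hin <;> simp [hμ])
      omega
    obtain ⟨x, hxv, -, hxx⟩ := exists_value_hyp hf (by rw [Fintype.card_fin]; exact hm) hv hp hvp
      (s := d₀) (by rw [hd₀, hneg])
    have hvx : f v x = 0 := eq_zero_comm hf hxv
    have hζn : f (ζ • x) (ζ • x) = d₀ := by
      rw [hf.smul_left, smul_right hf, hxx]; linear_combination d₀ * hζ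
    -- one of two vectors of that norm has free lifts
    obtain ⟨a, hva, haa, hafree⟩ : ∃ a, f v a = 0 ∧ f a a = d₀ ∧
        ∀ c, SW σ f v a c → nu hf l v a c • y ≠ y := by
      by_contra hcon
      push Not at hcon
      obtain ⟨c, hc, hcy⟩ := hcon x hvx hxx
      obtain ⟨c', hc', hcy'⟩ := hcon (ζ • x) (by rw [smul_right hf, hvx, mul_zero]) hζn
      obtain ⟨hs, hsy⟩ := fix_comm hf l hc hc' hcy hcy' hv
      rcases honly _ hs hsy with h | h
      · rw [smul_right hf, hf.smul_left, hxx, ← sub_mul, mul_eq_zero, or_iff_left hd₀0, sub_eq_zero] at h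
        exact hζ' h
      · rw [smul_right hf, hf.smul_left, hxx, ← sub_mul, mul_left_eq_self₀, or_iff_left hd₀0] at h
        have hq : ζ * ζ + ζ + 1 = 0 := by linear_combination hζ - ζ * h + h2
        have : (ζ - μ) * (ζ - (μ + 1)) = 0 := by
          linear_combination hq + hμ2 + (μ - ζ * μ - ζ) * h2
        rcases mul_eq_zero.1 this with e | e <;> rw [sub_eq_zero] at e <;> apply hζ' <;> rw [e]
        · exact hμ
        · rw [map_add, hμ, map_one]
    have hfree : ∀ (w : Fin m → F) (r : F), σ r = r → r ≠ 0 → r ≠ 1 → f w w = r * d₀ →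
        ∀ c, SW σ f v w c → nu hf l v w c • y ≠ y := by
      intro w r hr hr0 hr1 hww c hc hfix'
      have := hsq hc hfix'
      rw [hww] at this
      rcases honly _ (by rw [map_mul, hr, hd₀, mul_neg]) this with h | h
      · exact mul_ne_zero hr0 hd₀0 h
      · exact hr1 ((mul_left_eq_self₀.1 h).resolve_right hd₀0)
    refine block_eight hf l hΦ h2 hd hdy hZ (wa := a) (wb := μ • a) hva
      (by rw [smul_right hf, hva, mul_zero]) (by rw [hf.smul_left, smul_right hf, hμ]) hafree
      (hfree _ (μ + 1) (by rw [map_add, hμ, map_one])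
        (fun e => hμ1 ((eq_neg_of_add_eq_zero_left e).trans (hneg 1)))
        (fun e => hμ0 (by linear_combination e)) ?_)
      (hfree _ μ hμ hμ0 hμ1 ?_)
    · rw [hf.smul_left, smul_right hf, hμ, haa, ← mul_assoc, hμ2]
    · simp only [hf.add_left, add_right hf, hf.smul_left, smul_right hf, hμ, haa]
      linear_combination d₀ * hμ2 + (d₀ + μ * d₀) * h2
  · -- no fixed root: two elements
    push Not at hfix
    have hK : ∀ e, σ e = -e → e = 0 ∨ e = 1 := by
      intro e he
      by_contra hcon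
      push Not at hcon
      exact hfix (e + 1) (by rw [map_add, he, map_one, neg_add, hneg 1])
        (fun h => hcon.2 ((eq_neg_of_add_eq_zero_left h).trans (hneg 1)))
        (hA e 1 he (hsk (map_one σ)) hcon.2 (hfix e he hcon.1)
          (hfix 1 (hsk (map_one σ)) one_ne_zero))
    have hm4 : 4 ≤ m := by
      rcases hex with h | ⟨μ, hμ, hμ0, hμ1⟩
      · exact h
      · rcases hK μ (hsk hμ) with h | h
        · exact absurd h hμ0
        · exact absurd h hμ1
    have h1y := hfix 1 (hsk (map_one σ)) one_ne_zero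
    have hZ : ∀ e, σ e = -e → nu hf l v 0 e • y = y ∨ nu hf l v 0 (e + 1) • y = y := by
      intro e he
      rcases hK e he with rfl | rfl
      · exact Or.inl (by rw [nu_root_zero hf l hv, one_smul])
      · exact Or.inr (by rw [← two_mul, h2, zero_mul, nu_root_zero hf l hv, one_smul])
    obtain ⟨x, hxv, hxp, hxx⟩ := exists_value_hyp hf (by rw [Fintype.card_fin]; exact hm) hv hp hvp
      (s := 1) (map_one σ)
    obtain ⟨x', hx'v, hx'x, hx'x'⟩ := exists_orth_three hf hm4 hv hp hvp hxv hxp hxx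
    have hfree1 : ∀ w, f w w = 1 → ∀ c, SW σ f v w c → nu hf l v w c • y ≠ y :=
      fun w hw c hc hy' => h1y (hw ▸ hsq hc hy')
    obtain ⟨z, hvz, hxz, hzz, hzfree⟩ : ∃ z, f v z = 0 ∧ f x z = 0 ∧ f z z = 1 ∧
        ∀ c, SW σ f v (x + z) c → nu hf l v (x + z) c • y ≠ y := by
      by_contra hcon
      push Not at hcon
      obtain ⟨c, hc, hcy⟩ := hcon x' (eq_zero_comm hf hx'v) (eq_zero_comm hf hx'x) hx'x'
      obtain ⟨c', hc', hcy'⟩ := hcon (ζ • x') (by rw [smul_right hf, eq_zero_comm hf hx'v, mul_zero])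
        (by rw [smul_right hf, eq_zero_comm hf hx'x, mul_zero])
        (by rw [hf.smul_left, smul_right hf, hx'x']; linear_combination hζ)
      obtain ⟨hs, hsy⟩ := fix_comm hf l hc hc' hcy hcy' hv
      refine hfix _ hs ?_ hsy
      simp only [hf.add_left, add_right hf, hf.smul_left, smul_right hf, hxx, hx'x', hx'x,
        eq_zero_comm hf hx'x]
      intro e
      exact hζ' (by linear_combination e)
    exact block_eight hf l hΦ h2 (hsk (map_one σ)) h1y hZ (wa := x) (wb := z) (eq_zero_comm hf hxv)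
      hvz (by rw [hxz, eq_zero_comm hf hxz]) (hfree1 x hxx) (hfree1 z hzz) hzfree

/-- A group with scalar root maps over smaller such groups respects the tensor structure. -/
theorem le_wr_step (hm : 3 ≤ m) (hex : 4 ≤ m ∨ ∃ μ : F, σ μ = μ ∧ μ ≠ 0 ∧ μ ≠ 1)
    (T : TW σ c H f G) (hS : OS T.pow.hf G) (IH : ∀ j, G.comap (oG j) ≤ wr m (s + 1) F) :
    G ≤ wr m (s + 2) F := by
  classical
  have hf := T.pow.hf
  let Γ := GL (Fin (s + 2) → Fin m) F
  haveI : Fintype (Γ ⧸ wr m (s + 2) F) := Fintype.ofFinite _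
  let X : Finset (Γ ⧸ wr m (s + 2) F) := Finset.univ.filter fun q => ∃ g ∈ G, (g : Γ ⧸ wr m (s + 2) F) = q
  have hX : ∀ {q}, q ∈ X ↔ ∃ g ∈ G, (g : Γ ⧸ wr m (s + 2) F) = q := by simp [X]
  have hXs : ∀ x ∈ G, ∀ q ∈ X, x • q ∈ X := fun x hx q hq => by
    obtain ⟨g, hg, rfl⟩ := hX.1 hq
    exact hX.2 ⟨x * g, G.mul_mem hx hg, rfl⟩
  let A := ∑ q ∈ X, PrQ q
  have hA : ∀ x ∈ G, ∀ M, A (Cj x M) = Cj x (A M) := by
    intro x hx M
    simp only [A, LinearMap.sum_apply, map_sum]
    refine Finset.sum_nbij' (fun q => x⁻¹ • q) (fun q => x • q) (fun q hq => hXs _ (G.inv_mem hx) q hq)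
      (fun q hq => hXs _ hx q hq) (fun q _ => smul_inv_smul x q) (fun q _ => inv_smul_smul x q)
      fun q _ => ?_
    rw [← PrQ_smul, smul_inv_smul]
  have hpure : ∀ (B : Fin (s + 2) → Matrix (Fin m) (Fin m) F) (l : Fin (s + 2)) (v : Fin m → F),
      v ≠ 0 → f v v = 0 →
      A (pmat (Function.update B l (Nm hf v))) = proj (pmat (Function.update B l (Nm hf v))) := by
    intro B l v hv0 hv
    set χ := pmat (Function.update B l (Nm hf v))
    have hQG : ∀ r ∈ Qv hf l hv, r ∈ G ∧ r ∈ wr m (s + 2) F ∧ Cj r χ = χ := by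
      rintro _ ⟨w, a, h, rfl⟩
      refine ⟨T.mem l _ ⟨eich_mem_isoOf hf hv h.1 h.2, eich_mem_sl _ _ _ _⟩, sG_mem_wr l _, ?_⟩
      obtain ⟨hi, hi'⟩ := nu_inv hf l hv h
      have z1 : slot l (Dm hf v w a) * χ = 0 := by
        rw [slot_mul_pmat, Function.update_self, Dm_mul_Nm hf hv h.1, Function.update_idem]
        ext i j
        simp [TWreath.pmat_update_apply]
      have z2 : χ * slot l (Dm hf v (-w) (σ a)) = 0 := by
        rw [pmat_mul_slot, Function.update_self, Nm_mul_Dm hf hv hi'.1, Function.update_idem]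
        ext i j
        simp [TWreath.pmat_update_apply]
      rw [Cj_apply, hi, nu_val, nu_val, add_mul, one_mul, z1, add_zero, mul_add, mul_one, z2, add_zero]
    have hΦ : ∀ r ∈ Qv hf l hv, ∀ z, PrQ (r • z) χ = Cj r (PrQ z χ) := fun r hr z => by
      rw [← PrQ_smul, (hQG r hr).2.2]
    have hbase : ((1 : Γ) : Γ ⧸ wr m (s + 2) F) ∈ X := hX.2 ⟨1, G.one_mem, rfl⟩
    have h0 : ∑ q ∈ X.erase ((1 : Γ) : Γ ⧸ wr m (s + 2) F), PrQ q χ = 0 := by
      refine sum_eq_zero_of_blocks (Qv hf l hv) (fun q => PrQ q χ)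
        (fun r hr => ⟨(Cj r).toAddMonoidHom, hΦ r hr⟩) _ (fun r hr q hq => ?_) fun q hq => ?_
      · obtain ⟨hne, hq'⟩ := Finset.mem_erase.1 hq
        refine Finset.mem_erase.2 ⟨fun e => hne ?_, hXs r (hQG r hr).1 q hq'⟩
        rw [← inv_smul_smul r q, e, MulAction.Quotient.smul_coe, smul_eq_mul, mul_one, QuotientGroup.eq,
          inv_inv, mul_one]
        exact (hQG r hr).2.1
      · obtain ⟨hne, hq'⟩ := Finset.mem_erase.1 hq
        obtain ⟨g, hg, rfl⟩ := hX.1 hq'
        refine exists_block hm hex T hS IH l hv0 hv hg (fun hgw => hne ?_) χ hΦ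
        rw [QuotientGroup.eq, mul_one]
        exact inv_mem hgw
    show (∑ q ∈ X, PrQ q) χ = _
    rw [LinearMap.sum_apply, ← Finset.add_sum_erase _ _ hbase, h0, add_zero, PrQ_mk]
    simp [Pr, Cj_one]
  -- everything of trace zero goes to sums of slots
  let K : Submodule F (Matrix (Fin (s + 2) → Fin m) (Fin (s + 2) → Fin m) F) := Ls.comap A
  have hcomp : ∀ (B : Fin (s + 2) → Matrix (Fin m) (Fin m) F) (l : Fin (s + 2))
      (Z : Matrix (Fin m) (Fin m) F), Z.trace = 0 → pmat (Function.update B l Z) ∈ K := by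
    intro B l Z hZ
    have e : ∀ Z, slot l Z * pmat (Function.update B l 1) = pmat (Function.update B l Z) := fun Z => by
      rw [slot_mul_pmat, Function.update_self, mul_one, Function.update_idem]
    have := iso_span hf (K.comap (LinearMap.mulRight F (pmat (Function.update B l 1)) ∘ₗ
      (slot l).toLinearMap)) (fun v hv => by
        show slot l (Nm hf v) * _ ∈ K
        rw [e]
        rcases eq_or_ne v 0 with rfl | hv0
        · rw [show pmat (Function.update B l (Nm hf 0)) = 0 by
            ext i j; simp [TWreath.pmat_update_apply, Nm]]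
          exact K.zero_mem
        show A _ ∈ Ls
        rw [hpure B l v hv0 hv]
        exact proj_mem_Ls _) hZ
    rw [← e]
    exact this
  have htr : ∀ Z : Matrix (Fin (s + 2) → Fin m) (Fin (s + 2) → Fin m) F, Z.trace = 0 → Z ∈ K := by
    intro Z hZ
    have hoff : ∀ a b : Fin (s + 2) → Fin m, a ≠ b → Matrix.single a b (1 : F) ∈ K := by
      intro a b hab
      obtain ⟨i, hi⟩ := Function.ne_iff.1 hab
      rw [← pmat_single, ← Function.update_eq_self i (fun l => Matrix.single (a l) (b l) (1 : F))]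
      exact hcomp _ i _ (Matrix.trace_single_eq_of_ne (a i) (b i) (1 : F) hi)
    have hdiag : ∀ a b : Fin (s + 2) → Fin m,
        Matrix.single a a (1 : F) - Matrix.single b b (1 : F) ∈ K := by
      intro a b
      suffices ∀ S : Finset (Fin (s + 2)),
          Matrix.single a a (1 : F) - Matrix.single (S.piecewise b a) (S.piecewise b a) (1 : F) ∈ K by
        simpa using this Finset.univ
      intro S
      induction S using Finset.induction_on with
      | empty => simp
      | @insert i S hi ih =>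
        set b' := S.piecewise b a with hb'
        rw [Finset.piecewise_insert, ← hb']
        have h1 : Matrix.single b' b' (1 : F) -
            Matrix.single (Function.update b' i (b i)) (Function.update b' i (b i)) (1 : F) ∈ K := by
          have := hcomp (fun l => Matrix.single (b' l) (b' l) (1 : F)) i
            (Matrix.single (b' i) (b' i) 1 - Matrix.single (b i) (b i) 1)
            (by simp [Matrix.trace_sub, Matrix.trace_single_eq_same])
          convert this using 1
          have e : ∀ (B : Fin (s + 2) → Matrix (Fin m) (Fin m) F) (Y Y' : Matrix (Fin m) (Fin m) F),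
              pmat (Function.update B i (Y - Y')) =
                pmat (Function.update B i Y) - pmat (Function.update B i Y') := fun B Y Y' => by
            rw [eq_sub_iff_add_eq, ← TWreath.pmat_update_add, sub_add_cancel]
          rw [e, Function.update_eq_self, ← pmat_single, ← pmat_single]
          congr 2
          funext j
          rcases eq_or_ne j i with rfl | h
          · simp
          · simp [Function.update_of_ne h]
        simpa using K.add_mem ih h1
    obtain ⟨a₀⟩ : Nonempty (Fin (s + 2) → Fin m) := ⟨fun _ => ⟨0, by omega⟩⟩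
    rw [show Z = ∑ a, ∑ b, Z a b • (Matrix.single a b (1 : F) -
        if a = b then Matrix.single a₀ a₀ 1 else 0) by
      simp only [smul_sub, Finset.sum_sub_distrib, smul_ite, smul_zero, Finset.sum_ite_eq,
        Finset.mem_univ, if_true, ← Finset.sum_smul]
      rw [show ∑ a, Z a a = 0 from hZ, zero_smul, sub_zero]
      conv_lhs => rw [matrix_eq_sum_single Z]
      simp only [Matrix.smul_single, smul_eq_mul, mul_one]]
    refine K.sum_mem fun a _ => K.sum_mem fun b _ => K.smul_mem _ ?_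
    split_ifs with h
    · subst h; exact hdiag a a₀
    · rw [sub_zero]; exact hoff a b h
  intro g hg
  refine mem_wr_of_roots hm hf fun l v hv0 hv => ?_
  set p : Fin m := ⟨0, by omega⟩
  set χ := pmat (Function.update (fun _ => Matrix.single p p (1 : F)) l (Nm hf v))
  have hNtr : (Nm hf v).trace = 0 := by rw [trace_Nm, hv]
  have hMg : g.val * slot l (Nm hf v) * (g⁻¹ : GL (Fin (s + 2) → Fin m) F).val ∈ Ls := by
    have h1 : Cj g χ ∈ K := htr _ (by
      rw [Cj_apply, Matrix.trace_units_conj, Matrix.trace]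
      simp only [Matrix.diag, χ, TWreath.pmat_apply]
      rw [← Fintype.prod_sum (fun j x => Function.update (fun _ => Matrix.single p p (1 : F)) l
        (Nm hf v) j x x)]
      exact Finset.prod_eq_zero (Finset.mem_univ l) (by rw [Function.update_self]; exact hNtr))
    have h2 : A (Cj g χ) ∈ Ls := h1
    rw [hA g hg, hpure _ l v hv0 hv, proj_single_slot l p hNtr] at h2
    exact h2
  obtain ⟨X', hX'⟩ := mem_Ls.1 hMg
  by_cases hsc : ∀ i, ∃ d : F, X' i = d • 1
  · choose d hd using hsc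
    exact ⟨0, (∑ i, d i) • 1, by
      rw [hX', map_smul, map_one, Finset.sum_smul]; simp [hd]⟩
  push Not at hsc
  obtain ⟨i, hi⟩ := hsc
  set R := ∑ k, slot k (X' (i.succAbove k)) with hR
  have hsplit : g.val * slot l (Nm hf v) * (g⁻¹ : GL (Fin (s + 2) → Fin m) F).val =
      slot i (X' i) + oth i R := by
    rw [hX', Fin.sum_univ_succAbove _ i, hR, map_sum]
    simp only [oth_slot]
  obtain ⟨e, he⟩ : ∃ e : F, R = e • 1 := by
    by_contra hcon
    let R₁ := Matrix.toLin' (Matrix.reindex (enc m (s + 1)) (enc m (s + 1)) R)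
    let M := (sp i).symm (slot i (X' i) + oth i R)
    have hD : ∀ x w, Matrix.toLin' M (pt x w) =
        pt (LinearMap.id (R := F) x) (Matrix.toLin' (X' i) w) + pt (R₁ x) w := fun x w => by
      simp only [M, R₁, Matrix.toLin'_apply, LinearMap.id_apply, slot_eq_sp, oth_def, map_add, LinearMap.add_apply,
        AlgEquiv.symm_apply_apply, add_mulVec, kron_mulVec_pt, one_mulVec]
    have h1 := lt_finrank_range hm hD Function.injective_id
      (fun ⟨e, he⟩ => hi e (Matrix.toLin'.injective (LinearMap.ext fun w => by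
        rw [he]; simp [Matrix.toLin'_apply, smul_mulVec])))
      (fun ⟨e, he⟩ => hcon ⟨e, (Matrix.reindexAlgEquiv F F (enc m (s + 1))).injective
        (Matrix.toLin'.injective (LinearMap.ext fun w => by
          rw [map_smul, map_one]
          exact (he w).trans (by simp [Matrix.toLin'_apply, smul_mulVec])))⟩)
    have h2 : finrank F (LinearMap.range (Matrix.toLin' M)) ≤ m ^ (s + 1) := by
      have e : M.rank = (sp i M).rank := by
        show _ = (Matrix.reindex (split i).symm (split i).symm M).rank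
        rw [Matrix.rank_reindex]
      show finrank F (LinearMap.range M.mulVecLin) ≤ _
      rw [← Matrix.rank, e, AlgEquiv.apply_symm_apply, ← hsplit]
      refine (rank_conj g _).trans ?_
      rw [Nm]
      exact rank_slot_le l _ _
    omega
  exact ⟨i, X' i + e • 1, by
    rw [hsplit, he, map_smul, map_one, map_add, map_smul, map_one]⟩

end CfsgLib.ClassicalMax.TWU
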