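/-
Two tensor factors: all transvections at the products with an isotropic vector of the second
factor give all transvections.
-/
import Cfsg.Agent.Lib.ClassicalMax.TensorUnitFill
set_option autoImplicit false
set_option linter.unusedSectionVars false

namespace CfsgLib.ClassicalMax.TWU

open Matrix Kronecker Module Cfsg.Geo
open CfsgLib.ClassicalMax.Kron
open CfsgLib.ClassicalMax.Unit
open CfsgLib.ClassicalMax.TensorUnit (UPair uSet_move exists_partner exists_value_perp exists_pair_norm
  rank_two_mem ptLeft ptLeft_apply)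
open CfsgLib.ClassicalMax.TensorSL (lcon lcon_pt)

local notation:80 g:81 " •ᵥ " z:80 => Matrix.mulVec (Units.val g) z

variable {F : Type*} [Field F] [DecidableEq F] {a b : ℕ} {σ : F ≃+* F}
  {h : (Fin a × Fin b → F) → (Fin a × Fin b → F) → F} {f₁ : (Fin a → F) → (Fin a → F) → F}
  {f₂ : (Fin b → F) → (Fin b → F) → F} {M : Subgroup (GL (Fin a × Fin b) F)}
  [Fintype F] (P : UPair σ h f₁ f₂) (hb : 3 ≤ b)
  (hS : ∀ x v, f₂ v v = 0 → pt x v ∈ uSet P.hh M)
include hb hS

lemma mem_iso_any {u : Fin a → F} (hu : f₁ u u = 0) (y : Fin b → F) :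
    pt u y ∈ uSet P.hh M := by
  have hf := P.h₁
  have hg := P.h₂
  have hh := P.hh
  by_cases hy : f₂ y y = 0
  · exact hS _ _ hy
  rcases eq_or_ne u 0 with rfl | hu0
  · have := hS 0 0 (zero_left hg 0)
    rwa [pt_zero_left] at this ⊢
  obtain ⟨β, hβ⟩ := exists_norm_eq hg.ne_refl hg.involutive (s := (f₂ y y)⁻¹)
    (by rw [map_inv₀, self_fixed hg])
  have hβ0 : β ≠ 0 := fun e => inv_ne_zero hy (by rw [← hβ, e, zero_mul])
  set e := β • y with he'
  have he : f₂ e e = 1 := by
    rw [he', hg.smul_left, smul_right hg, ← mul_assoc, hβ, inv_mul_cancel₀ hy]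
  clear_value e
  obtain ⟨e', he'e, he'e'⟩ := exists_value_perp hg (by rw [Fintype.card_fin]; exact hb)
    e (s := (1 : F)) (map_one σ)
  obtain ⟨η, hη⟩ := exists_norm_eq hg.ne_refl hg.involutive (s := (-1 : F)) (by simp)
  have hη0 : η ≠ 0 := fun e => one_ne_zero (α := F) (by
    rw [e, zero_mul] at hη; exact neg_eq_zero.1 hη.symm)
  obtain ⟨u', hu', huu', hu'u⟩ := exists_partner hf hu0 hu
  obtain ⟨τ, hτ0, hτ⟩ := exists_trace_zero hg.ne_refl hg.involutive
  set K := e + η • e' with hK
  have hKK : f₂ K K = 0 := by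
    rw [hK, hg.add_left, add_right hg, add_right hg, hg.smul_left, hg.smul_left, smul_right hg,
      smul_right hg, he, he'e', he'e, eq_zero_comm hg he'e]
    linear_combination hη
  have heK : f₂ e K = 1 := by
    rw [hK, add_right hg, smul_right hg, he, eq_zero_comm hg he'e, mul_zero, add_zero]
  have hx₀ : pt u' K ∈ uSet hh M := hS _ _ hKK
  let π : (Fin b → F) →ₗ[F] (Fin a → F) →ₗ[F] (Fin a × Fin b → F) :=
    LinearMap.mk₂ F (fun w x => pt x w) (fun w w' x => pt_add_right x w w')
      (fun c w x => pt_smul_right c x w) (fun w x x' => pt_add_left x x' w)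
      (fun c w x => pt_smul_left c x w)
  have hX : π e (u + τ • u') + π e' ((τ * η) • u') ∈ uSet hh M := by
    refine rank_two_mem hh hg hf π (fun x x' w w' => ?_) (fun x hx w => ?_) he he'e'
      (eq_zero_comm hg he'e) ?_ (Or.inr ?_)
    · show h (pt w x) (pt w' x') = _
      rw [P.prod, mul_comm]
    · exact hS w _ hx
    · rw [hf.add_left, add_right hf, add_right hf, hf.smul_left, hf.smul_left, hf.smul_left,
        smul_right hf, smul_right hf, smul_right hf, hu, hu', huu', hu'u, hτ]
      ring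
    · rw [hf.add_left, hf.smul_left, smul_right hf, smul_right hf, huu', hu', mul_zero, mul_zero,
        add_zero, mul_one]
      exact fun e0 => mul_ne_zero hτ0 hη0 (σ.injective (by rw [e0, map_zero]))
  have hXe : π e (u + τ • u') + π e' ((τ * η) • u') = pt u e + τ • pt u' K := by
    show pt (u + τ • u') e + pt ((τ * η) • u') e' = _
    rw [hK, pt_add_left, pt_add_right, pt_smul_left, pt_smul_left, pt_smul_right]
    module
  rw [hXe] at hX
  have := uSet_move hh hx₀ hX (c := -τ) (by rw [map_neg, hτ])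
  rw [hh.add_left, hh.smul_left, P.prod, P.prod, huu', heK, hu', zero_mul, mul_zero,
    add_zero, mul_one, mul_one, neg_smul, add_neg_cancel_right] at this
  have := uSet_smul hh β⁻¹ this
  rwa [he', pt_smul_right, inv_smul_smul₀ hβ0] at this

lemma mem_two {e e' : Fin a → F} (he : f₁ e e = 1) (he' : f₁ e' e' = 1) (hee' : f₁ e e' = 0)
    {y y' : Fin b → F} (hiso : f₂ y y + f₂ y' y' = 0) :
    pt e y + pt e' y' ∈ uSet P.hh M := by
  have hg := P.h₂
  have hh := P.hh
  let π : (Fin a → F) →ₗ[F] (Fin b → F) →ₗ[F] (Fin a × Fin b → F) :=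
    LinearMap.mk₂ F (fun x w => pt x w) pt_add_left pt_smul_left pt_add_right pt_smul_right
  have hr : ∀ {y y'}, f₂ y y + f₂ y' y' = 0 → (f₂ y y ≠ 0 ∨ f₂ y y' ≠ 0) →
      pt e y + pt e' y' ∈ uSet hh M := fun {y y'} hi hn =>
    rank_two_mem hh P.h₁ hg π (fun x x' w w' => P.prod x x' w w')
      (fun x hx w => mem_iso_any P hb hS hx w) he he' hee' hi hn
  by_cases hn : f₂ y y ≠ 0 ∨ f₂ y y' ≠ 0
  · exact hr hiso hn
  push Not at hn
  obtain ⟨hy, hyy'⟩ := hn
  have hy' : f₂ y' y' = 0 := by rwa [hy, zero_add] at hiso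
  rcases eq_or_ne y 0 with rfl | hy0
  · rw [pt_zero_right, zero_add]
    exact hS e' _ hy'
  rcases eq_or_ne y' 0 with rfl | hy'0
  · rw [pt_zero_right, add_zero]
    exact hS e _ hy
  have hex : ∀ z : Fin b → F, z ≠ 0 → ∃ x ∈ (⊤ : Submodule F (Fin b → F)), formL hg z x ≠ 0 :=
    fun z hz => by
      obtain ⟨x, hx⟩ := (hg.nondegenerate z hz).1
      exact ⟨x, trivial, hx⟩
  obtain ⟨k, -, hk, hky, hky'⟩ := exists_isotropic_avoid hg (W := ⊤)
    (by rw [finrank_top, finrank_fin_fun, Fintype.card_fin]; omega)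
    (formL hg y) (formL hg y') (hex y hy0) (hex y' hy'0)
  rw [formL_apply] at hky hky'
  obtain ⟨τ, hτ0, hτ⟩ := exists_trace_zero hg.ne_refl hg.involutive
  set δ := τ * f₂ y k with hδ
  have hδ0 : δ ≠ 0 := mul_ne_zero hτ0 (ne_zero_comm hg hky)
  have hX : pt e (y + δ • k) + pt e' y' ∈ uSet hh M := by
    refine hr ?_ (Or.inr ?_)
    · rw [hg.add_left, add_right hg, add_right hg, hg.smul_left, hg.smul_left, smul_right hg,
        smul_right hg, hy, hy', hk, hδ, map_mul, hτ, ← hg.herm k y]
      ring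
    · rw [hg.add_left, hg.smul_left, hyy', zero_add]
      exact mul_ne_zero hδ0 hky'
  have hx₀ : pt e k ∈ uSet hh M := hS e _ hk
  have := uSet_move hh hx₀ hX (c := -τ) (by rw [map_neg, hτ])
  rw [hh.add_left, P.prod, P.prod, he, eq_zero_comm P.h₁ hee', hg.add_left,
    hg.smul_left, hk, mul_zero, add_zero, zero_mul, add_zero, one_mul, neg_mul, ← hδ,
    pt_add_right, pt_smul_right] at this
  convert this using 1
  module

/-- One tensor point gives every transvection. -/
theorem iso_inf_sl_le_of_seed (hn : 5 ≤ a * b) : isoOf h ⊓ specialLinear (Fin a × Fin b) F ≤ M := by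
  classical
  have hf := P.h₁
  have hg := P.h₂
  have hh := P.hh
  let Bf : (Fin a → F) →ₛₗ[(σ : F →+* F)] (Fin a → F) →ₗ[F] F :=
    LinearMap.mk₂'ₛₗ (σ : F →+* F) (RingHom.id F) (fun x y => f₁ y x)
      (fun x x' y => add_right hf y x x') (fun c x y => smul_right hf c y x)
      (fun x y y' => hf.add_left y y' x) (fun c x y => hf.smul_left c y x)
  have hσ : (σ : F →+* F) ≠ RingHom.id F := fun e => hf.ne_refl
    (RingEquiv.ext fun x => RingHom.congr_fun e x)
  obtain ⟨E, hspan, hE⟩ := CfsgLib.Forms.exists_orthonormal_family Bf hσ hf.involutive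
    ⟨fun x y => (hf.herm x y).symm⟩ a ⊤ (by rw [finrank_top, finrank_fin_fun]) (fun x _ hx => by
      by_contra hx0
      obtain ⟨y, hy⟩ := (hf.nondegenerate x hx0).1
      exact hy (hx y trivial))
  have hE' : ∀ i j, f₁ (E j) (E i) = if i = j then 1 else 0 := hE
  have hexp : ∀ x, x = ∑ i, f₁ x (E i) • E i := fun x => by
    obtain ⟨c, hc⟩ := (Submodule.mem_span_range_iff_exists_fun F).1
      (hspan.symm ▸ Submodule.mem_top : x ∈ Submodule.span F (Set.range E))
    conv_lhs => rw [← hc]
    refine Finset.sum_congr rfl fun i _ => ?_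
    rw [← hc, ← formL_apply hf, map_sum]
    simp [hE']
  refine iso_inf_sl_le_five hh (by
    rw [Fintype.card_prod, Fintype.card_fin, Fintype.card_fin]; exact hn)
    fun z c hz hc => ?_
  refine (?_ : z ∈ uSet hh M).2 c hc
  -- induction on the number of components
  have hdec : ∀ z : Fin a × Fin b → F, z = ∑ i, pt (E i) (lcon (Unit.formDual hf (E i)) z) := by
    intro z
    have := linear_ext (a := a) (b := b) (f := LinearMap.id)
      (g := ∑ i, ptLeft (E i) ∘ₗ lcon (Unit.formDual hf (E i))) fun x w => by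
        simp only [LinearMap.id_apply, LinearMap.sum_apply, LinearMap.comp_apply, ptLeft_apply,
          lcon_pt, Unit.formDual_dot, pt_smul_right, ← pt_smul_left]
        conv_lhs => rw [hexp x]
        exact map_sum (ptR (a := a) w) _ _
    have := LinearMap.congr_fun this z
    simpa using this
  suffices ∀ N, ∀ y : Fin a → Fin b → F, (Finset.univ.filter fun i => y i ≠ 0).card = N →
      h (∑ i, pt (E i) (y i)) (∑ i, pt (E i) (y i)) = 0 →
        ∑ i, pt (E i) (y i) ∈ uSet hh M by
    rw [hdec z] at hz ⊢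
    exact this _ _ rfl hz
  have hnorm : ∀ y y' : Fin a → Fin b → F,
      h (∑ i, pt (E i) (y i)) (∑ i, pt (E i) (y' i)) = ∑ i, f₂ (y i) (y' i) := by
    intro y y'
    rw [← formL_apply hh, map_sum]
    refine Finset.sum_congr rfl fun i _ => ?_
    rw [formL_apply, hh.herm, ← formL_apply hh, map_sum, map_sum, Finset.sum_eq_single i]
    · rw [formL_apply, P.prod, hE', if_pos rfl, one_mul, ← hg.herm]
    · intro j _ hj
      rw [formL_apply, P.prod, hE', if_neg (Ne.symm hj), zero_mul, map_zero]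
    · exact fun hi => absurd (Finset.mem_univ i) hi
  intro N
  induction N using Nat.strong_induction_on with
  | _ N IH =>
  intro y hN hy
  rw [hnorm] at hy
  set S := Finset.univ.filter fun i => y i ≠ 0 with hSdef
  rcases Finset.eq_empty_or_nonempty S with hS0 | ⟨j, hj⟩
  · have hz0 : ∀ i, y i = 0 := fun i => by
      by_contra hne
      exact Finset.notMem_empty i (hS0 ▸ Finset.mem_filter.2 ⟨Finset.mem_univ i, hne⟩)
    simp only [hz0, pt_zero_right, Finset.sum_const_zero]
    simpa [pt_zero_left] using hS 0 0 (zero_left hg 0)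
  by_cases h1 : ∀ i, i ≠ j → y i = 0
  · rw [Finset.sum_eq_single j (fun i _ hi => by rw [h1 i hi, pt_zero_right])
      fun hi => absurd (Finset.mem_univ j) hi]
    rw [Finset.sum_eq_single j (fun i _ hi => by rw [h1 i hi, zero_left hg])
      fun hi => absurd (Finset.mem_univ j) hi] at hy
    exact hS _ _ hy
  push Not at h1
  obtain ⟨l, hlj, hl⟩ := h1
  obtain ⟨τ, hτ0, hτ⟩ := exists_trace_zero hg.ne_refl hg.involutive
  obtain ⟨u, hul, huu⟩ := exists_pair_norm hg (by rw [Fintype.card_fin]; exact hb) hl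
    (τ - f₂ (y j) (y j)) (s := - f₂ (y j) (y j)) (by rw [map_neg, self_fixed hg])
  let x : Fin a → Fin b → F := fun i => if i = j then y j else if i = l then u else 0
  have hxsum : ∑ i, pt (E i) (x i) = pt (E j) (y j) + pt (E l) u := by
    rw [Fintype.sum_eq_add j l (Ne.symm hlj) fun i hi => by
      simp [x, hi.1, hi.2, pt_zero_right]]
    simp [x, hlj]
  have hxy : ∀ y' : Fin a → Fin b → F,
      ∑ i, f₂ (x i) (y' i) = f₂ (y j) (y' j) + f₂ u (y' l) := by
    intro y'
    rw [Fintype.sum_eq_add j l (Ne.symm hlj) fun i hi => by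
      simp [x, hi.1, hi.2, zero_left hg]]
    simp [x, hlj]
  have hxx : h (∑ i, pt (E i) (x i)) (∑ i, pt (E i) (x i)) = 0 := by
    rw [hnorm, hxy]
    simp [x, hlj, huu]
  have hxS : ∑ i, pt (E i) (x i) ∈ uSet hh M := by
    rw [hxsum]
    refine mem_two P hb hS ?_ ?_ ?_ (by rw [huu, add_neg_cancel])
    · rw [hE', if_pos rfl]
    · rw [hE', if_pos rfl]
    · rw [hE', if_neg hlj]
  have hxv : h (∑ i, pt (E i) (x i)) (∑ i, pt (E i) (y i)) = τ := by
    rw [hnorm, hxy, hul, add_sub_cancel]
  set X := ∑ i, pt (E i) (x i) with hX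
  set Y := ∑ i, pt (E i) (y i) with hY
  have hYY : h Y Y = 0 := by rw [hY, hnorm]; exact hy
  have hsub : ∑ i, pt (E i) ((y - x) i) = Y - X := by
    rw [hX, hY, ← Finset.sum_sub_distrib]
    exact Finset.sum_congr rfl fun i _ => pt_sub_right _ _ _
  have hDD : h (Y - X) (Y - X) = 0 := by
    rw [sub_left hh, sub_right hh, sub_right hh, hYY, hxx, hxv, hh.herm Y X, hxv, hτ]
    ring
  have hD : Y - X ∈ uSet hh M := by
    rw [← hsub]
    refine IH _ ?_ _ rfl (by rw [hsub]; exact hDD)
    rw [← hN]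
    refine Finset.card_lt_card ⟨fun i hi => ?_, fun hsub => ?_⟩
    · rw [Finset.mem_filter] at hi
      refine Finset.mem_filter.2 ⟨hi.1, fun h0 => hi.2 ?_⟩
      rcases eq_or_ne i j with rfl | hij
      · simp [x]
      rcases eq_or_ne i l with rfl | hil
      · exact absurd h0 hl
      · simp [x, hij, hil, h0]
    · have := (Finset.mem_filter.1 (hsub hj)).2
      simp [x] at this
  have := uSet_add hh hxS hD (by
    rw [sub_left hh, hxx, sub_zero, hh.herm Y X, hxv, hτ]
    exact neg_ne_zero.2 hτ0) (by rw [add_sub_cancel]; exact hYY)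
  rwa [add_sub_cancel] at this

end CfsgLib.ClassicalMax.TWU
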