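/-
Tensor powers of a unitary form: the transvections at the pure isotropic vectors give the whole
special unitary group.
-/
import Cfsg.Agent.Lib.ClassicalMax.TWU.Form
import Cfsg.Agent.Lib.ClassicalMax.TWU.Roots
import Cfsg.Agent.Lib.ClassicalMax.TWU.PairFill
import Cfsg.Agent.Lib.Forms.Classify
set_option autoImplicit false
set_option linter.unusedSectionVars false

namespace CfsgLib.ClassicalMax.TWU

open Matrix Kronecker Module Cfsg.Geo
open CfsgLib.ClassicalMax.Kron
open CfsgLib.ClassicalMax.Unit
open CfsgLib.ClassicalMax.TensorUnit (UPair exists_partner exists_value_hyp)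

local notation:80 g:81 " •ᵥ " z:80 => Matrix.mulVec (Units.val g) z

variable {F : Type*} [Field F] [DecidableEq F] [Fintype F] {m s : ℕ} {σ : F ≃+* F} {c : F}
  {f : (Fin m → F) → (Fin m → F) → F}

section Add

variable {ι : Type} [Fintype ι] [DecidableEq ι] {h : (ι → F) → (ι → F) → F} {M : Subgroup (GL ι F)}

/-- A sum of two orthogonal members of `uSet` reached through two helpers. -/
lemma uSet_add_four (hh : IsUnitaryForm σ h) {X Y Z D : ι → F} (hX : X ∈ uSet hh M)
    (hY : Y ∈ uSet hh M) (hZ : Z ∈ uSet hh M) (hD : D ∈ uSet hh M) (hXY : h X Y = 0) {τ η : F}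
    (hτ0 : τ ≠ 0) (hτ : σ τ = -τ) (hη : τ + τ + η - σ η ≠ 0) (hXZ : h X Z = τ) (hYZ : h Y Z = η)
    (hXD : h X D = -σ η) (hYD : h Y D = τ) (hZD : h Z D = τ) : X + Y ∈ uSet hh M := by
  have hne : ∀ {A B : ι → F}, h A B = τ → h B A ≠ 0 ∧ h A B + h B A = 0 := fun {A B} e => by
    rw [hh.herm B A, e, hτ]
    exact ⟨neg_ne_zero.2 hτ0, add_neg_cancel τ⟩
  have hiso : ∀ {A B : ι → F}, h A A = 0 → h B B = 0 → h A B = τ → h (A + B) (A + B) = 0 :=
    fun {A B} hA hB e => by
      rw [hh.add_left, add_right hh, add_right hh, hA, hB]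
      linear_combination (hne e).2
  have hXZ' := uSet_add hh hX hZ (hne hXZ).1 (hiso hX.1 hZ.1 hXZ)
  have hYD' := uSet_add hh hY hD (hne hYD).1 (hiso hY.1 hD.1 hYD)
  have hW := uSet_add hh hZ hD (hne hZD).1 (hiso hZ.1 hD.1 hZD)
  have hAB : h (X + Z) (Y + D) = τ := by
    rw [hh.add_left, add_right hh, add_right hh, hXY, hXD, hZD, hh.herm Z Y, hYZ]
    ring
  have hA := uSet_add hh hXZ' hYD' (hne hAB).1 (hiso hXZ'.1 hYD'.1 hAB)
  have e : X + Y = X + Z + (Y + D) + (-1 : F) • (Z + D) := by module
  rw [e]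
  refine uSet_add hh hA (uSet_smul hh _ hW) ?_ ?_
  · rw [hh.smul_left]
    refine mul_ne_zero (neg_ne_zero.2 one_ne_zero) (ne_zero_comm hh ?_)
    intro e0
    have h1 : h (X + Z + (Y + D)) (Z + D) = h X Z + h X D + h Y Z + h Y D + h (Z + D) (Z + D) := by
      simp only [hh.add_left, add_right hh]
      ring
    rw [h1, hXZ, hXD, hYZ, hYD, hW.1] at e0
    exact hη (by linear_combination e0)
  · rw [← e, hh.add_left, add_right hh, add_right hh, hX.1, hY.1, hh.herm Y X, hXY, map_zero]
    ring

end Add

section Vectors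

variable (hf : IsUnitaryForm σ f)
include hf

lemma exists_not_fixed : ∃ ω : F, σ ω ≠ ω := by
  by_contra h
  push Not at h
  exact hf.ne_refl (RingEquiv.ext h)

/-- Two isotropic partners of an isotropic vector with prescribed product. -/
lemma exists_pair (hm : 3 ≤ m) {v : Fin m → F} (hv0 : v ≠ 0) (hv : f v v = 0) (lam : F) :
    ∃ v' v'', f v' v' = 0 ∧ f v'' v'' = 0 ∧ f v v' = 1 ∧ f v v'' = 1 ∧ f v' v'' = lam := by
  obtain ⟨p, hp, hvp, hpv⟩ := exists_partner hf hv0 hv
  obtain ⟨w, hwv, hwp, hww⟩ := exists_value_hyp hf (by rw [Fintype.card_fin]; exact hm) hv hp hvp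
    (s := -(lam + σ lam)) (by rw [map_neg, map_add, hf.involutive, add_comm])
  refine ⟨p, p + σ lam • v + w, hp, ?_, hvp, ?_, ?_⟩
  · simp only [hf.add_left, add_right hf, hf.smul_left, smul_right hf, hp, hv, hvp, hpv, hwv, hwp,
      hww, eq_zero_comm hf hwv, eq_zero_comm hf hwp, hf.involutive]
    ring
  · simp only [add_right hf, smul_right hf, hv, hvp, eq_zero_comm hf hwv]; ring
  · simp only [add_right hf, smul_right hf, hp, hpv, eq_zero_comm hf hwp, hf.involutive]; ring

/-- Two isotropic vectors normalised at a vector and not orthogonal to each other. -/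
lemma exists_normal_pair (hm : 3 ≤ m) {u : Fin m → F} (hu : u ≠ 0) :
    ∃ z d, f z z = 0 ∧ f d d = 0 ∧ f u z = 1 ∧ f u d = 1 ∧ f z d ≠ 0 := by
  have hex : ∀ z : Fin m → F, z ≠ 0 →
      ∃ x ∈ (⊤ : Submodule F (Fin m → F)), formL hf z x ≠ 0 := fun z hz => by
    obtain ⟨x, hx⟩ := (hf.nondegenerate z hz).1
    exact ⟨x, trivial, hx⟩
  have hnorm : ∀ z, f z z = 0 → f z u ≠ 0 → ∃ a : F, a ≠ 0 ∧ f (a • z) (a • z) = 0 ∧ f u (a • z) = 1 :=
    fun z hz hzu => ⟨σ (f u z)⁻¹,
      fun e => inv_ne_zero (ne_zero_comm hf hzu) (by simpa using congrArg σ.symm e),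
      by rw [hf.smul_left, smul_right hf, hz, mul_zero, mul_zero],
      by rw [smul_right hf, hf.involutive, inv_mul_cancel₀ (ne_zero_comm hf hzu)]⟩
  have hdim : Fintype.card (Fin m) < 2 * finrank F (⊤ : Submodule F (Fin m → F)) := by
    rw [finrank_top, finrank_fin_fun, Fintype.card_fin]; omega
  obtain ⟨z, -, hz, hzu, -⟩ := exists_isotropic_avoid hf (W := ⊤)
    (by rw [finrank_top, finrank_fin_fun, Fintype.card_fin]; omega)
    (formL hf u) (formL hf u) (hex u hu) (hex u hu)
  rw [formL_apply] at hzu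
  obtain ⟨a, ha0, haz, hua⟩ := hnorm z hz hzu
  have hz0 : a • z ≠ 0 := smul_ne_zero ha0 fun e => hzu (by rw [e, Unit.zero_left hf])
  obtain ⟨d, -, hd, hdu, hdz⟩ := exists_isotropic_avoid hf (W := ⊤)
    (by rw [finrank_top, finrank_fin_fun, Fintype.card_fin]; omega)
    (formL hf u) (formL hf (a • z)) (hex u hu) (hex _ hz0)
  rw [formL_apply] at hdu hdz
  obtain ⟨b, hb0, hbd, hub⟩ := hnorm d hd hdu
  refine ⟨a • z, b • d, haz, hbd, hua, hub, ?_⟩
  rw [smul_right hf]
  exact mul_ne_zero (fun e => hb0 (by simpa using congrArg σ.symm e)) (ne_zero_comm hf hdz)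

/-- Isotropic helpers for a hyperbolic pair. -/
lemma exists_slot_pair (hm : 3 ≤ m) {e e' : Fin m → F} (he : f e e = 0) (he' : f e' e' = 0)
    (hκ : f e e' + σ (f e e') ≠ 0) {τ : F} (hτ0 : τ ≠ 0) (hτ : σ τ = -τ) :
    ∃ η, τ + τ + η - σ η ≠ 0 ∧ ∃ z d, f z z = 0 ∧ f d d = 0 ∧ f e z = τ ∧ f e' z = η ∧
      f e d = -σ η ∧ f e' d = τ ∧ f z d ≠ 0 := by
  set κ := f e e' with hκdef
  have hκ0 : κ ≠ 0 := fun h => hκ (by rw [h, map_zero, add_zero])
  have hσ0 : σ κ ≠ 0 := fun h => hκ0 (by simpa using congrArg σ.symm h)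
  have he'e : f e' e = σ κ := hf.herm e' e
  obtain ⟨η, hη1, hη2⟩ : ∃ η, τ + τ + η - σ η ≠ 0 ∧ σ η * σ κ - η * κ ≠ 0 := by
    by_cases hfix : σ κ = κ
    · have h2 : (2 : F) ≠ 0 := fun h => hκ (by rw [hfix, ← two_mul, h, zero_mul])
      refine ⟨τ, fun h => ?_, fun h => ?_⟩
      · rw [hτ] at h
        exact mul_ne_zero (mul_ne_zero h2 h2) hτ0 (by linear_combination h)
      · rw [hfix, hτ] at h
        exact mul_ne_zero (mul_ne_zero h2 hτ0) hκ0 (by linear_combination -h)
    · obtain ⟨ω, hω⟩ := exists_not_fixed hf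
      by_cases h0 : σ (ω - τ) * σ κ - (ω - τ) * κ = 0
      · refine ⟨ω - τ + 1, fun h => hω ?_, fun h => hfix ?_⟩
        · rw [map_add, map_sub, map_one, hτ] at h
          linear_combination -h
        · rw [map_add, map_one] at h
          linear_combination h - h0
      · refine ⟨ω - τ, fun h => hω ?_, h0⟩
        rw [map_sub, hτ] at h
        linear_combination -h
  set n := -(τ * σ η / κ + σ (τ * σ η / κ)) with hn
  have hn0 : n ≠ 0 := by
    have e1 : n = -(τ * (σ η * σ κ - η * κ) / (κ * σ κ)) := by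
      rw [hn, map_div₀, map_mul, hτ, hf.involutive]
      field_simp
      ring
    rw [e1]
    exact neg_ne_zero.2 (div_ne_zero (mul_ne_zero hτ0 hη2) (mul_ne_zero hκ0 hσ0))
  obtain ⟨w, hwe, hwe₁, hww⟩ := exists_value_hyp hf (by rw [Fintype.card_fin]; exact hm) he
    (r := (σ κ)⁻¹ • e') (by rw [hf.smul_left, smul_right hf, he', mul_zero, mul_zero])
    (by rw [smul_right hf, map_inv₀, hf.involutive, ← hκdef, inv_mul_cancel₀ hκ0]) (s := n)
    (by rw [hn, map_neg, map_add, hf.involutive, add_comm])
  have hwe' : f w e' = 0 := by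
    rw [smul_right hf, map_inv₀, hf.involutive, mul_eq_zero] at hwe₁
    exact hwe₁.resolve_left (inv_ne_zero hκ0)
  set P := σ η / κ * (-σ η / κ) * κ + -τ / σ κ * (τ / σ κ) * σ κ with hP
  obtain ⟨ζ, hζ, hζP⟩ : ∃ ζ, ζ * σ ζ = 1 ∧ P + σ ζ * n ≠ 0 := by
    by_contra hcon
    push Not at hcon
    obtain ⟨a, b, -, ha, hb, -, hab, -, -⟩ := exists_three_norm hf
    have hb0 : b ≠ 0 := fun e0 => by simp [e0] at hb
    have hn1 : a / b * σ (a / b) = 1 := by
      rw [map_div₀, div_mul_div_comm, ha, hb, div_self (neg_ne_zero.2 one_ne_zero)]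
    have h1 := hcon 1 (by rw [map_one, one_mul])
    have h2 := hcon _ hn1
    rw [map_one, one_mul] at h1
    have h3 : (σ (a / b) - 1) * n = 0 := by linear_combination h2 - h1
    have h4 := congrArg σ (sub_eq_zero.1 ((mul_eq_zero.1 h3).resolve_right hn0))
    rw [hf.involutive, map_one, div_eq_one_iff_eq hb0] at h4
    exact hab h4
  refine ⟨η, hη1, (σ η / κ) • e + (-τ / σ κ) • e' + w, (-τ / κ) • e + (-η / σ κ) • e' + ζ • w,
    ?_, ?_, ?_, ?_, ?_, ?_, ?_⟩
  all_goals
    simp only [hf.add_left, add_right hf, hf.smul_left, smul_right hf, he, he', he'e, ← hκdef, hwe,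
      hwe', eq_zero_comm hf hwe, eq_zero_comm hf hwe', hww, map_div₀, map_neg, map_mul, hτ,
      hf.involutive]
  · rw [hn, map_div₀, map_mul, hτ, hf.involutive]
    field_simp
    ring
  · rw [hn, map_div₀, map_mul, hτ, hf.involutive]
    have := hζ
    field_simp
    linear_combination -(τ * (σ η * σ κ - η * κ)) * this
  · field_simp
    ring
  · field_simp
    ring
  · field_simp
    ring
  · field_simp
    ring
  · convert hζP using 1
    rw [hP]
    field_simp
    ring

end Vectors

section Others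

variable {G : Subgroup (GL (Fin (s + 2) → Fin m) F)}
  {H : ((Fin (s + 2) → Fin m) → F) → ((Fin (s + 2) → Fin m) → F) → F}

/-- A vector of the other slots tensored with a vector of the slot `l`. -/
def ins (l : Fin (s + 2)) (x : (Fin (s + 1) → Fin m) → F) (v : Fin m → F) :
    (Fin (s + 2) → Fin m) → F :=
  pt (x ∘ (enc m (s + 1)).symm) v ∘ split l

lemma ins_pv (l : Fin (s + 2)) (u : Fin (s + 1) → Fin m → F) (v : Fin m → F) :
    ins l (pv u) v = pv (l.insertNth v u) := by
  show pt (pvE u) v ∘ split l = _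
  rw [pt_pvE l]
  funext a
  simp

lemma ins_add (l : Fin (s + 2)) (x y : (Fin (s + 1) → Fin m) → F) (v : Fin m → F) :
    ins l (x + y) v = ins l x v + ins l y v := by
  funext a; simp [ins, pt, add_mul]

lemma ins_smul (l : Fin (s + 2)) (a : F) (x : (Fin (s + 1) → Fin m) → F) (v : Fin m → F) :
    ins l (a • x) v = a • ins l x v := by
  funext b; simp [ins, pt, mul_assoc]

lemma pv_update_add {t : ℕ} (u : Fin t → Fin m → F) (i : Fin t) (a b : Fin m → F) :
    pv (Function.update u i (a + b)) = pv (Function.update u i a) + pv (Function.update u i b) := by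
  funext x
  have e : ∀ d, ∏ l, Function.update u i d l (x l) = d (x i) * ∏ l ∈ Finset.univ.erase i, u l (x l) :=
    fun d => by
      rw [← Finset.mul_prod_erase _ _ (Finset.mem_univ i), Function.update_self]
      congr 1
      exact Finset.prod_congr rfl fun l hl => by
        rw [Function.update_of_ne (Finset.ne_of_mem_erase hl)]
  simp only [pv, Pi.add_apply, e, add_mul]

lemma pv_zero_factor {t : ℕ} {u : Fin t → Fin m → F} {i : Fin t} (h : u i = 0) :
    pv u = (0 : (Fin t → Fin m) → F) := by
  funext x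
  exact Finset.prod_eq_zero (Finset.mem_univ i) (by simp [h])

/-- Every product with an isotropic vector in one slot carries all its transvections. -/
theorem ins_mem_uSet (hm : 3 ≤ m) (T : TW σ c H f G)
    (hpure : ∀ u : Fin (s + 2) → Fin m → F, (∀ k, f (u k) (u k) = 0) → pv u ∈ uSet T.pow.hh G)
    (l : Fin (s + 2)) (x : (Fin (s + 1) → Fin m) → F) {v : Fin m → F} (hv : f v v = 0) :
    ins l x v ∈ uSet T.pow.hh G := by
  classical
  have hf := T.pow.hf
  haveI : Nonempty (Fin m) := ⟨⟨0, by omega⟩⟩
  obtain ⟨h', hh', hU⟩ := exists_split (by omega) T.pow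
  have hsig : σ c = c := T.pow.c_fixed (by omega)
  have hc := T.pow.c_ne
  have hH : ∀ x x' v v', H (ins l x v) (ins l x' v') = h' x x' * f v v' := fun x x' v v' => by
    have := (hU l).prod (x ∘ (enc m (s + 1)).symm) (x' ∘ (enc m (s + 1)).symm) v v'
    simpa [Hs, ins, onF, Function.comp_assoc] using this
  let U : Set ((Fin (s + 1) → Fin m) → F) :=
    {x | ∀ v, f v v = 0 → ins l x v ∈ uSet T.pow.hh G}
  have hzero : (0 : (Fin (s + 2) → Fin m) → F) ∈ uSet T.pow.hh G := by
    have := hpure (fun _ => 0) (fun _ => Unit.zero_left hf 0)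
    rwa [pv_zero_factor (i := 0) rfl] at this
  have hU0 : (0 : (Fin (s + 1) → Fin m) → F) ∈ U := fun v _ => by
    rw [show ins l 0 v = 0 by funext a; simp [ins, pt]]
    exact hzero
  have hsmul : ∀ (a : F) {x}, x ∈ U → a • x ∈ U := fun a x hx v hv => by
    rw [ins_smul]; exact uSet_smul _ a (hx v hv)
  have hadd : ∀ {x y z d : (Fin (s + 1) → Fin m) → F} {τ η : F}, x ∈ U → y ∈ U → z ∈ U → d ∈ U →
      τ ≠ 0 → σ τ = -τ → τ + τ + η - σ η ≠ 0 → h' x z = τ → h' y z = η → h' x d = -σ η →
      h' y d = τ → h' z d ≠ 0 → x + y ∈ U := by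
    intro x y z d τ η hx hy hz hd hτ0 hτ hη hxz hyz hxd hyd hzd v hv
    rcases eq_or_ne v 0 with rfl | hv0
    · rw [show ins l (x + y) 0 = 0 by funext a; simp [ins, pt]]
      exact hzero
    obtain ⟨v', v'', hv', hv'', h1, h2, h3⟩ := exists_pair hf hm hv0 hv (τ / h' z d)
    rw [ins_add]
    exact uSet_add_four T.pow.hh (hx v hv) (hy v hv) (hz v' hv') (hd v'' hv'')
      (by rw [hH, hv, mul_zero]) hτ0 hτ hη (by rw [hH, hxz, h1, mul_one])
      (by rw [hH, hyz, h1, mul_one]) (by rw [hH, hxd, h2, mul_one]) (by rw [hH, hyd, h2, mul_one])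
      (by rw [hH, h3, mul_div_cancel₀ _ hzd])
  obtain ⟨τ, hτ0, hτ⟩ := exists_trace_zero hf.ne_refl hf.involutive
  -- the pure vectors
  have hpv : ∀ (D : Finset (Fin (s + 1))) (u : Fin (s + 1) → Fin m → F),
      (∀ k, k ∉ D → f (u k) (u k) = 0) → pv u ∈ U := by
    intro D
    induction D using Finset.induction_on with
    | empty =>
      intro u hu v hv
      rw [ins_pv]
      refine hpure _ fun k => ?_
      rcases Fin.eq_self_or_eq_succAbove l k with rfl | ⟨j, rfl⟩
      · rw [Fin.insertNth_apply_same]; exact hv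
      · rw [Fin.insertNth_apply_succAbove]; exact hu j (Finset.notMem_empty j)
    | @insert i D hi ih =>
      intro u hu
      by_cases hii : f (u i) (u i) = 0
      · refine ih u fun k hk => ?_
        rcases eq_or_ne k i with rfl | hki
        · exact hii
        · exact hu k (by simp [hki, hk])
      by_cases hz : ∃ k, u k = 0
      · obtain ⟨k, hk⟩ := hz
        rw [pv_zero_factor hk]
        exact hU0
      push Not at hz
      obtain ⟨p, -, hp, -, hwp, -, -⟩ := exists_normal_pair hf hm (hz i)
      obtain ⟨κ, hκ⟩ := exists_trace_eq hf (s := f (u i) (u i)) (self_fixed hf _)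
      have hpw : f p (u i) = 1 := by rw [hf.herm, hwp, map_one]
      set e := κ • p with he_def
      set e' := u i - κ • p with he'_def
      have he : f e e = 0 := by rw [he_def, hf.smul_left, smul_right hf, hp, mul_zero, mul_zero]
      have he' : f e' e' = 0 := by
        rw [he'_def, sub_left hf, sub_right hf, sub_right hf, hf.smul_left, hf.smul_left,
          smul_right hf, smul_right hf, hp, hwp, hpw]
        linear_combination -hκ
      have hee' : f e e' = κ := by
        rw [he_def, he'_def, hf.smul_left, sub_right hf, smul_right hf, hp, hpw]; ring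
      obtain ⟨η, hη, zi, di, hzi, hdi, hez, he'z, hed, he'd, hzd⟩ := exists_slot_pair hf hm he he'
        (by rw [hee', hκ]; exact hii) (div_ne_zero hτ0 hc)
        (show σ (τ / c) = -(τ / c) by rw [map_div₀, hτ, hsig, neg_div])
      choose zo dout hzo hdo huz hud hzod using fun k => exists_normal_pair hf hm (hz k)
      have hX : pv (Function.update u i e) ∈ U := ih _ fun k hk => by
        rcases eq_or_ne k i with rfl | hki
        · rw [Function.update_self]; exact he
        · rw [Function.update_of_ne hki]; exact hu k (by simp [hki, hk])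
      have hY : pv (Function.update u i e') ∈ U := ih _ fun k hk => by
        rcases eq_or_ne k i with rfl | hki
        · rw [Function.update_self]; exact he'
        · rw [Function.update_of_ne hki]; exact hu k (by simp [hki, hk])
      have hZ : ∀ (a : Fin (s + 1) → Fin m → F) b, (∀ k, f (a k) (a k) = 0) → f b b = 0 →
          pv (Function.update a i b) ∈ U := fun a b ha hb => ih _ fun k _ => by
        rcases eq_or_ne k i with rfl | hki
        · rw [Function.update_self]; exact hb
        · rw [Function.update_of_ne hki]; exact ha k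
      have hval : ∀ (a a' : Fin (s + 1) → Fin m → F) b b',
          h' (pv (Function.update a i b)) (pv (Function.update a' i b')) =
            c * f b b' * ∏ k ∈ Finset.univ.erase i, f (a k) (a' k) := fun a a' b b' => by
        rw [hh'.prod, ← Finset.mul_prod_erase _ _ (Finset.mem_univ i), Function.update_self,
          Function.update_self, mul_assoc]
        congr 1
        congr 1
        exact Finset.prod_congr rfl fun k hk => by
          simp [Function.update_of_ne (Finset.ne_of_mem_erase hk)]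
      have h1 : pv u = pv (Function.update u i e) + pv (Function.update u i e') := by
        rw [← pv_update_add, he_def, he'_def, add_sub_cancel, Function.update_eq_self]
      rw [h1]
      refine hadd (z := pv (Function.update zo i zi)) (d := pv (Function.update dout i di))
        (η := c * η) hX hY (hZ _ _ hzo hzi) (hZ _ _ hdo hdi) hτ0 hτ ?_ ?_ ?_ ?_ ?_ ?_
      · rw [map_mul, hsig]
        intro h0
        exact hη ((mul_eq_zero.1 (show c * (τ / c + τ / c + η - σ η) = 0 by
          field_simp; linear_combination h0)).resolve_left hc)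
      · rw [hval, hez, mul_div_cancel₀ _ hc, Finset.prod_eq_one fun k _ => huz k, mul_one]
      · rw [hval, he'z, Finset.prod_eq_one fun k _ => huz k, mul_one]
      · rw [hval, hed, Finset.prod_eq_one fun k _ => hud k, mul_one, map_mul, hsig, mul_neg]
      · rw [hval, he'd, mul_div_cancel₀ _ hc, Finset.prod_eq_one fun k _ => hud k, mul_one]
      · rw [hval]
        exact mul_ne_zero (mul_ne_zero hc hzd) (Finset.prod_ne_zero_iff.2 fun k _ => hzod k)
  have hpv' : ∀ u, pv u ∈ U := fun u => hpv Finset.univ u fun k hk => absurd (Finset.mem_univ k) hk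
  -- an orthonormal basis
  let Bf : (Fin m → F) →ₛₗ[(σ : F →+* F)] (Fin m → F) →ₗ[F] F :=
    LinearMap.mk₂'ₛₗ (σ : F →+* F) (RingHom.id F) (fun x y => f y x)
      (fun x x' y => add_right hf y x x') (fun a x y => smul_right hf a y x)
      (fun x y y' => hf.add_left y y' x) (fun a x y => hf.smul_left a y x)
  have hσne : (σ : F →+* F) ≠ RingHom.id F := fun e => hf.ne_refl
    (RingEquiv.ext fun x => RingHom.congr_fun e x)
  obtain ⟨E, hspan, hE⟩ := CfsgLib.Forms.exists_orthonormal_family Bf hσne hf.involutive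
    ⟨fun x y => (hf.herm x y).symm⟩ m ⊤ (by rw [finrank_top, finrank_fin_fun]) (fun x _ hx => by
      by_contra hx0
      obtain ⟨y, hy⟩ := (hf.nondegenerate x hx0).1
      exact hy (hx y trivial))
  have hE' : ∀ i j, f (E j) (E i) = if i = j then 1 else 0 := hE
  have hexp : ∀ x, x = ∑ i, f x (E i) • E i := fun x => by
    obtain ⟨a, ha⟩ := (Submodule.mem_span_range_iff_exists_fun F).1
      (hspan.symm ▸ Submodule.mem_top : x ∈ Submodule.span F (Set.range E))
    conv_lhs => rw [← ha]
    refine Finset.sum_congr rfl fun i _ => ?_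
    rw [← ha, ← formL_apply hf, map_sum]
    simp [hE']
  let B : (Fin (s + 1) → Fin m) → ((Fin (s + 1) → Fin m) → F) := fun a => pv fun k => E (a k)
  have hBB : ∀ a b, h' (B a) (B b) = if a = b then c else 0 := fun a b => by
    rw [hh'.prod]
    rcases eq_or_ne a b with rfl | hab
    · simp [hE']
    · obtain ⟨k, hk⟩ := Function.ne_iff.1 hab
      rw [if_neg hab, Finset.prod_eq_zero (Finset.mem_univ k) (by rw [hE', if_neg (Ne.symm hk)]),
        mul_zero]
  have hsumform : ∀ (S : Finset (Fin (s + 1) → Fin m)) (a : (Fin (s + 1) → Fin m) → F)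
      (z : (Fin (s + 1) → Fin m) → F), h' (∑ b ∈ S, a b • B b) z = ∑ b ∈ S, a b * h' (B b) z := by
    intro S a z
    rw [← formL_apply hh'.hh, map_sum]
    simp [formL_apply]
  obtain ⟨ω, hω, hω0⟩ : ∃ ω, σ ω ≠ ω ∧ ω - τ ≠ 0 := by
    obtain ⟨ω, hω⟩ := exists_not_fixed hf
    rcases eq_or_ne (ω - τ) 0 with h | h
    · exact ⟨ω + 1, fun e => hω (by rw [map_add, map_one] at e; exact add_right_cancel e),
        fun e => one_ne_zero (α := F) (by linear_combination e - h)⟩
    · exact ⟨ω, hω, h⟩
  set η := ω - τ with hη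
  have hη' : τ + τ + η - σ η ≠ 0 := by
    rw [hη, map_sub, hτ]
    intro h
    exact hω (by linear_combination -h)
  have hsum : ∀ (N : ℕ) (S : Finset (Fin (s + 1) → Fin m)) (a : (Fin (s + 1) → Fin m) → F),
      S.card = N → ∑ b ∈ S, a b • B b ∈ U := by
    intro N
    induction N using Nat.strong_induction_on with
    | _ N IH =>
    intro S a hN
    by_cases hz : ∃ b ∈ S, a b = 0
    · obtain ⟨b, hb, hb0⟩ := hz
      rw [← Finset.add_sum_erase _ _ hb, hb0, zero_smul, zero_add]
      exact IH _ (by rw [← hN]; exact Finset.card_erase_lt_of_mem hb) _ _ rfl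
    push Not at hz
    rcases S.eq_empty_or_nonempty with rfl | ⟨j, hj⟩
    · rw [Finset.sum_empty]; exact hU0
    rcases (S.erase j).eq_empty_or_nonempty with hS1 | ⟨i, hi⟩
    · rw [← Finset.add_sum_erase _ _ hj, hS1, Finset.sum_empty, add_zero]
      exact hsmul _ (hpv' _)
    obtain ⟨hij, hiS⟩ := Finset.mem_erase.1 hi
    have hai := hz i hiS
    have haj := hz j hj
    have hx : ∑ b ∈ S.erase j, a b • B b ∈ U :=
      IH _ (by rw [← hN]; exact Finset.card_erase_lt_of_mem hj) _ _ rfl
    have hy : a j • B j ∈ U := hsmul _ (hpv' _)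
    rw [← Finset.add_sum_erase _ _ hj, add_comm (a j • B j)]
    set lam := σ (τ / (c * a i)) with hlam
    set mu := σ (η / (c * a j)) with hmu
    set mu' := σ (τ / (c * a j)) with hmu'
    by_cases h3 : ∃ i', i' ∈ S.erase j ∧ i' ≠ i
    · obtain ⟨i', hi', hii'⟩ := h3
      obtain ⟨hi'j, hi'S⟩ := Finset.mem_erase.1 hi'
      have hai' := hz i' hi'S
      have hN3 : 2 < N := by
        rw [← hN]
        exact Finset.two_lt_card.2 ⟨j, hj, i, hiS, i', hi'S, hij.symm, hi'j.symm, hii'.symm⟩
      have htwo : ∀ (b b' : Fin (s + 1) → Fin m) (p p' : F), b ≠ b' → p • B b + p' • B b' ∈ U := by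
        intro b b' p p' hne
        have h2 := IH 2 hN3 {b, b'} (fun x => if x = b then p else p') (Finset.card_pair hne)
        rwa [Finset.sum_pair hne, if_pos rfl, if_neg hne.symm] at h2
      set lam' := σ (-σ η / (c * a i')) with hlam'
      refine hadd (z := lam • B i + mu • B j) (d := lam' • B i' + mu' • B j) (η := η) hx hy
        (htwo _ _ _ _ hij) (htwo _ _ _ _ hi'j) hτ0 hτ hη' ?_ ?_ ?_ ?_ ?_
      · rw [hsumform, Finset.sum_eq_single i]
        · simp only [add_right hh'.hh, smul_right hh'.hh, hBB, if_neg hij, hlam, hf.involutive, if_pos]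
          field_simp
          simp
        · intro b hb hbi
          simp [add_right hh'.hh, smul_right hh'.hh, hBB, hbi, (Finset.mem_erase.1 hb).1]
        · exact fun h => absurd hi h
      · simp only [hh'.hh.smul_left, add_right hh'.hh, smul_right hh'.hh, hBB, if_neg hij.symm, hmu,
          hf.involutive, if_pos]
        field_simp
        simp
      · rw [hsumform, Finset.sum_eq_single i']
        · simp only [add_right hh'.hh, smul_right hh'.hh, hBB, if_neg hi'j, hlam', hf.involutive, if_pos]
          field_simp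
          simp
        · intro b hb hbi
          simp [add_right hh'.hh, smul_right hh'.hh, hBB, hbi, (Finset.mem_erase.1 hb).1]
        · exact fun h => absurd hi' h
      · simp only [hh'.hh.smul_left, add_right hh'.hh, smul_right hh'.hh, hBB, if_neg hi'j.symm, hmu',
          hf.involutive, if_pos]
        field_simp
        simp
      · simp only [hh'.hh.add_left, hh'.hh.smul_left, add_right hh'.hh, smul_right hh'.hh, hBB,
          if_neg hi'j.symm, if_neg hij, if_neg hii'.symm, if_pos, mul_zero, add_zero, zero_add]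
        refine mul_ne_zero ?_ (mul_ne_zero ?_ hc)
        · exact (map_ne_zero σ).2 ((map_ne_zero σ).2 (div_ne_zero hω0 (mul_ne_zero hc haj))) |> fun h => by simpa [hmu] using h
        · simp [hmu', hτ0, hc, haj]
    · push Not at h3
      rw [show S.erase j = {i} from Finset.eq_singleton_iff_unique_mem.2 ⟨hi, h3⟩, Finset.sum_singleton]
      obtain ⟨p, hp⟩ := Function.ne_iff.1 hij
      have hr : ∀ k, ∃ r : Fin m, r ≠ i k ∧ r ≠ j k := fun k => by
        by_contra hcon
        push Not at hcon
        have h1 := Finset.card_le_card (show (Finset.univ : Finset (Fin m)) ⊆ {i k, j k} from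
          fun r _ => by
            rcases eq_or_ne r (i k) with h | h
            · simp [h]
            · simp [hcon r h])
        rw [Finset.card_univ, Fintype.card_fin] at h1
        have := h1.trans Finset.card_le_two
        omega
      choose r hr1 hr2 using hr
      set lam' := σ (-σ η / (c * a i)) with hlam'
      set rho := 1 - (lam * σ lam' + mu * σ mu') with hrho
      let zv : Fin (s + 1) → Fin m → F := fun k =>
        if k = p then lam • E (i k) + mu • E (j k) + rho • E (r k)
        else if i k = j k then E (i k) else E (i k) + E (j k) + (-1 : F) • E (r k)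
      let dv : Fin (s + 1) → Fin m → F := fun k =>
        if k = p then lam' • E (i k) + mu' • E (j k) + E (r k)
        else if i k = j k then E (i k) else E (i k) + E (j k) + E (r k)
      have hform : ∀ (b : Fin (s + 1) → Fin m) (w : Fin (s + 1) → Fin m → F),
          h' (B b) (pv w) = c * ∏ k, f (E (b k)) (w k) := fun b w => hh'.prod _ _
      have hfac : ∀ k, k ≠ p → f (E (i k)) (zv k) = 1 ∧ f (E (j k)) (zv k) = 1 ∧
          f (E (i k)) (dv k) = 1 ∧ f (E (j k)) (dv k) = 1 ∧ f (zv k) (dv k) = 1 := fun k hk => by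
        simp only [zv, dv, if_neg hk]
        by_cases h : i k = j k
        · simp [h, hE']
        · have hl : ∀ a b, f (-a) b = -f a b := fun a b => by
            rw [← neg_one_smul F a, hf.smul_left, neg_one_mul]
          have hr : ∀ a b, f a (-b) = -f a b := fun a b => by
            rw [← neg_one_smul F b, smul_right hf, map_neg, map_one, neg_one_mul]
          simp [h, hl, hr, hf.add_left, add_right hf, hf.smul_left, smul_right hf, hE', hr1 k, hr2 k,
            (hr1 k).symm, (hr2 k).symm, Ne.symm h]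
      have hP : f (E (i p)) (zv p) = σ lam ∧ f (E (j p)) (zv p) = σ mu ∧
          f (E (i p)) (dv p) = σ lam' ∧ f (E (j p)) (dv p) = σ mu' ∧ f (zv p) (dv p) = 1 := by
        simp only [zv, dv, if_pos]
        simp [hf.add_left, add_right hf, hf.smul_left, smul_right hf, hE', hr1 p, hr2 p,
          (hr1 p).symm, (hr2 p).symm, hp, Ne.symm hp, hrho]
      have hprod : ∀ (g : Fin (s + 1) → F), (∀ k, k ≠ p → g k = 1) → ∏ k, g k = g p := fun g hg =>
        Finset.prod_eq_single p (fun k _ hk => hg k hk) fun h => absurd (Finset.mem_univ p) h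
      refine hadd (z := pv zv) (d := pv dv) (η := η) (hsmul _ (hpv' _)) hy (hpv' _) (hpv' _) hτ0 hτ
        hη' ?_ ?_ ?_ ?_ ?_
      · rw [hh'.hh.smul_left, hform, hprod _ (fun k hk => (hfac k hk).1), hP.1, hlam, hf.involutive]
        field_simp
      · rw [hh'.hh.smul_left, hform, hprod _ (fun k hk => (hfac k hk).2.1), hP.2.1, hmu, hf.involutive]
        field_simp
      · rw [hh'.hh.smul_left, hform, hprod _ (fun k hk => (hfac k hk).2.2.1), hP.2.2.1, hlam',
          hf.involutive]
        field_simp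
      · rw [hh'.hh.smul_left, hform, hprod _ (fun k hk => (hfac k hk).2.2.2.1), hP.2.2.2.1, hmu',
          hf.involutive]
        field_simp
      · rw [hh'.prod, hprod _ (fun k hk => (hfac k hk).2.2.2.2), hP.2.2.2.2, mul_one]
        exact hc
  have hall : x = ∑ b ∈ Finset.univ, (h' x (B b) / c) • B b := by
    have := pv_ext (f := LinearMap.id)
      (g := ∑ b : Fin (s + 1) → Fin m, (c⁻¹ • formL hh'.hh (B b)).smulRight (B b)) fun u => by
        simp only [LinearMap.id_apply, LinearMap.sum_apply, LinearMap.smulRight_apply,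
          LinearMap.smul_apply, formL_apply, smul_eq_mul, B, hh'.prod, inv_mul_cancel_left₀ hc]
        funext y
        simp only [Finset.sum_apply, Pi.smul_apply, smul_eq_mul, pv, ← Finset.prod_mul_distrib]
        rw [← Fintype.prod_sum (fun k i => f (u k) (E i) * E i (y k))]
        refine Finset.prod_congr rfl fun k _ => ?_
        conv_lhs => rw [hexp (u k)]
        simp
    have h1 := LinearMap.congr_fun this x
    simp only [LinearMap.id_apply, LinearMap.sum_apply, LinearMap.smulRight_apply,
      LinearMap.smul_apply, formL_apply, smul_eq_mul] at h1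
    simpa [div_eq_inv_mul] using h1
  rw [hall]
  exact hsum _ _ _ rfl v hv

lemma at'_mem_sl (l : Fin (s + 1)) (g : GL (Fin (s + 1) → Fin m) F) :
    at' l g ∈ specialLinear (Fin (m ^ s) × Fin m) F ↔ g ∈ specialLinear (Fin (s + 1) → Fin m) F := by
  rw [specialLinear, specialLinear, MonoidHom.mem_ker, MonoidHom.mem_ker, Units.ext_iff,
    Units.ext_iff, GeneralLinearGroup.val_det_apply, GeneralLinearGroup.val_det_apply, Units.val_one]
  have e : Matrix.det g.val = Matrix.det (at' l g).val := by
    conv_lhs => rw [← at'_val l g]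
    show Matrix.det (Matrix.reindex (split l).symm (split l).symm _) = _
    rw [Matrix.det_reindex_self]
  rw [e]

/-- The transvections at the pure isotropic vectors give the special unitary group. -/
theorem iso_inf_sl_le_of_pure (hm : 3 ≤ m) (T : TW σ c H f G)
    (hpure : ∀ u : Fin (s + 2) → Fin m → F, (∀ k, f (u k) (u k) = 0) → pv u ∈ uSet T.pow.hh G) :
    isoOf H ⊓ specialLinear (Fin (s + 2) → Fin m) F ≤ G := by
  obtain ⟨h', -, hU⟩ := exists_split (by omega) T.pow
  set l : Fin (s + 2) := 0
  have P := hU l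
  have hS : ∀ x v, f v v = 0 → pt x v ∈ uSet P.hh (G.map (at' l).toMonoidHom) := by
    intro x v hv
    have h1 := ins_mem_uSet hm T hpure l (x ∘ enc m (s + 1)) hv
    rw [ins, Function.comp_assoc, Equiv.self_comp_symm, Function.comp_id] at h1
    have hz : Hs H l (pt x v) (pt x v) = 0 := by rw [P.prod, hv, mul_zero]
    refine ⟨hz, fun a ha => ⟨_, h1.2 a ha, gl_ext_mulVec fun z => ?_⟩⟩
    rw [MulEquiv.coe_toMonoidHom, uTv_mulVec P.hh hz]
    have h2 := at'_comp l (uTv T.pow.hh (pt x v ∘ split l) a) z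
    rw [uTv_mulVec T.pow.hh h1.1] at h2
    refine (split l).surjective.injective_comp_right ?_
    show _ ∘ _ = _ ∘ _
    rw [← h2]
    rfl
  intro g hg
  have h5 : 5 ≤ m ^ (s + 1) * m := by
    rw [← pow_succ]
    calc 5 ≤ 3 ^ 2 := by norm_num
      _ ≤ m ^ 2 := Nat.pow_le_pow_left hm 2
      _ ≤ m ^ (s + 1 + 1) := Nat.pow_le_pow_right (by omega) (by omega)
  obtain ⟨g', hg', e⟩ := iso_inf_sl_le_of_seed P hm hS h5
    (show at' l g ∈ _ from ⟨at'_mem_iso.2 hg.1, (at'_mem_sl l g).2 hg.2⟩)
  rw [MulEquiv.coe_toMonoidHom] at e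
  rwa [← (at' l).injective e]

end Others

end CfsgLib.ClassicalMax.TWU
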