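/-
Tensor powers: the operators of one slot that carry a matrix towards a product over the slots.
-/
import Cfsg.Agent.Lib.ClassicalMax.TWU.Roots
set_option autoImplicit false
set_option linter.unusedSectionVars false

namespace CfsgLib.ClassicalMax.TWU

open Matrix Kronecker Module Cfsg.Geo
open CfsgLib.ClassicalMax.Kron
open CfsgLib.ClassicalMax.Unit
open CfsgLib.ClassicalMax.TWreath (slot pmat pmat_apply slot_mul_pmat pmat_mul_slot pmat_update_smul
  ext_pmat eq_sum_pmat slot_comm pmat_update_apply)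

variable {F : Type*} [Field F] [DecidableEq F] {m t : ℕ}

local notation "Mx" => Matrix (Fin t → Fin m) (Fin t → Fin m) F

lemma pmat_zero_factor {A : Fin t → Matrix (Fin m) (Fin m) F} {i : Fin t} (h : A i = 0) :
    pmat A = 0 := by
  ext a b
  exact Finset.prod_eq_zero (Finset.mem_univ i) (by simp [h])

lemma pmat_ne_zero {A : Fin t → Matrix (Fin m) (Fin m) F} (h : ∀ i, A i ≠ 0) : pmat A ≠ 0 := by
  have h' : ∀ i, ∃ a b, A i a b ≠ 0 := fun i => by
    by_contra hcon
    push Not at hcon
    exact h i (by ext a b; exact hcon a b)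
  choose a b hab using h'
  intro h0
  exact Finset.prod_ne_zero_iff.2 (fun i _ => hab i) (congrFun (congrFun h0 a) b)

lemma sum_single_diag : ∑ i : Fin m, Matrix.single i i (1 : F) = 1 := by
  ext a b
  rw [Matrix.sum_apply, Matrix.one_apply]
  rcases eq_or_ne a b with rfl | hab
  · rw [Finset.sum_eq_single a (fun i _ hi => Matrix.single_apply_of_ne _ _ _ _ _ (by simp [hi]))
      (by simp), Matrix.single_apply_same, if_pos rfl]
  · rw [if_neg hab, Finset.sum_eq_zero fun i _ => ?_]
    exact Matrix.single_apply_of_ne _ _ _ _ _ fun h => hab (h.1.symm.trans h.2)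

/-- The trace of `Z` times the factor at `k`, the factor being replaced by `1`. -/
def Ps (k : Fin t) (Z : Matrix (Fin m) (Fin m) F) : Mx →ₗ[F] Mx :=
  ∑ p : Fin m, ∑ i : Fin m,
    LinearMap.mulLeft F (slot k (Matrix.single p i (1 : F) * Z)) ∘ₗ
      LinearMap.mulRight F (slot k (Matrix.single i p (1 : F)))

lemma Ps_apply (k : Fin t) (Z : Matrix (Fin m) (Fin m) F) (R : Mx) :
    Ps k Z R = ∑ p : Fin m, ∑ i : Fin m,
      slot k (Matrix.single p i (1 : F) * Z) * (R * slot k (Matrix.single i p (1 : F))) := by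
  simp [Ps, mul_assoc]

lemma Ps_pmat (k : Fin t) (Z : Matrix (Fin m) (Fin m) F) (A : Fin t → Matrix (Fin m) (Fin m) F) :
    Ps k Z (pmat A) = (Z * A k).trace • pmat (Function.update A k 1) := by
  rw [Ps_apply]
  simp only [pmat_mul_slot, slot_mul_pmat, Function.update_self, Function.update_idem, ← mul_assoc]
  have e : ∀ p i, Matrix.single p i (1 : F) * Z * A k * Matrix.single i p (1 : F) =
      (Z * A k) i i • Matrix.single p p (1 : F) := fun p i => by
    rw [mul_assoc _ Z (A k), Matrix.single_mul_mul_single, one_mul, mul_one, Matrix.smul_single,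
      smul_eq_mul, mul_one]
  have e2 : ∀ Y, slot k Y * pmat (Function.update A k 1) = pmat (Function.update A k Y) := fun Y => by
    rw [slot_mul_pmat, Function.update_self, mul_one, Function.update_idem]
  have e3 : ∀ p i, pmat (Function.update A k (Matrix.single p i (1 : F) * Z * A k *
      Matrix.single i p (1 : F))) =
      (Z * A k) i i • (slot k (Matrix.single p p (1 : F)) * pmat (Function.update A k 1)) := fun p i => by
    rw [e, pmat_update_smul, e2]
  simp only [e3]
  simp only [← Finset.sum_smul]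
  rw [← Finset.smul_sum, ← Finset.sum_mul, ← map_sum, sum_single_diag, map_one, one_mul]
  rfl

lemma Ps_add_left (k : Fin t) (Z Z' : Matrix (Fin m) (Fin m) F) (R : Mx) :
    Ps k (Z + Z') R = Ps k Z R + Ps k Z' R := by
  simp [Ps_apply, mul_add, add_mul, Finset.sum_add_distrib]

lemma Ps_smul_left (k : Fin t) (c : F) (Z : Matrix (Fin m) (Fin m) F) (R : Mx) :
    Ps k (c • Z) R = c • Ps k Z R := by
  simp [Ps_apply, Finset.smul_sum]

lemma Ps_comm (k : Fin t) (Z X : Matrix (Fin m) (Fin m) F) (R : Mx) :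
    slot k X * Ps k Z R = Ps k Z R * slot k X := by
  suffices LinearMap.mulLeft F (slot k X) ∘ₗ Ps k Z = LinearMap.mulRight F (slot k X) ∘ₗ Ps k Z from
    LinearMap.congr_fun this R
  refine ext_pmat fun A => ?_
  simp [Ps_pmat, slot_mul_pmat, pmat_mul_slot]

/-- The matrix between two copies of a rank one nilpotent. -/
lemma slot_sandwich (k : Fin t) {N : Matrix (Fin m) (Fin m) F}
    (hN : ∀ X, N * X * N = (N * X).trace • N) (R : Mx) :
    slot k N * R * slot k N = Ps k N R * slot k N := by
  suffices LinearMap.mulRight F (slot k N) ∘ₗ LinearMap.mulLeft F (slot k N) =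
      LinearMap.mulRight F (slot k N) ∘ₗ Ps k N from LinearMap.congr_fun this R
  refine ext_pmat fun A => ?_
  simp [Ps_pmat, slot_mul_pmat, pmat_mul_slot, hN, pmat_update_smul]

/-- A matrix commuting with a slot and killed by a member of it is zero. -/
lemma eq_zero_of_slot (k : Fin t) {Y : Mx} (hY : ∀ X, Commute Y (slot k X))
    {N : Matrix (Fin m) (Fin m) F} (hN : N ≠ 0) (h : slot k N * Y = 0) : Y = 0 := by
  obtain ⟨i, j, hij⟩ : ∃ i j, N i j ≠ 0 := by
    by_contra hcon
    push Not at hcon
    exact hN (by ext i j; exact hcon i j)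
  have hp : ∀ p : Fin m, slot k (Matrix.single p p (1 : F)) * Y = 0 := fun p => by
    have e : Matrix.single p p (1 : F) =
        (N i j)⁻¹ • (Matrix.single p i (1 : F) * N * Matrix.single j p (1 : F)) := by
      rw [Matrix.single_mul_mul_single, one_mul, mul_one, Matrix.smul_single, smul_eq_mul,
        inv_mul_cancel₀ hij]
    rw [e, map_smul, map_mul, map_mul, smul_mul_assoc, mul_assoc, ← (hY _).eq, mul_assoc,
      ← mul_assoc (slot k N), h, zero_mul, mul_zero, smul_zero]
  have h1 := (sum_single_diag (F := F) (m := m)).symm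
  rw [← one_mul Y, ← map_one (slot (F := F) (k := m) k), h1, map_sum, Finset.sum_mul]
  exact Finset.sum_eq_zero fun p _ => hp p

/-- A matrix rebuilt from the traces at a slot. -/
lemma sum_Ps (k : Fin t) (R : Mx) :
    R = ∑ i : Fin m, ∑ j : Fin m,
      slot k (Matrix.single i j (1 : F)) * Ps k (Matrix.single j i 1) R := by
  suffices LinearMap.id = ∑ i : Fin m, ∑ j : Fin m,
      LinearMap.mulLeft F (slot k (Matrix.single i j (1 : F))) ∘ₗ Ps k (Matrix.single j i 1) by
    conv_lhs => rw [show R = LinearMap.id (R := F) R from rfl, this]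
    simp
  refine ext_pmat fun A => ?_
  simp only [LinearMap.id_apply, LinearMap.sum_apply, LinearMap.comp_apply, LinearMap.mulLeft_apply,
    Ps_pmat, mul_smul_comm, slot_mul_pmat, Function.update_self, Function.update_idem, mul_one]
  have e : ∀ i j, (Matrix.single j i (1 : F) * A k).trace = A k i j := fun i j => by
    simp [Matrix.trace_single_mul]
  simp only [e]
  ext a b
  simp only [Matrix.sum_apply, Matrix.smul_apply, smul_eq_mul, pmat_update_apply, ← mul_assoc,
    ← Finset.sum_mul]
  rw [pmat_apply, ← Finset.mul_prod_erase _ _ (Finset.mem_univ k)]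
  congr 1
  conv_lhs => rw [matrix_eq_sum_single (A k)]
  simp [Matrix.sum_apply, Matrix.single]

variable [Fintype F] {σ : F ≃+* F} {f : (Fin m → F) → (Fin m → F) → F}

lemma Nm_trace_mul (hf : IsUnitaryForm σ f) (v : Fin m → F) (X : Matrix (Fin m) (Fin m) F) :
    (Nm hf v * X).trace = f (X *ᵥ v) v := by
  rw [Nm, Matrix.vecMulVec_mul, trace_vecMulVec, dotProduct_comm, ← dotProduct_mulVec,
    Unit.formDual_dot]

lemma Nm_sandwich (hf : IsUnitaryForm σ f) (v : Fin m → F) (X : Matrix (Fin m) (Fin m) F) :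
    Nm hf v * X * Nm hf v = (Nm hf v * X).trace • Nm hf v := by
  refine ext_of_mulVec_single fun i => ?_
  rw [smul_mulVec, Nm_trace_mul, ← mulVec_mulVec, ← mulVec_mulVec, Nm_mulVec, Nm_mulVec,
    mulVec_smul, hf.smul_left, smul_smul, mul_comm]

/-- A matrix killed between all root maps of a slot commutes with the slot. -/
lemma commute_of_sandwich (hf : IsUnitaryForm σ f) (hm : 0 < m) (k : Fin t) {R : Mx}
    (h : ∀ e, f e e = 0 → slot k (Nm hf e) * R * slot k (Nm hf e) = 0) :
    (∀ X, Commute R (slot k X)) ∧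
      R = Ps k (Matrix.single ⟨0, hm⟩ ⟨0, hm⟩ (1 : F)) R := by
  set o : Fin m := ⟨0, hm⟩
  let K : Submodule F (Matrix (Fin m) (Fin m) F) :=
    { carrier := {Z | Ps k Z R = 0}
      add_mem' := fun {Z Z'} h h' => by
        show Ps k (Z + Z') R = 0
        rw [Ps_add_left, h, h', add_zero]
      zero_mem' := by show Ps k 0 R = 0; simp [Ps_apply]
      smul_mem' := fun c Z h => by
        show Ps k (c • Z) R = 0
        rw [Ps_smul_left, h, smul_zero] }
  have hroot : ∀ e, f e e = 0 → Nm hf e ∈ K := fun e he => by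
    rcases eq_or_ne e 0 with rfl | he0
    · rw [show Nm hf (0 : Fin m → F) = 0 by simp [Nm]]; exact K.zero_mem
    have := h e he
    rw [slot_sandwich k (Nm_sandwich hf e), ← Ps_comm k] at this
    exact eq_zero_of_slot k (fun X => (Ps_comm k _ X R).symm) (Nm_ne_zero hf he0) this
  have hz : ∀ Z : Matrix (Fin m) (Fin m) F, Z.trace = 0 → Ps k Z R = 0 := fun Z hZ =>
    iso_span hf K hroot hZ
  have hR : R = Ps k (Matrix.single o o (1 : F)) R := by
    conv_lhs => rw [sum_Ps k R]
    have e : ∀ i, Ps k (Matrix.single i i (1 : F)) R = Ps k (Matrix.single o o (1 : F)) R := fun i => by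
      have h1 : Ps k (Matrix.single i i (1 : F) + (-1 : F) • Matrix.single o o (1 : F)) R = 0 :=
        hz _ (by simp [Matrix.trace_add, Matrix.trace_smul, Matrix.trace_single_eq_same])
      rw [Ps_add_left, Ps_smul_left, neg_one_smul] at h1
      exact eq_of_sub_eq_zero ((sub_eq_add_neg _ _).trans h1)
    rw [Finset.sum_congr rfl fun i _ => Finset.sum_eq_single i (fun j _ hji => by
      rw [hz _ (Matrix.trace_single_eq_of_ne j i (1 : F) hji), mul_zero]) (by simp)]
    simp only [e, ← Finset.sum_mul, ← map_sum]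
    rw [sum_single_diag, map_one, one_mul]
  refine ⟨fun X => ?_, hR⟩
  rw [hR]
  exact (Ps_comm k _ X R).symm

/-- The span of the products with prescribed factors on `D`. -/
def Sd (D : Finset (Fin t)) (T : Fin t → Matrix (Fin m) (Fin m) F) : Submodule F Mx :=
  Submodule.span F {M | ∃ A, (∀ k ∈ D, A k = T k) ∧ M = pmat A}

lemma mem_Sd_empty (T : Fin t → Matrix (Fin m) (Fin m) F) (R : Mx) : R ∈ Sd ∅ T := by
  rw [eq_sum_pmat R]
  exact Submodule.sum_mem _ fun a _ => Submodule.sum_mem _ fun b _ => Submodule.smul_mem _ _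
    (Submodule.subset_span ⟨_, by simp, rfl⟩)

lemma Sd_map {D : Finset (Fin t)} {T : Fin t → Matrix (Fin m) (Fin m) F} (k : Fin t) (hk : k ∉ D)
    (Φ : Mx →ₗ[F] Mx) (X : Matrix (Fin m) (Fin m) F)
    (hΦ : ∀ A, ∃ c : F, Φ (pmat A) = c • pmat (Function.update A k X)) {R : Mx} (hR : R ∈ Sd D T) :
    Φ R ∈ Sd (insert k D) (Function.update T k X) := by
  have hle : Sd D T ≤ (Sd (insert k D) (Function.update T k X)).comap Φ := by
    refine Submodule.span_le.2 ?_
    rintro _ ⟨A, hA, rfl⟩
    obtain ⟨c, hc⟩ := hΦ A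
    show Φ (pmat A) ∈ Sd _ _
    rw [hc]
    refine Submodule.smul_mem _ _ (Submodule.subset_span ⟨_, fun j hj => ?_, rfl⟩)
    rcases Finset.mem_insert.1 hj with rfl | hj
    · simp
    · have : j ≠ k := fun e => hk (e ▸ hj)
      simp [Function.update_of_ne this, hA j hj]
  exact hle hR

lemma mem_Sd_univ {T : Fin t → Matrix (Fin m) (Fin m) F} {R : Mx} (hR : R ∈ Sd Finset.univ T) :
    ∃ c : F, R = c • pmat T := by
  have hle : Sd Finset.univ T ≤ Submodule.span F {pmat T} := by
    refine Submodule.span_le.2 ?_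
    rintro _ ⟨A, hA, rfl⟩
    rw [show A = T from funext fun k => hA k (Finset.mem_univ k)]
    exact Submodule.mem_span_singleton_self _
  obtain ⟨c, hc⟩ := Submodule.mem_span_singleton.1 (hle hR)
  exact ⟨c, hc.symm⟩

end CfsgLib.ClassicalMax.TWU
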