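/-
Tensor powers of a unitary form: a root map of a slot that is not a scalar gives transvections at
the pure isotropic vectors.
-/
import Cfsg.Agent.Lib.ClassicalMax.TWU.Blocks
import Cfsg.Agent.Lib.ClassicalMax.TWU.Pure
import Cfsg.Agent.Lib.ClassicalMax.TensorUnitFill
set_option autoImplicit false
set_option linter.unusedSectionVars false

namespace CfsgLib.ClassicalMax.TWU

open Matrix Kronecker Module Cfsg.Geo
open CfsgLib.ClassicalMax.Kron
open CfsgLib.ClassicalMax.Unit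
open CfsgLib.ClassicalMax.TensorUnit (eich eich_mem_isoOf eich_mem_sl exists_partner exists_value_hyp
  exists_move exists_anisotropic)
open CfsgLib.ClassicalMax.TWreath (slot slot_comm pmat pmat_apply slot_mul_pmat pmat_mul_slot pmat_mul
  pmat_update_smul permMat_mul_pmat permGL)

local notation:80 g:81 " •ᵥ " z:80 => Matrix.mulVec (Units.val g) z

variable {F : Type*} [Field F] [DecidableEq F] [Fintype F] {m s : ℕ} {σ : F ≃+* F} {c : F}
  {f : (Fin m → F) → (Fin m → F) → F}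

/-- The root parameters of `G` at the slot `l` and the isotropic vector `v`. -/
def Xs (hf : IsUnitaryForm σ f) (G : Subgroup (GL (Fin (s + 1) → Fin m) F)) (l : Fin (s + 1))
    (v : Fin m → F) : Set (Matrix (Fin (s + 1) → Fin m) (Fin (s + 1) → Fin m) F) :=
  {Y | (∀ X, Commute Y (slot l X)) ∧ ∃ g ∈ G, g.val = 1 + Y * slot l (Nm hf v)}

section Closure

variable {G : Subgroup (GL (Fin (s + 1) → Fin m) F)} (hf : IsUnitaryForm σ f) {l : Fin (s + 1)}
  {v : Fin m → F} (hv : f v v = 0)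
  {Y Y' : Matrix (Fin (s + 1) → Fin m) (Fin (s + 1) → Fin m) F}
include hv

lemma Xs_prod (hY' : ∀ X, Commute Y' (slot l X)) :
    Y * slot l (Nm hf v) * (Y' * slot l (Nm hf v)) = 0 := by
  rw [mul_assoc Y, ← mul_assoc (slot l (Nm hf v)), ← (hY' _).eq, mul_assoc, ← map_mul, Nm_sq hf hv,
    map_zero, mul_zero, mul_zero]

lemma Xs_add (hY : Y ∈ Xs hf G l v) (hY' : Y' ∈ Xs hf G l v) : Y + Y' ∈ Xs hf G l v := by
  obtain ⟨hc, g, hg, hge⟩ := hY
  obtain ⟨hc', g', hg', hge'⟩ := hY'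
  refine ⟨fun X => (hc X).add_left (hc' X), g * g', G.mul_mem hg hg', ?_⟩
  rw [Units.val_mul, hge, hge', add_mul, one_mul, mul_add, mul_one, Xs_prod hf hv hc', add_mul]
  abel

lemma Xs_neg (hY : Y ∈ Xs hf G l v) : -Y ∈ Xs hf G l v := by
  obtain ⟨hc, g, hg, hge⟩ := hY
  refine ⟨fun X => (hc X).neg_left, g⁻¹, G.inv_mem hg, Units.inv_eq_of_mul_eq_one_right ?_⟩
  rw [hge, neg_mul, mul_add, mul_one, add_mul, one_mul, mul_neg, Xs_prod hf hv hc, neg_zero]
  abel

lemma Xs_sub (hY : Y ∈ Xs hf G l v) (hY' : Y' ∈ Xs hf G l v) : Y - Y' ∈ Xs hf G l v := by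
  rw [sub_eq_add_neg]
  exact Xs_add hf hv hY (Xs_neg hf hv hY')

omit hv in
lemma Xs_conj {h : GL (Fin (s + 1) → Fin m) F} (hh : h ∈ G) (hc : ∀ X, Commute h.val (slot l X))
    (hY : Y ∈ Xs hf G l v) : Cj h Y ∈ Xs hf G l v := by
  obtain ⟨hcY, g, hg, hge⟩ := hY
  have hi : ∀ X, Commute (h⁻¹ : GL (Fin (s + 1) → Fin m) F).val (slot l X) :=
    fun X => (hc X).units_inv_left
  refine ⟨fun X => by rw [Cj_apply]; exact ((hc X).mul_left (hcY X)).mul_left (hi X),
    h * g * h⁻¹, G.mul_mem (G.mul_mem hh hg) (G.inv_mem hh), ?_⟩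
  rw [Units.val_mul, Units.val_mul, hge, mul_add, mul_one, add_mul, Units.mul_inv, Cj_apply,
    mul_assoc _ (h⁻¹ : GL (Fin (s + 1) → Fin m) F).val, (hi _).eq]
  simp only [mul_assoc]

end Closure

variable {G : Subgroup (GL (Fin (s + 2) → Fin m) F)}
  {H : ((Fin (s + 2) → Fin m) → F) → ((Fin (s + 2) → Fin m) → F) → F}

/-- A root parameter between two copies of a root map of another slot. -/
theorem Xs_sandwich (hm : 3 ≤ m) (T : TW σ c H f G) {l k : Fin (s + 2)} (hkl : k ≠ l)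
    {v : Fin m → F} (hv : f v v = 0) {Y : Matrix (Fin (s + 2) → Fin m) (Fin (s + 2) → Fin m) F}
    (hY : Y ∈ Xs T.pow.hf G l v) {e : Fin m → F} (he0 : e ≠ 0) (he : f e e = 0) :
    ∃ κ : F, κ ≠ 0 ∧
      κ • (slot k (Nm T.pow.hf e) * Y * slot k (Nm T.pow.hf e)) ∈ Xs T.pow.hf G l v := by
  have hf := T.pow.hf
  obtain ⟨p, hp, hep, -⟩ := exists_partner hf he0 he
  obtain ⟨w, hwe, -, hww⟩ := exists_value_hyp hf (by rw [Fintype.card_fin]; exact hm) he hp hep
    (s := 1) (map_one σ)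
  obtain ⟨ω, hω⟩ : ∃ ω, σ ω ≠ ω := by
    by_contra h
    push Not at h
    exact hf.ne_refl (RingEquiv.ext h)
  have hw2 : f e (ω • w) = 0 := by rw [smul_right hf, eq_zero_comm hf hwe, mul_zero]
  obtain ⟨c₁, hc₁⟩ := SW_exists hf (eq_zero_comm hf hwe)
  obtain ⟨c₂, hc₂⟩ := SW_exists hf hw2
  obtain ⟨τ, hτ0, hτ⟩ := exists_trace_zero hf.ne_refl hf.involutive
  have hC : ∀ {w a}, SW σ f e w a → ∀ {Z}, Z ∈ Xs hf G l v →
      Cj (nu hf k e w a) Z - Z ∈ Xs hf G l v := fun {w a} h {Z} hZ => by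
    refine Xs_sub hf hv (Xs_conj hf (T.mem k _ ⟨eich_mem_isoOf hf he h.1 h.2, eich_mem_sl _ _ _ _⟩)
      (fun X => ?_) hZ) hZ
    rw [nu, sG_val]
    exact slot_comm hkl _ _
  have hG₀ := hC (SW_zero hf hτ) hY
  have hG₁ := hC hc₂ hG₀
  have hG₂ := hC hc₁ hG₁
  obtain ⟨hi₁, hi₁'⟩ := nu_inv hf k he hc₁
  obtain ⟨hi₂, hi₂'⟩ := nu_inv hf k he hc₂
  rw [Cj_apply (nu hf k e w c₁), hi₁, nu_val, nu_val,
    siegel_pair (D₁ := slot k (Dm hf e w c₁)) (D₁' := slot k (Dm hf e (-w) (σ c₁)))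
      (D₂ := slot k (Dm hf e (ω • w) c₂)) (D₂' := slot k (Dm hf e (-(ω • w)) (σ c₂)))
      (N := slot k (Nm hf e))
      (by rw [← map_mul, Dm_mul_Nm hf he hc₂.1, map_zero])
      (by rw [← map_mul, Dm_mul_Nm hf he hi₂'.1, map_zero])
      (by rw [← map_mul, Nm_mul_Dm hf he hi₂'.1, map_zero])
      (by rw [← map_mul, Dm_mul_Nm hf he hc₁.1, map_zero])
      (by rw [← map_mul, Nm_mul_Dm hf he hi₁'.1, map_zero])
      (α := - f (ω • w) w) (α' := - f w (ω • w))
      (by rw [← map_mul, Dm_mul_Dm hf he hc₁.1 hc₂.1, map_smul])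
      (by rw [← map_mul, Dm_mul_Dm hf he hi₂'.1 hi₁'.1, map_smul, neg_form_neg hf])
      τ Y (G₀ := Cj (nu hf k e 0 τ) Y - Y) (by rw [Cj_root hf k he hτ]; abel)
      (by rw [Cj_apply (nu hf k e (ω • w) c₂), hi₂, nu_val, nu_val])] at hG₂
  refine ⟨_, mul_ne_zero hτ0 ?_, hG₂⟩
  rw [smul_right hf, hf.smul_left, hww, mul_one, mul_one, neg_sub_neg]
  exact sub_ne_zero.2 (Ne.symm hω)

lemma eq_Ps_of_commute {t : ℕ} {k : Fin t} (hm : 0 < m)
    {R : Matrix (Fin t → Fin m) (Fin t → Fin m) F} (h : ∀ X, Commute R (slot k X)) :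
    R = Ps k (Matrix.single ⟨0, hm⟩ ⟨0, hm⟩ (1 : F)) R := by
  set o : Fin m := ⟨0, hm⟩
  rw [Ps_apply]
  simp only [(h _).eq]
  simp only [← mul_assoc, ← map_mul, ← Finset.sum_mul, ← map_sum]
  have e : ∀ p i : Fin m, Matrix.single p i (1 : F) * Matrix.single o o (1 : F) * Matrix.single i p (1 : F) =
      if i = o then Matrix.single p p (1 : F) else 0 := fun p i => by
    rcases eq_or_ne i o with rfl | hi
    · simp
    · simp [hi]
  simp only [e, Finset.sum_ite_eq', Finset.mem_univ, if_true, sum_single_diag, map_one, one_mul]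

/-- A root parameter gives one that is a product over the slots. -/
theorem reduce (hm : 3 ≤ m) (T : TW σ c H f G) {l : Fin (s + 2)} {v : Fin m → F} (hv : f v v = 0)
    {R : Matrix (Fin (s + 2) → Fin m) (Fin (s + 2) → Fin m) F} (hR : R ∈ Xs T.pow.hf G l v)
    (hR0 : R ≠ 0) (A : Finset (Fin (s + 2))) (hA : ∀ k ∈ A, k ≠ l ∧ ∃ N, N ≠ 0 ∧ slot k N * R = 0) :
    ∃ (B : Fin (s + 2) → Matrix (Fin m) (Fin m) F) (d : F), d ≠ 0 ∧ d • pmat B ∈ Xs T.pow.hf G l v ∧
      B l = 1 ∧ (∀ k, B k = 1 ∨ ∃ e, e ≠ 0 ∧ f e e = 0 ∧ B k = Nm T.pow.hf e) ∧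
      (∀ k ∈ A, B k ≠ 1) ∧ ((∀ k, B k = 1) → ∃ d' : F, R = d' • 1) := by
  classical
  have hf := T.pow.hf
  haveI : Nonempty (Fin m) := ⟨⟨0, by omega⟩⟩
  suffices key : ∀ D : Finset (Fin (s + 2)), ∃ (B : Fin (s + 2) → Matrix (Fin m) (Fin m) F)
      (Y : Matrix (Fin (s + 2) → Fin m) (Fin (s + 2) → Fin m) F), Y ≠ 0 ∧ Y ∈ Xs hf G l v ∧
      B l = 1 ∧ (∀ k, k ∉ D → B k = 1) ∧
      (∀ k, B k = 1 ∨ ∃ e, e ≠ 0 ∧ f e e = 0 ∧ B k = Nm hf e) ∧
      (∀ k ∈ A, k ∈ D → B k ≠ 1) ∧ (∀ k ∈ A, k ∉ D → ∃ N, N ≠ 0 ∧ slot k N * Y = 0) ∧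
      Y ∈ Sd (insert l D) B ∧ ((∀ k, B k = 1) → Y = R) by
    obtain ⟨B, Y, hY0, hY, hBl, -, hB, hAB, -, hS, hall⟩ := key Finset.univ
    rw [show insert l (Finset.univ : Finset (Fin (s + 2))) = Finset.univ by simp] at hS
    obtain ⟨d, hd⟩ := mem_Sd_univ hS
    refine ⟨B, d, fun e => hY0 (by rw [hd, e, zero_smul]), hd ▸ hY, hBl, hB,
      fun k hk => hAB k hk (Finset.mem_univ k), fun h1 => ⟨d, ?_⟩⟩
    rw [← hall h1, hd, show B = 1 from funext h1, TWreath.pmat_one]
  intro D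
  induction D using Finset.induction_on with
  | empty =>
    refine ⟨1, R, hR0, hR, rfl, fun k _ => rfl, fun k => Or.inl rfl,
      fun k _ hk => absurd hk (Finset.notMem_empty k), fun k hk _ => (hA k hk).2, ?_, fun _ => rfl⟩
    have h1 := Sd_map l (Finset.notMem_empty l)
      (Ps l (Matrix.single ⟨0, by omega⟩ ⟨0, by omega⟩ (1 : F))) 1
      (fun A => ⟨_, Ps_pmat l _ A⟩) (mem_Sd_empty (1 : Fin (s + 2) → Matrix (Fin m) (Fin m) F) R)
    rw [← eq_Ps_of_commute (by omega) hR.1,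
      show Function.update (1 : Fin (s + 2) → Matrix (Fin m) (Fin m) F) l 1 = 1 from
        Function.update_eq_self l 1] at h1
    simpa using h1
  | @insert k D hk ih =>
    obtain ⟨B, Y, hY0, hY, hBl, hBD, hB, hAB, hAnn, hS, hall⟩ := ih
    rcases eq_or_ne k l with rfl | hkl
    · refine ⟨B, Y, hY0, hY, hBl, fun j hj => hBD j fun h => hj (Finset.mem_insert_of_mem h), hB,
        fun j hj hjD => hAB j hj ((Finset.mem_insert.1 hjD).resolve_left (hA j hj).1),
        fun j hj hjD => hAnn j hj fun h => hjD (Finset.mem_insert_of_mem h), ?_, hall⟩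
      rw [Finset.insert_eq_of_mem (Finset.mem_insert_self _ _)]
      exact hS
    have hkD : k ∉ insert l D := by simp [hkl, hk]
    have hBk : B k = 1 := hBD k hk
    by_cases hsand : ∀ e, f e e = 0 → slot k (Nm hf e) * Y * slot k (Nm hf e) = 0
    · obtain ⟨hcom, hYP⟩ := commute_of_sandwich hf (by omega) k hsand
      refine ⟨B, Y, hY0, hY, hBl, fun j hj => hBD j fun h => hj (Finset.mem_insert_of_mem h), hB,
        fun j hj hjD => ?_, fun j hj hjD => hAnn j hj fun h => hjD (Finset.mem_insert_of_mem h), ?_,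
        hall⟩
      · rcases Finset.mem_insert.1 hjD with rfl | h
        · obtain ⟨N, hN0, hN⟩ := hAnn j hj hk
          exact absurd (eq_zero_of_slot j hcom hN0 hN) hY0
        · exact hAB j hj h
      · have h1 := Sd_map k hkD (Ps k (Matrix.single ⟨0, by omega⟩ ⟨0, by omega⟩ (1 : F))) 1
          (fun A => ⟨_, Ps_pmat k _ A⟩) hS
        rw [← hYP, Finset.insert_comm, show Function.update B k 1 = B by
          rw [← hBk]; exact Function.update_eq_self k B] at h1
        exact h1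
    · push Not at hsand
      obtain ⟨e, he, hne⟩ := hsand
      have he0 : e ≠ 0 := fun e0 => hne (by simp [e0, Nm])
      obtain ⟨κ, hκ, hY'⟩ := Xs_sandwich hm T hkl hv hY he0 he
      refine ⟨Function.update B k (Nm hf e), _, smul_ne_zero hκ hne, hY', ?_, fun j hj => ?_,
        fun j => ?_, fun j hj hjD => ?_, fun j hj hjD => ?_, ?_, fun h1 => ?_⟩
      · rw [Function.update_of_ne (Ne.symm hkl), hBl]
      · rw [Finset.mem_insert, not_or] at hj
        rw [Function.update_of_ne hj.1, hBD j hj.2]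
      · rcases eq_or_ne j k with rfl | hjk
        · exact Or.inr ⟨e, he0, he, Function.update_self _ _ _⟩
        · rw [Function.update_of_ne hjk]; exact hB j
      · rcases eq_or_ne j k with rfl | hjk
        · rw [Function.update_self]
          intro h1
          have h2 := Nm_sq hf he
          rw [h1, one_mul] at h2
          exact one_ne_zero h2
        · rw [Function.update_of_ne hjk]
          exact hAB j hj ((Finset.mem_insert.1 hjD).resolve_left hjk)
      · rw [Finset.mem_insert, not_or] at hjD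
        obtain ⟨N, hN0, hN⟩ := hAnn j hj hjD.2
        refine ⟨N, hN0, ?_⟩
        rw [mul_smul_comm, ← mul_assoc, ← mul_assoc, slot_comm hjD.1, mul_assoc (slot k _), hN,
          mul_zero, zero_mul, smul_zero]
      · have h1 := Sd_map k hkD
          (κ • (LinearMap.mulRight F (slot k (Nm hf e)) ∘ₗ LinearMap.mulLeft F (slot k (Nm hf e))))
          (Nm hf e) (fun A => ⟨κ * (Nm hf e * A k).trace, by
            simp [slot_mul_pmat, pmat_mul_slot, Nm_sandwich, pmat_update_smul, smul_smul]⟩) hS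
        rw [Finset.insert_comm]
        simpa using h1
      · exfalso
        have h2 := h1 k
        rw [Function.update_self] at h2
        have h3 := Nm_sq hf he
        rw [h2, one_mul] at h3
        exact one_ne_zero h3

/-- The product of root maps at the slots of `S`. -/
def Pm (hf : IsUnitaryForm σ f) {t : ℕ} (S : Finset (Fin t)) (u : Fin t → Fin m → F) :
    Matrix (Fin t → Fin m) (Fin t → Fin m) F :=
  pmat fun k => if k ∈ S then Nm hf (u k) else 1

/-- All root elements of the slots in `S` lie in the group. -/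
def Rt (hf : IsUnitaryForm σ f) (G : Subgroup (GL (Fin (s + 2) → Fin m) F))
    (S : Finset (Fin (s + 2))) : Prop :=
  ∀ u, (∀ k ∈ S, f (u k) (u k) = 0) → ∀ d, σ d = -d → ∃ g ∈ G, g.val = 1 + d • Pm hf S u

lemma Nm_conj (hf : IsUnitaryForm σ f) {B : GL (Fin m) F} (hB : B ∈ isoOf f) (u : Fin m → F) :
    B.val * Nm hf u * (B⁻¹ : GL (Fin m) F).val = Nm hf (B •ᵥ u) := by
  refine ext_of_mulVec_single fun i => ?_
  rw [← mulVec_mulVec, ← mulVec_mulVec, Nm_mulVec, Nm_mulVec, mulVec_smul]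
  congr 1
  have := mem_isoOf.1 hB (B⁻¹ •ᵥ Pi.single i 1) u
  rw [gl_mulVec_inv_mulVec] at this
  exact this.symm

lemma Nm_smul (hf : IsUnitaryForm σ f) (a : F) (u : Fin m → F) :
    Nm hf (a • u) = (a * σ a) • Nm hf u := by
  refine ext_of_mulVec_single fun i => ?_
  rw [smul_mulVec, Nm_mulVec, Nm_mulVec, smul_right hf, smul_smul, smul_smul]
  congr 1
  ring

/-- Root elements at one family of vectors give all of them. -/
theorem Rt_of_one (hm : 3 ≤ m) (T : TW σ c H f G) {S : Finset (Fin (s + 2))} (hS : S.Nonempty)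
    {u₀ : Fin (s + 2) → Fin m → F} (hu₀ : ∀ k ∈ S, u₀ k ≠ 0 ∧ f (u₀ k) (u₀ k) = 0) {d₀ : F}
    (hd₀ : d₀ ≠ 0) {g₀ : GL (Fin (s + 2) → Fin m) F} (hg₀ : g₀ ∈ G)
    (he₀ : g₀.val = 1 + d₀ • Pm T.pow.hf S u₀) : Rt T.pow.hf G S := by
  classical
  have hf := T.pow.hf
  have hσd : σ d₀ = -d₀ := by
    haveI : Nonempty (Fin m) := ⟨⟨0, by omega⟩⟩
    obtain ⟨e, he⟩ := exists_anisotropic hf
    have hp : ∀ k, ∃ p, if k ∈ S then f p p = 0 ∧ f p (u₀ k) = 1 else p = e := fun k => by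
      by_cases hk : k ∈ S
      · obtain ⟨p, hp, -, hpu⟩ := exists_partner hf (hu₀ k hk).1 (hu₀ k hk).2
        exact ⟨p, by rw [if_pos hk]; exact ⟨hp, hpu⟩⟩
      · exact ⟨e, by rw [if_neg hk]⟩
    choose w hw using hp
    set y : Fin (s + 2) → Fin m → F := fun k => if k ∈ S then u₀ k else e
    have hgw : g₀ •ᵥ pv w = pv w + d₀ • pv y := by
      rw [he₀, add_mulVec, one_mulVec, smul_mulVec]
      congr 2
      show pmat _ *ᵥ TWreath.pvec w = TWreath.pvec y
      rw [TWreath.pmat_mulVec_pvec]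
      congr 1
      funext k
      have := hw k
      by_cases hk : k ∈ S
      · rw [if_pos hk] at this
        simp only [y, if_pos hk, Nm_mulVec, this.2, one_smul]
      · rw [if_neg hk] at this
        simp only [y, if_neg hk, one_mulVec, this]
    have hyy : H (pv y) (pv y) = 0 := by
      obtain ⟨k, hk⟩ := hS
      rw [T.pow.prod, Finset.prod_eq_zero (Finset.mem_univ k), mul_zero]
      simp [y, hk, (hu₀ k hk).2]
    set P := H (pv y) (pv w) with hP
    have hterm : ∀ k, f (y k) (w k) = if k ∈ S then 1 else f e e := fun k => by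
      have := hw k
      by_cases hk : k ∈ S
      · rw [if_pos hk] at this ⊢
        simp only [y, if_pos hk]
        rw [hf.herm, this.2, map_one]
      · rw [if_neg hk] at this ⊢
        simp only [y, if_neg hk, this]
    have hP0 : P ≠ 0 ∧ σ P = P := by
      rw [hP, T.pow.prod]
      simp only [hterm]
      refine ⟨mul_ne_zero T.pow.c_ne (Finset.prod_ne_zero_iff.2 fun k _ => ?_), ?_⟩
      · split_ifs
        · exact one_ne_zero
        · exact he
      · rw [map_mul, T.pow.c_fixed (by omega), map_prod]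
        congr 1
        exact Finset.prod_congr rfl fun k _ => by split_ifs <;> simp [self_fixed hf]
    have h1 := mem_isoOf.1 (T.le hg₀) (pv w) (pv w)
    rw [hgw, T.pow.hh.add_left, add_right T.pow.hh, add_right T.pow.hh, T.pow.hh.smul_left,
      T.pow.hh.smul_left, smul_right T.pow.hh, smul_right T.pow.hh, hyy,
      T.pow.hh.herm (pv w) (pv y), ← hP, hP0.2] at h1
    have h2 : (d₀ + σ d₀) * P = 0 := by linear_combination h1
    exact eq_neg_of_add_eq_zero_right ((mul_eq_zero.1 h2).resolve_right hP0.1)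
  -- moving one vector
  have hstep : ∀ {u : Fin (s + 2) → Fin m → F} {d : F}, (∃ g ∈ G, g.val = 1 + d • Pm hf S u) →
      ∀ k ∈ S, ∀ B ∈ isoOf f ⊓ specialLinear (Fin m) F, ∀ (a : F) (x : Fin m → F),
        B •ᵥ u k = a • x →
          ∃ g ∈ G, g.val = 1 + (d * (a * σ a)) • Pm hf S (Function.update u k x) := by
    rintro u d ⟨g, hg, hge⟩ k hk B hB a x hBx
    refine ⟨sG k B * g * (sG k B)⁻¹, G.mul_mem (G.mul_mem (T.mem k B hB) hg) (G.inv_mem (T.mem k B hB)), ?_⟩
    rw [Units.val_mul, Units.val_mul, hge, mul_add, mul_one, add_mul, Units.mul_inv,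
      mul_smul_comm, smul_mul_assoc, ← map_inv, sG_val, sG_val, Pm, Pm, slot_mul_pmat, pmat_mul_slot,
      Function.update_self, Function.update_idem, if_pos hk, Nm_conj hf hB.1, hBx, Nm_smul,
      pmat_update_smul, smul_smul]
    congr 3
    funext j
    rcases eq_or_ne j k with rfl | hj
    · simp [hk]
    · simp [Function.update_of_ne hj]
  intro u hu d hd
  by_cases hz : ∃ k ∈ S, u k = 0
  · obtain ⟨k, hk, hk0⟩ := hz
    refine ⟨1, G.one_mem, ?_⟩
    rw [Units.val_one, Pm, pmat_zero_factor (i := k) (by simp [hk, hk0, Nm]), smul_zero, add_zero]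
  push Not at hz
  have key : ∀ J : Finset (Fin (s + 2)), J ⊆ S → ∃ d', d' ≠ 0 ∧ σ d' = -d' ∧
      ∃ g ∈ G, g.val = 1 + d' • Pm hf S (J.piecewise u u₀) := by
    intro J
    induction J using Finset.induction_on with
    | empty => intro _; exact ⟨d₀, hd₀, hσd, g₀, hg₀, by simpa using he₀⟩
    | @insert k J hk ih =>
      intro hJ
      have hkS : k ∈ S := hJ (Finset.mem_insert_self k J)
      obtain ⟨d', hd'0, hd', hg'⟩ := ih fun j hj => hJ (Finset.mem_insert_of_mem hj)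
      obtain ⟨B, hB, μ, hμ, hBu⟩ := exists_move hf (hu₀ k hkS).1 (hu₀ k hkS).2 (hz k hkS) (hu k hkS)
      have hμσ : σ μ ≠ 0 := fun e => hμ (by simpa using congrArg σ.symm e)
      refine ⟨d' * (μ * σ μ), mul_ne_zero hd'0 (mul_ne_zero hμ hμσ), by
        rw [map_mul, hd', map_mul, hf.involutive]; ring, ?_⟩
      rw [Finset.piecewise_insert]
      exact hstep hg' k hkS B hB μ (u k) (by rwa [Finset.piecewise_eq_of_notMem _ _ _ hk])
  obtain ⟨d', hd'0, hd', hg'⟩ := key S subset_rfl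
  rcases eq_or_ne d 0 with rfl | hd0
  · exact ⟨1, G.one_mem, by rw [Units.val_one, zero_smul, add_zero]⟩
  obtain ⟨a, ha⟩ := exists_norm_eq hf.ne_refl hf.involutive (s := d / d')
    (by rw [map_div₀, hd, hd', neg_div_neg_eq])
  have ha0 : a ≠ 0 := fun e => div_ne_zero hd0 hd'0 (by rw [← ha, e, zero_mul])
  obtain ⟨k, hk⟩ := hS
  obtain ⟨B, hB, hBu⟩ := exists_scale hf (by rw [Fintype.card_fin]; exact hm) (hz k hk) (hu k hk) ha0
  obtain ⟨g, hg, hge⟩ := hstep hg' k hk B hB a (u k) (by rwa [Finset.piecewise_eq_of_mem _ _ _ hk])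
  refine ⟨g, hg, ?_⟩
  rw [hge, ha, mul_div_cancel₀ _ hd'0]
  congr 2
  simp only [Pm]
  congr 1
  funext j
  by_cases hj : j ∈ S
  · rcases eq_or_ne j k with rfl | hjk
    · simp [hj]
    · simp [hj, Function.update_of_ne hjk, Finset.piecewise_eq_of_mem]
  · simp [hj]

/-- The product found by `reduce` gives root elements on its support. -/
theorem Rt_of_reduce (hm : 3 ≤ m) (T : TW σ c H f G) {l : Fin (s + 2)} {v : Fin m → F} (hv0 : v ≠ 0)
    (hv : f v v = 0) {B : Fin (s + 2) → Matrix (Fin m) (Fin m) F} {d : F} (hd : d ≠ 0)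
    (hBX : d • pmat B ∈ Xs T.pow.hf G l v) (hBl : B l = 1)
    (hB : ∀ k, B k = 1 ∨ ∃ e, e ≠ 0 ∧ f e e = 0 ∧ B k = Nm T.pow.hf e) :
    Rt T.pow.hf G (insert l (Finset.univ.filter fun k => B k ≠ 1)) := by
  classical
  have hf := T.pow.hf
  obtain ⟨-, g, hg, hge⟩ := hBX
  have hu : ∀ k, ∃ e, k = l ∧ e = v ∨ k ≠ l ∧ (B k = 1 ∨ e ≠ 0 ∧ f e e = 0 ∧ B k = Nm hf e) :=
    fun k => by
      rcases eq_or_ne k l with h | h
      · exact ⟨v, Or.inl ⟨h, rfl⟩⟩
      · rcases hB k with h1 | ⟨e, he⟩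
        · exact ⟨0, Or.inr ⟨h, Or.inl h1⟩⟩
        · exact ⟨e, Or.inr ⟨h, Or.inr he⟩⟩
  choose u hu using hu
  refine Rt_of_one hm T (Finset.insert_nonempty _ _) (u₀ := u) (fun k hk => ?_) hd hg ?_
  · rcases hu k with ⟨-, e⟩ | ⟨hkl, h1 | ⟨h0, he, -⟩⟩
    · rw [e]; exact ⟨hv0, hv⟩
    · simp [hkl, h1] at hk
    · exact ⟨h0, he⟩
  rw [hge, smul_mul_assoc, pmat_mul_slot, Pm]
  congr 3
  funext k
  rcases hu k with ⟨rfl, e⟩ | ⟨hkl, h1 | ⟨h0, he, h2⟩⟩
  · simp [hBl, e]
  · simp [Function.update_of_ne hkl, hkl, h1]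
  · have hne : B k ≠ 1 := fun h1 => by
      have h3 := Nm_sq hf he
      rw [← h2, h1, one_mul] at h3
      haveI : Nonempty (Fin m) := ⟨⟨0, by omega⟩⟩
      exact one_ne_zero h3
    simp [Function.update_of_ne hkl, hne]
    exact h2

/-- A non-scalar root map gives root elements on two slots. -/
theorem exists_Rt (hm : 3 ≤ m) (T : TW σ c H f G) (hS : ¬ OS T.pow.hf G) :
    ∃ S : Finset (Fin (s + 2)), 2 ≤ S.card ∧ Rt T.pow.hf G S := by
  classical
  have hf := T.pow.hf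
  simp only [OS, not_forall, not_exists] at hS
  obtain ⟨l, v, hv0, hv, g, hg, Y, hY, hge, hns⟩ := hS
  have hY0 : Y ≠ 0 := fun e => hns 0 (by rw [e, zero_mul, zero_smul])
  obtain ⟨B, d, hd, hBX, hBl, hB, -, hall⟩ :=
    reduce hm T hv (R := Y) ⟨hY, g, hg, hge⟩ hY0 ∅ (by simp)
  refine ⟨_, ?_, Rt_of_reduce hm T hv0 hv hd hBX hBl hB⟩
  obtain ⟨k, hk⟩ : ∃ k, B k ≠ 1 := by
    by_contra hcon
    push Not at hcon
    obtain ⟨d', hd'⟩ := hall hcon
    exact hns d' (by rw [hd', smul_mul_assoc, one_mul])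
  have hkl : k ≠ l := fun e => hk (e ▸ hBl)
  rw [Finset.card_insert_of_notMem (by simp [hBl])]
  have : 0 < (Finset.univ.filter fun k => B k ≠ 1).card := Finset.card_pos.2 ⟨k, by simp [hk]⟩
  omega

/-- Root elements on more slots. -/
theorem Rt_grow (hm : 3 ≤ m) (T : TW σ c H f G)
    (hperm : ∀ π : Equiv.Perm (Fin (s + 2)), permGL (F := F) (k := m) (π * π) ∈ G)
    {S : Finset (Fin (s + 2))} (hS2 : 2 ≤ S.card) (hSu : S ≠ Finset.univ) (hS : Rt T.pow.hf G S) :
    ∃ S' : Finset (Fin (s + 2)), S.card < S'.card ∧ Rt T.pow.hf G S' := by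
  classical
  have hf := T.pow.hf
  haveI : Nonempty (Fin m) := ⟨⟨0, by omega⟩⟩
  obtain ⟨x, hx, r, hr, hxr⟩ := Finset.one_lt_card.1 hS2
  obtain ⟨q, hq⟩ : ∃ q, q ∉ S := by
    by_contra hcon
    push Not at hcon
    exact hSu (Finset.eq_univ_iff_forall.2 hcon)
  have hxq : x ≠ q := fun e => hq (e ▸ hx)
  have hrq : r ≠ q := fun e => hq (e ▸ hr)
  set π : Equiv.Perm (Fin (s + 2)) := Equiv.swap x q * Equiv.swap x r with hπ
  set S₁ := insert q (S.erase x) with hS₁
  have hπS : ∀ j, π j ∈ S₁ ↔ j ∈ S := fun j => by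
    have hπj : π j = Equiv.swap x q (Equiv.swap x r j) := rfl
    rcases eq_or_ne j x with rfl | hjx
    · rw [hπj, Equiv.swap_apply_left, Equiv.swap_apply_of_ne_of_ne hxr.symm hrq]
      simp [hS₁, hx, hr, hxr.symm]
    rcases eq_or_ne j r with rfl | hjr
    · rw [hπj, Equiv.swap_apply_right, Equiv.swap_apply_left]
      simp [hS₁, hr]
    rw [hπj, Equiv.swap_apply_of_ne_of_ne hjx hjr]
    rcases eq_or_ne j q with rfl | hjq
    · rw [Equiv.swap_apply_right]
      simp [hS₁, hq, hxq]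
    · rw [Equiv.swap_apply_of_ne_of_ne hjx hjq]
      simp [hS₁, hjx, hjq]
  have hπG : permGL (F := F) (k := m) π ∈ G := by
    have h3 : π ^ 3 = 1 := by
      have h := (Equiv.Perm.isThreeCycle_swap_mul_swap_same hxq hxr hrq.symm).orderOf
      rw [← hπ] at h
      rw [← h]
      exact pow_orderOf_eq_one π
    have e : π = π * π * (π * π) := by
      calc π = π ^ 3 * π := by rw [h3, one_mul]
        _ = _ := by simp [pow_succ, mul_assoc]
    rw [e]
    exact hperm _
  have hS₁' : Rt hf G S₁ := by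
    intro u hu d hd
    obtain ⟨g, hg, hge⟩ := hS (u ∘ π) (fun k hk => hu _ ((hπS k).2 hk)) d hd
    refine ⟨permGL π * g * (permGL π)⁻¹, G.mul_mem (G.mul_mem hπG hg) (G.inv_mem hπG), ?_⟩
    rw [Units.val_mul, Units.val_mul, hge, mul_add, mul_one, add_mul, Units.mul_inv, mul_smul_comm,
      smul_mul_assoc]
    congr 2
    rw [TWreath.coe_permGL, Pm, permMat_mul_pmat, mul_assoc, ← TWreath.coe_permGL (F := F) π,
      Units.mul_inv, mul_one, Pm]
    congr 1
    funext k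
    obtain ⟨j, rfl⟩ := π.surjective k
    simp only [Function.comp_apply, Equiv.Perm.coe_inv, Equiv.symm_apply_apply, hπS]
  obtain ⟨v₀, -, hv₀0, hv₀⟩ := exists_isotropic_mem hf (W := ⊤)
    (by rw [finrank_top, finrank_fin_fun]; omega)
  obtain ⟨p₀, hp₀, hvp, hpv⟩ := exists_partner hf hv₀0 hv₀
  have hp₀0 : p₀ ≠ 0 := fun e => one_ne_zero (α := F) (by rw [← hpv, e, Unit.zero_left hf])
  obtain ⟨τ, hτ0, hτ⟩ := exists_trace_zero hf.ne_refl hf.involutive
  obtain ⟨gA, hgA, hA⟩ := hS (fun _ => v₀) (fun _ _ => hv₀) τ hτ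
  obtain ⟨gB, hgB, hB⟩ := hS₁' (fun _ => p₀) (fun _ _ => hp₀) τ hτ
  set a : Fin (s + 2) → Matrix (Fin m) (Fin m) F := fun k => if k ∈ S then Nm hf v₀ else 1
  set b : Fin (s + 2) → Matrix (Fin m) (Fin m) F := fun k => if k ∈ S₁ then Nm hf p₀ else 1
  have hPa : Pm hf S (fun _ => v₀) = pmat a := rfl
  have hPb : Pm hf S₁ (fun _ => p₀) = pmat b := rfl
  rw [hPa] at hA
  rw [hPb] at hB
  have hrS₁ : r ∈ S₁ := by simp [hS₁, hr, hxr.symm]
  have hxS₁ : x ∉ S₁ := by simp [hS₁, hxq]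
  have hqS₁ : q ∈ S₁ := by simp [hS₁]
  have hax : a x = Nm hf v₀ := if_pos hx
  have hbx : b x = 1 := if_neg hxS₁
  have hAA : pmat a * pmat a = 0 := by
    rw [pmat_mul]; exact pmat_zero_factor (i := r) (by simp [a, hr, Nm_sq hf hv₀])
  have hBB : pmat b * pmat b = 0 := by
    rw [pmat_mul]; exact pmat_zero_factor (i := r) (by simp [b, hrS₁, Nm_sq hf hp₀])
  have hABA : pmat a * pmat b * pmat a = 0 := by
    rw [pmat_mul, pmat_mul]; exact pmat_zero_factor (i := x) (by simp [hax, hbx, Nm_sq hf hv₀])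
  have hBAB : pmat b * pmat a * pmat b = 0 := by
    rw [pmat_mul, pmat_mul]
    exact pmat_zero_factor (i := q) (by simp [a, b, hq, hqS₁, Nm_sq hf hp₀])
  set R₁ := Function.update (fun k => a k * b k) x 1
  set R₂ := Function.update (fun k => b k * a k) x 1
  set Y := (τ * τ) • (pmat R₁ - pmat R₂) with hY
  have hinv : ∀ {g : GL (Fin (s + 2) → Fin m) F} {M}, g.val = 1 + τ • M → M * M = 0 →
      (g⁻¹ : GL (Fin (s + 2) → Fin m) F).val = 1 - τ • M := fun {g M} e h0 => by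
    refine Units.inv_eq_of_mul_eq_one_right ?_
    rw [e, add_mul, one_mul, mul_sub, mul_one, smul_mul_smul_comm, h0, smul_zero]
    abel
  have hYX : Y ∈ Xs hf G x v₀ := by
    refine ⟨fun X => ?_, gA * gB * gA⁻¹ * gB⁻¹,
      G.mul_mem (G.mul_mem (G.mul_mem hgA hgB) (G.inv_mem hgA)) (G.inv_mem hgB), ?_⟩
    · show _ = _
      simp [hY, R₁, R₂, sub_mul, mul_sub, slot_mul_pmat, pmat_mul_slot]
    · have e1 : ∀ M N : Matrix (Fin (s + 2) → Fin m) (Fin (s + 2) → Fin m) F,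
          M * M = 0 → N * N = 0 → M * N * M = 0 → N * M * N = 0 →
          (1 + M) * (1 + N) * (1 - M) * (1 - N) = 1 + (M * N - N * M) := by
        intro M N hMM hNN hMNM hNMN
        calc (1 + M) * (1 + N) * (1 - M) * (1 - N) = 1 + (M * N - N * M) - M * M + M * M * N - N * N +
            N * M * N - M * N * M - M * (N * N) + M * N * M * N := by noncomm_ring
          _ = _ := by rw [hMM, hNN, hMNM, hNMN]; simp
      rw [Units.val_mul, Units.val_mul, Units.val_mul, hA, hB, hinv hA hAA, hinv hB hBB,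
        e1 _ _ (by rw [smul_mul_smul_comm, hAA, smul_zero]) (by rw [smul_mul_smul_comm, hBB, smul_zero])
          (by rw [smul_mul_smul_comm, smul_mul_smul_comm, hABA, smul_zero])
          (by rw [smul_mul_smul_comm, smul_mul_smul_comm, hBAB, smul_zero]),
        smul_mul_smul_comm, smul_mul_smul_comm, ← smul_sub, hY, smul_mul_assoc, sub_mul,
        pmat_mul_slot, pmat_mul_slot, pmat_mul, pmat_mul]
      congr 4
      all_goals
        funext j
        rcases eq_or_ne j x with rfl | hj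
        · simp [R₁, R₂, hax, hbx]
        · simp [R₁, R₂, Function.update_of_ne hj]
  have hpvp : Nm hf p₀ * (Nm hf v₀ * Nm hf p₀) = Nm hf p₀ := by
    rw [← mul_assoc, Nm_sandwich, Nm_trace_mul, Nm_mulVec, hpv, one_smul, hvp, one_smul]
  have hR0 : Y ≠ 0 := by
    intro h0
    have h1 : slot r (Nm hf p₀) * (pmat R₁ - pmat R₂) = 0 := by
      rw [hY, smul_eq_zero, or_iff_right (mul_ne_zero hτ0 hτ0)] at h0
      rw [h0, mul_zero]
    rw [mul_sub, slot_mul_pmat, slot_mul_pmat,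
      pmat_zero_factor (A := Function.update R₂ r _) (i := r) (by
        simp [R₂, Function.update_of_ne hxr.symm, a, b, hr, hrS₁, ← mul_assoc, Nm_sq hf hp₀]),
      sub_zero] at h1
    refine pmat_ne_zero (fun j => ?_) h1
    rcases eq_or_ne j r with rfl | hjr
    · simp [R₁, Function.update_of_ne hxr.symm, a, b, hr, hrS₁, hpvp, Nm_ne_zero hf hp₀0]
    rw [Function.update_of_ne hjr]
    rcases eq_or_ne j x with rfl | hjx
    · simp [R₁]
    simp only [R₁, Function.update_of_ne hjx, a, b]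
    split_ifs
    · intro h2
      exact Nm_ne_zero hf hp₀0 (by rw [← hpvp, h2, mul_zero])
    · rw [mul_one]; exact Nm_ne_zero hf hv₀0
    · rw [one_mul]; exact Nm_ne_zero hf hp₀0
    · rw [one_mul]; exact one_ne_zero
  obtain ⟨w', η, hη1, hη2, hη3⟩ := exists_dot_two hm v₀ p₀
  have hN0 : ∀ u, η ⬝ᵥ u = 0 → Matrix.vecMulVec w' η * Nm hf u = 0 := fun u hu => by
    refine ext_of_mulVec_single fun i => ?_
    rw [← mulVec_mulVec, Nm_mulVec, mulVec_smul, vecMulVec_mulVec, hu, zero_mulVec]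
    simp
  have hN0ne : Matrix.vecMulVec w' η ≠ 0 := fun h0 => by
    have hw' : w' ≠ 0 := fun e => by rw [e, dotProduct_zero] at hη3; exact zero_ne_one hη3
    have h1 := congrArg (fun M => M *ᵥ w') h0
    simp only [vecMulVec_mulVec, hη3, zero_mulVec] at h1
    exact hw' (by simpa using h1)
  obtain ⟨B, d, hd, hBX, hBl, hB, hBA, -⟩ := reduce hm T hv₀ hYX hR0 S₁ (fun k hk => by
    have hkx : k ≠ x := fun e => hxS₁ (e ▸ hk)
    refine ⟨hkx, Matrix.vecMulVec w' η, hN0ne, ?_⟩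
    have hbk : b k = Nm hf p₀ := if_pos hk
    rw [hY, mul_smul_comm, mul_sub, slot_mul_pmat, slot_mul_pmat,
      pmat_zero_factor (A := Function.update R₁ k _) (i := k) ?_,
      pmat_zero_factor (A := Function.update R₂ k _) (i := k) ?_, sub_zero, smul_zero]
    · simp [R₂, Function.update_of_ne hkx, hbk, ← mul_assoc, hN0 p₀ hη2]
    · simp only [Function.update_self, R₁, Function.update_of_ne hkx, hbk]
      by_cases hkS : k ∈ S
      · simp [a, hkS, ← mul_assoc, hN0 v₀ hη1]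
      · simp [a, hkS, hN0 p₀ hη2])
  refine ⟨_, ?_, Rt_of_reduce hm T hv₀0 hv₀ hd hBX hBl hB⟩
  have hsub : insert q S ⊆ insert x (Finset.univ.filter fun k => B k ≠ 1) := fun k hk => by
    rcases eq_or_ne k x with rfl | hkx
    · exact Finset.mem_insert_self _ _
    · refine Finset.mem_insert_of_mem (Finset.mem_filter.2 ⟨Finset.mem_univ k, hBA k ?_⟩)
      rcases Finset.mem_insert.1 hk with rfl | hk
      · exact hqS₁
      · simp [hS₁, hkx, hk]
  have := Finset.card_le_card hsub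
  rw [Finset.card_insert_of_notMem hq] at this
  omega

/-- Root elements on all slots. -/
theorem Rt_univ (hm : 3 ≤ m) (T : TW σ c H f G)
    (hperm : ∀ π : Equiv.Perm (Fin (s + 2)), permGL (F := F) (k := m) (π * π) ∈ G)
    (hS : ¬ OS T.pow.hf G) : Rt T.pow.hf G Finset.univ := by
  classical
  suffices key : ∀ (j : ℕ) (S : Finset (Fin (s + 2))), s + 2 - S.card = j → 2 ≤ S.card →
      Rt T.pow.hf G S → Rt T.pow.hf G Finset.univ by
    obtain ⟨S, h2, hR⟩ := exists_Rt hm T hS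
    exact key _ S rfl h2 hR
  intro j
  induction j using Nat.strong_induction_on with
  | _ j IH =>
    intro S hj h2 hR
    rcases eq_or_ne S Finset.univ with rfl | hne
    · exact hR
    obtain ⟨S', hlt, hR'⟩ := Rt_grow hm T hperm h2 hne hR
    have hle := Finset.card_le_univ S'
    rw [Fintype.card_fin] at hle
    exact IH _ (by omega) S' rfl (by omega) hR'

/-- The pure isotropic vectors carry all their transvections. -/
theorem pure_mem_uSet (hm : 3 ≤ m) (T : TW σ c H f G)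
    (hperm : ∀ π : Equiv.Perm (Fin (s + 2)), permGL (F := F) (k := m) (π * π) ∈ G)
    (hS : ¬ OS T.pow.hf G) (u : Fin (s + 2) → Fin m → F) (hu : ∀ k, f (u k) (u k) = 0) :
    pv u ∈ uSet T.pow.hh G := by
  have hf := T.pow.hf
  have hz : H (pv u) (pv u) = 0 := by
    rw [T.pow.prod, Finset.prod_eq_zero (Finset.mem_univ 0) (hu 0), mul_zero]
  refine ⟨hz, fun a ha => ?_⟩
  obtain ⟨g, hg, hge⟩ := Rt_univ hm T hperm hS u (fun k _ => hu k) (a * c)
    (by rw [map_mul, ha, T.pow.c_fixed (by omega), neg_mul])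
  suffices uTv T.pow.hh (pv u) a = g by rw [this]; exact hg
  refine gl_ext_pv fun w => ?_
  rw [uTv_mulVec T.pow.hh hz, hge, add_mulVec, one_mulVec, smul_mulVec, Pm, T.pow.prod]
  congr 1
  show _ = (a * c) • (pmat _ *ᵥ TWreath.pvec w)
  rw [TWreath.pmat_mulVec_pvec]
  funext b
  simp only [if_pos (Finset.mem_univ _), Nm_mulVec, Pi.smul_apply, smul_eq_mul, TWreath.pvec, pv,
    Finset.prod_mul_distrib]
  ring

end CfsgLib.ClassicalMax.TWU
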