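/-
Stabilisers of tensor powers of a unitary form are maximal in the special unitary group.
-/
import Cfsg.Agent.Lib.ClassicalMax.TWU.Average
import Cfsg.Agent.Lib.ClassicalMax.TWU.Seed
import Cfsg.Agent.Lib.ClassicalMax.TWU.Fill
import Cfsg.Agent.Lib.ClassicalMax.TensorTools
import Cfsg.Agent.Lib.ClassicalMax.SympTools
set_option autoImplicit false
set_option linter.unusedSectionVars false

namespace CfsgLib.ClassicalMax.TWU

open Matrix Kronecker Module Cfsg.Geo
open CfsgLib.ClassicalMax.Kron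
open CfsgLib.ClassicalMax.Unit
open CfsgLib.ClassicalMax.TensorUnit (exists_partner)
open CfsgLib.ClassicalMax.TWreath (slot slot_eq slot_injective permGL)

local notation:80 g:81 " •ᵥ " z:80 => Matrix.mulVec (Units.val g) z

variable {F : Type*} [Field F] [DecidableEq F] [Fintype F] {m s : ℕ} {σ : F ≃+* F} {c : F}
  {f : (Fin m → F) → (Fin m → F) → F}

/-- A group with scalar root maps at the slots respects the tensor structure. -/
theorem le_wr (hm : 3 ≤ m) (hex : 4 ≤ m ∨ ∃ μ : F, σ μ = μ ∧ μ ≠ 0 ∧ μ ≠ 1) :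
    ∀ (s : ℕ) (c : F) (H : ((Fin (s + 1) → Fin m) → F) → ((Fin (s + 1) → Fin m) → F) → F)
      (G : Subgroup (GL (Fin (s + 1) → Fin m) F)) (T : TW σ c H f G), OS T.pow.hf G →
        G ≤ wr m (s + 1) F := by
  intro s
  induction s with
  | zero =>
    intro c H G T _ g _
    refine mem_wr_of_roots hm T.pow.hf fun l v _ _ => ?_
    have hs : Function.Surjective (slot (F := F) (k := m) (0 : Fin 1)) := fun M =>
      ⟨Matrix.of fun p q => M (fun _ => p) (fun _ => q), by
        ext a b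
        rw [TWreath.slot_apply, if_pos fun l hl => absurd (Subsingleton.elim l 0) hl, Matrix.of_apply]
        congr 2 <;> funext l <;> rw [Subsingleton.elim l 0]⟩
    obtain ⟨N, hN⟩ := hs (g.val * slot l (Nm T.pow.hf v) * (g⁻¹ : GL (Fin 1 → Fin m) F).val)
    exact ⟨0, N, hN.symm⟩
  | succ s ih =>
    intro c H G T hS
    refine le_wr_step hm hex T hS fun j => ?_
    obtain ⟨h', T', hS'⟩ := T.comap (by omega) hS j
    exact ih c h' _ T' hS'

lemma det_perm_sq {t : ℕ} (π : Equiv.Perm (Fin t)) :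
    (permGL (π * π) : GL (Fin t → Fin m) F) ∈ specialLinear (Fin t → Fin m) F := by
  rw [specialLinear, MonoidHom.mem_ker, Units.ext_iff, GeneralLinearGroup.val_det_apply,
    Units.val_one, TWreath.coe_permGL, ← TWreath.permMat_mul, Matrix.det_mul]
  have e : (TWreath.permMat π⁻¹ : Matrix (Fin t → Fin m) (Fin t → Fin m) F) =
      (TWreath.permMat π).transpose := by
    ext a b
    simp only [TWreath.permMat, Matrix.transpose_apply]
    refine if_congr ⟨fun h => ?_, fun h => ?_⟩ rfl rfl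
    · rw [h]; funext l; simp
    · rw [h]; funext l; simp
  have h1 := congrArg Matrix.det
    (TWreath.permMat_mul (k := m) (F := F) π π⁻¹)
  rwa [mul_inv_cancel, TWreath.permMat_one, Matrix.det_one, Matrix.det_mul, e,
    Matrix.det_transpose] at h1

lemma sG_mem_sl (i : Fin (s + 1)) {B : GL (Fin m) F} (hB : B ∈ specialLinear (Fin m) F) :
    sG i B ∈ specialLinear (Fin (s + 1) → Fin m) F := by
  rw [← at'_mem_sl, at'_sG]
  rw [specialLinear, MonoidHom.mem_ker, Units.ext_iff, GeneralLinearGroup.val_det_apply,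
    Units.val_one] at hB ⊢
  show Matrix.det ((1 : Matrix (Fin (m ^ s)) (Fin (m ^ s)) F) ⊗ₖ B.val) = 1
  rw [Matrix.det_kronecker, Matrix.det_one, hB, one_pow, one_pow, one_mul]

variable {G : Subgroup (GL (Fin (s + 2) → Fin m) F)}
  {H : ((Fin (s + 2) → Fin m) → F) → ((Fin (s + 2) → Fin m) → F) → F}

/-- A transvection at a pure isotropic vector does not respect the tensor structure. -/
theorem exists_not_wr (hm : 3 ≤ m) (P : Pow σ c H f) :
    ∃ g ∈ isoOf H ⊓ specialLinear (Fin (s + 2) → Fin m) F, g ∉ wr m (s + 2) F := by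
  have hf := P.hf
  obtain ⟨v, -, hv0, hv⟩ := exists_isotropic_mem hf (W := ⊤)
    (by rw [finrank_top, finrank_fin_fun]; omega)
  obtain ⟨p, hp, hvp, hpv⟩ := exists_partner hf hv0 hv
  obtain ⟨τ, hτ0, hτ⟩ := exists_trace_zero hf.ne_refl hf.involutive
  set y := pv fun _ : Fin (s + 2) => v with hy
  have hyy : H y y = 0 := by
    rw [hy, P.prod, Finset.prod_eq_zero (Finset.mem_univ 0) hv, mul_zero]
  refine ⟨uTv P.hh y τ, ⟨uTv_mem_isoOf P.hh hyy hτ, uTv_mem_sl _ _ _⟩, ?_⟩
  rintro ⟨π, a, hg⟩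
  have h1 := hg fun _ => p
  rw [uTv_mulVec P.hh hyy, hy, P.prod] at h1
  simp only [hpv, Finset.prod_const_one, mul_one] at h1
  set q : Fin (s + 2) → Fin m → F := fun i => a i •ᵥ p
  have key : ∀ η : Fin (s + 2) → Fin m → F,
      (∏ k, η k ⬝ᵥ p) + τ * c * ∏ k, η k ⬝ᵥ v = ∏ k, η k ⬝ᵥ q k := fun η => by
    have h2 := congrArg (pv η ⬝ᵥ ·) h1
    simpa only [dotProduct_add, dotProduct_smul, pv_dot, smul_eq_mul] using h2
  have hA := key fun _ => Unit.formDual hf v
  have hB := key fun _ => Unit.formDual hf p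
  have hC := key (Function.update (fun _ => Unit.formDual hf v) 0 (Unit.formDual hf p))
  simp only [Unit.formDual_dot, hpv, hv, hp, hvp, Finset.prod_const_one, Finset.prod_const,
    Finset.card_univ, Fintype.card_fin, zero_pow (Nat.succ_ne_zero (s + 1)), mul_zero, add_zero,
    zero_add, one_pow, mul_one] at hA hB
  rw [← Finset.mul_prod_erase _ _ (Finset.mem_univ (0 : Fin (s + 2))),
    ← Finset.mul_prod_erase _ _ (Finset.mem_univ (0 : Fin (s + 2))),
    ← Finset.mul_prod_erase _ _ (Finset.mem_univ (0 : Fin (s + 2))), Function.update_self,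
    Unit.formDual_dot, Unit.formDual_dot, Unit.formDual_dot, hp, zero_mul, zero_add,
    Finset.prod_eq_zero (i := (1 : Fin (s + 2))) (Finset.mem_erase.2 ⟨by simp, Finset.mem_univ _⟩)
      (by rw [Function.update_of_ne (by simp), Unit.formDual_dot, hv]), mul_zero, mul_zero,
    Finset.prod_congr rfl fun k hk => by
      rw [Function.update_of_ne (Finset.ne_of_mem_erase hk), Unit.formDual_dot]] at hC
  rcases mul_eq_zero.1 hC.symm with h | h
  · rw [Finset.prod_eq_zero (Finset.mem_univ 0) h] at hB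
    exact mul_ne_zero hτ0 P.c_ne hB
  · obtain ⟨k, -, hk⟩ := Finset.prod_eq_zero_iff.1 h
    rw [Finset.prod_eq_zero (Finset.mem_univ k) hk] at hA
    exact one_ne_zero hA

/-- A group above the stabiliser is the stabiliser or everything. -/
theorem between (hm : 3 ≤ m) (hex : 4 ≤ m ∨ ∃ μ : F, σ μ = μ ∧ μ ≠ 0 ∧ μ ≠ 1) (P : Pow σ c H f)
    (hG : wr m (s + 2) F ⊓ (isoOf H ⊓ specialLinear (Fin (s + 2) → Fin m) F) ≤ G)
    (hGK : G ≤ isoOf H ⊓ specialLinear (Fin (s + 2) → Fin m) F) :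
    G ≤ wr m (s + 2) F ∨ isoOf H ⊓ specialLinear (Fin (s + 2) → Fin m) F ≤ G := by
  have T : TW σ c H f G := ⟨P, fun g hg => (hGK hg).1, fun i B hB =>
    hG ⟨sG_mem_wr i B, sG_mem_iso (by omega) P i hB.1, sG_mem_sl i hB.2⟩⟩
  by_cases hS : OS T.pow.hf G
  · exact Or.inl (le_wr hm hex (s + 1) c H G T hS)
  · exact Or.inr (iso_inf_sl_le_of_pure hm T (pure_mem_uSet hm T (fun π =>
      hG ⟨wr_eq (F := F) ▸ TWreath.permGL_mem_std _, permGL_mem_iso P _, det_perm_sq π⟩) hS))

/-- The stabiliser of a tensor power decomposition of a unitary form is maximal. -/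
theorem unit_tensor_wreath_maximal {ι : Type} [Fintype ι] [DecidableEq ι] {k t : ℕ}
    {fι : (ι → F) → (ι → F) → F} (hfι : IsUnitaryForm σ fι) (e : ι ≃ (Fin t → Fin k)) (P : GL ι F)
    {f₁ : (Fin k → F) → (Fin k → F) → F} (hf₁ : IsUnitaryForm σ f₁)
    (hT : IsTensorPowerFormStructure (fun x => σ x) fι f₁ e P) (hk : 3 ≤ k) (ht : 2 ≤ t)
    (hex : 4 ≤ k ∨ ∃ μ : F, σ μ = μ ∧ μ ≠ 0 ∧ μ ≠ 1) :
    IsMaximalIn (isoOf fι ⊓ specialLinear ι F)
      (tensorWreathSubgroup k t e P ⊓ (isoOf fι ⊓ specialLinear ι F)) := by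
  obtain ⟨s, rfl⟩ : ∃ s, t = s + 2 := ⟨t - 2, by omega⟩
  obtain ⟨c, hc0, hc⟩ := hT
  let L : ((Fin (s + 2) → Fin k) → F) →ₗ[F] (ι → F) :=
    Matrix.toLin' (P : Matrix ι ι F) ∘ₗ LinearMap.funLeft F F e
  have hL : ∀ z, L z = P •ᵥ (z ∘ e) := fun z => Matrix.toLin'_apply _ _
  have hLinv : ∀ x, L ((P⁻¹ •ᵥ x) ∘ e.symm) = x := fun x => by
    rw [hL, Function.comp_assoc, Equiv.symm_comp_self, Function.comp_id, gl_mulVec_inv_mulVec]
  have hLinj : Function.Injective L := fun z z' hz => by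
    rw [hL, hL] at hz
    exact e.surjective.injective_comp_right (gl_mulVec_injective P hz)
  set h : ((Fin (s + 2) → Fin k) → F) → ((Fin (s + 2) → Fin k) → F) → F :=
    fun z z' => fι (L z) (L z') with hh
  have hhU : IsUnitaryForm σ h :=
    { ne_refl := hfι.ne_refl
      involutive := hfι.involutive
      add_left := fun x y v => by simp only [hh, map_add, hfι.add_left]
      smul_left := fun c x v => by simp only [hh, map_smul, hfι.smul_left]
      herm := fun v w => hfι.herm _ _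
      nondegenerate := fun v hv => by
        obtain ⟨⟨x, hx⟩, y, hy⟩ :=
          hfι.nondegenerate (L v) fun e0 => hv (hLinj (e0.trans (map_zero L).symm))
        exact ⟨⟨(P⁻¹ •ᵥ x) ∘ e.symm, by
          show fι (L _) _ ≠ 0
          rwa [hLinv]⟩, ⟨(P⁻¹ •ᵥ y) ∘ e.symm, by
          show fι _ (L _) ≠ 0
          rwa [hLinv]⟩⟩ }
  have hgram : ∀ u v, formOfGram (fun x => σ x) (gramMatrix f₁) u v = f₁ u v := fun u v =>
    Tensor.formOfGram_gram hf₁.add_left hf₁.smul_left (Unit.add_right hf₁)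
      (fun d v x => Unit.smul_right hf₁ d v x) u v
  have hP : Pow σ c h f₁ := ⟨hhU, hf₁, hc0, fun u u' => by
    show fι (L (pv u)) (L (pv u')) = _
    rw [hL, hL, hc]
    congr 1
    simp only [← hgram, formOfGram, pv, map_prod, ← Finset.prod_mul_distrib]
    rw [Fintype.prod_sum]
    refine Finset.sum_congr rfl fun a _ => ?_
    rw [Fintype.prod_sum]⟩
  set Φ : GL (Fin (s + 2) → Fin k) F ≃* GL ι F := (glReindex e.symm).trans (MulAut.conj P) with hΦ
  have hΦL : ∀ g z, (Φ g) •ᵥ L z = L (g •ᵥ z) := fun g z => by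
    rw [hL, hL]
    change ((P * glReindex e.symm g * P⁻¹ : GL ι F) : Matrix ι ι F) *ᵥ _ = _
    rw [gl_mulVec_mul, gl_mulVec_mul, gl_inv_mulVec_mulVec]
    congr 1
    show ((g : Matrix (Fin (s + 2) → Fin k) (Fin (s + 2) → Fin k) F).submatrix e.symm.symm e.symm.symm) *ᵥ
      (z ∘ e) = _
    rw [Matrix.submatrix_mulVec_equiv]
    simp [Function.comp_assoc]
  have hdet : ∀ g : GL (Fin (s + 2) → Fin k) F,
      Φ g ∈ specialLinear ι F ↔ g ∈ specialLinear (Fin (s + 2) → Fin k) F := by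
    intro g
    rw [specialLinear, specialLinear, MonoidHom.mem_ker, MonoidHom.mem_ker, Units.ext_iff,
      Units.ext_iff, GeneralLinearGroup.val_det_apply, GeneralLinearGroup.val_det_apply,
      Units.val_one]
    have : Matrix.det (Φ g : Matrix ι ι F) =
        Matrix.det (g : Matrix (Fin (s + 2) → Fin k) (Fin (s + 2) → Fin k) F) := by
      rw [hΦ, MulEquiv.trans_apply, MulAut.conj_apply, Units.val_mul, Units.val_mul,
        Matrix.det_units_conj]
      show Matrix.det (Matrix.reindex e.symm e.symm _) = _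
      rw [Matrix.det_reindex_self]
    rw [this]
  have hmem : ∀ g, Φ g ∈ isoOf fι ⊓ specialLinear ι F ↔
      g ∈ isoOf h ⊓ specialLinear (Fin (s + 2) → Fin k) F := by
    intro g
    rw [Subgroup.mem_inf, Subgroup.mem_inf, hdet]
    refine and_congr_left fun _ => ⟨fun hg z z' => ?_, fun hg x y => ?_⟩
    · show fι (L (g •ᵥ z)) (L (g •ᵥ z')) = fι (L z) (L z')
      rw [← hΦL, ← hΦL]
      exact hg _ _
    · show fι (Φ g •ᵥ x) (Φ g •ᵥ y) = fι x y
      rw [← hLinv x, ← hLinv y, hΦL, hΦL]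
      exact hg _ _
  have hstd : ∀ g, Φ g ∈ tensorWreathSubgroup k (s + 2) e P ↔ g ∈ wr k (s + 2) F := fun g => by
    rw [hΦ, tensorWreathSubgroup, MulEquiv.trans_apply, ← wr_eq]
    exact (Subgroup.mem_map_iff_mem (MulAut.conj P).injective).trans
      (Subgroup.mem_map_iff_mem (glReindex e.symm).injective)
  obtain ⟨g₀, hg₀, hg₀'⟩ := exists_not_wr hk hP
  refine isMaximalIn_of inf_le_right
    ⟨Φ g₀, (hmem g₀).2 hg₀, fun h => hg₀' ((hstd g₀).1 h.1)⟩ ?_
  intro M hHM hMK g hgM hgH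
  rcases between (G := M.comap Φ.toMonoidHom) hk hex hP
    (fun x hx => hHM ⟨(hstd x).2 hx.1, (hmem x).2 hx.2⟩) (fun x hx => (hmem x).1 (hMK hx)) with h1 | h1
  · obtain ⟨x, rfl⟩ := Φ.surjective g
    exact absurd ⟨(hstd x).2 (h1 hgM), hMK hgM⟩ hgH
  · intro z hz
    obtain ⟨x, rfl⟩ := Φ.surjective z
    exact h1 ((hmem x).1 hz)

end CfsgLib.ClassicalMax.TWU
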